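import Cfsg.Agent.CosetCert.Fi24Index.Defs

/-! Generated: kernel checks. -/

set_option Elab.async false

namespace Cfsg.Agent.CosetCert.Fi24Index

theorem pairs_okAt20000 : allFrom (data.checkPairs row braids (List.range 12)) 20000 500 = true := by decide +kernel

theorem pairs_okAt20500 : allFrom (data.checkPairs row braids (List.range 12)) 20500 500 = true := by decide +kernel

theorem pairs_okAt21000 : allFrom (data.checkPairs row braids (List.range 12)) 21000 500 = true := by decide +kernel

theorem pairs_okAt21500 : allFrom (data.checkPairs row braids (List.range 12)) 21500 500 = true := by decide +kernel

theorem pairs_okAt22000 : allFrom (data.checkPairs row braids (List.range 12)) 22000 500 = true := by decide +kernel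

theorem pairs_okAt22500 : allFrom (data.checkPairs row braids (List.range 12)) 22500 500 = true := by decide +kernel

theorem pairs_okAt23000 : allFrom (data.checkPairs row braids (List.range 12)) 23000 500 = true := by decide +kernel

theorem pairs_okAt23500 : allFrom (data.checkPairs row braids (List.range 12)) 23500 500 = true := by decide +kernel

theorem pairs_okAt24000 : allFrom (data.checkPairs row braids (List.range 12)) 24000 500 = true := by decide +kernel

theorem pairs_okAt24500 : allFrom (data.checkPairs row braids (List.range 12)) 24500 500 = true := by decide +kernel

theorem pairs_okAt25000 : allFrom (data.checkPairs row braids (List.range 12)) 25000 500 = true := by decide +kernel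

theorem pairs_okAt25500 : allFrom (data.checkPairs row braids (List.range 12)) 25500 500 = true := by decide +kernel

theorem pairs_okAt26000 : allFrom (data.checkPairs row braids (List.range 12)) 26000 500 = true := by decide +kernel

theorem pairs_okAt26500 : allFrom (data.checkPairs row braids (List.range 12)) 26500 500 = true := by decide +kernel

theorem pairs_okAt27000 : allFrom (data.checkPairs row braids (List.range 12)) 27000 500 = true := by decide +kernel

theorem pairs_okAt27500 : allFrom (data.checkPairs row braids (List.range 12)) 27500 500 = true := by decide +kernel

theorem pairs_okAt28000 : allFrom (data.checkPairs row braids (List.range 12)) 28000 500 = true := by decide +kernel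

theorem pairs_okAt28500 : allFrom (data.checkPairs row braids (List.range 12)) 28500 500 = true := by decide +kernel

theorem pairs_okAt29000 : allFrom (data.checkPairs row braids (List.range 12)) 29000 500 = true := by decide +kernel

theorem pairs_okAt29500 : allFrom (data.checkPairs row braids (List.range 12)) 29500 500 = true := by decide +kernel

theorem pairs_okAt30000 : allFrom (data.checkPairs row braids (List.range 12)) 30000 500 = true := by decide +kernel

theorem pairs_okAt30500 : allFrom (data.checkPairs row braids (List.range 12)) 30500 500 = true := by decide +kernel

theorem pairs_okAt31000 : allFrom (data.checkPairs row braids (List.range 12)) 31000 500 = true := by decide +kernel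

theorem pairs_okAt31500 : allFrom (data.checkPairs row braids (List.range 12)) 31500 500 = true := by decide +kernel

theorem pairs_okAt32000 : allFrom (data.checkPairs row braids (List.range 12)) 32000 500 = true := by decide +kernel

theorem pairs_okAt32500 : allFrom (data.checkPairs row braids (List.range 12)) 32500 500 = true := by decide +kernel

theorem pairs_okAt33000 : allFrom (data.checkPairs row braids (List.range 12)) 33000 500 = true := by decide +kernel

theorem pairs_okAt33500 : allFrom (data.checkPairs row braids (List.range 12)) 33500 500 = true := by decide +kernel

theorem pairs_okAt34000 : allFrom (data.checkPairs row braids (List.range 12)) 34000 500 = true := by decide +kernel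

theorem pairs_okAt34500 : allFrom (data.checkPairs row braids (List.range 12)) 34500 500 = true := by decide +kernel

theorem pairs_okAt35000 : allFrom (data.checkPairs row braids (List.range 12)) 35000 500 = true := by decide +kernel

theorem pairs_okAt35500 : allFrom (data.checkPairs row braids (List.range 12)) 35500 500 = true := by decide +kernel

theorem pairs_okAt36000 : allFrom (data.checkPairs row braids (List.range 12)) 36000 500 = true := by decide +kernel

theorem pairs_okAt36500 : allFrom (data.checkPairs row braids (List.range 12)) 36500 500 = true := by decide +kernel

theorem pairs_okAt37000 : allFrom (data.checkPairs row braids (List.range 12)) 37000 500 = true := by decide +kernel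

theorem pairs_okAt37500 : allFrom (data.checkPairs row braids (List.range 12)) 37500 500 = true := by decide +kernel

theorem pairs_okAt38000 : allFrom (data.checkPairs row braids (List.range 12)) 38000 500 = true := by decide +kernel

theorem pairs_okAt38500 : allFrom (data.checkPairs row braids (List.range 12)) 38500 500 = true := by decide +kernel

theorem pairs_okAt39000 : allFrom (data.checkPairs row braids (List.range 12)) 39000 500 = true := by decide +kernel

theorem pairs_okAt39500 : allFrom (data.checkPairs row braids (List.range 12)) 39500 500 = true := by decide +kernel

end Cfsg.Agent.CosetCert.Fi24Index
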