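import Cfsg.Agent.CosetCert.Fi24Index.Defs

/-! Generated: kernel checks. -/

set_option Elab.async false

namespace Cfsg.Agent.CosetCert.Fi24Index

theorem pairs_okAt200000 : allFrom (data.checkPairs row braids (List.range 12)) 200000 500 = true := by decide +kernel

theorem pairs_okAt200500 : allFrom (data.checkPairs row braids (List.range 12)) 200500 500 = true := by decide +kernel

theorem pairs_okAt201000 : allFrom (data.checkPairs row braids (List.range 12)) 201000 500 = true := by decide +kernel

theorem pairs_okAt201500 : allFrom (data.checkPairs row braids (List.range 12)) 201500 500 = true := by decide +kernel

theorem pairs_okAt202000 : allFrom (data.checkPairs row braids (List.range 12)) 202000 500 = true := by decide +kernel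

theorem pairs_okAt202500 : allFrom (data.checkPairs row braids (List.range 12)) 202500 500 = true := by decide +kernel

theorem pairs_okAt203000 : allFrom (data.checkPairs row braids (List.range 12)) 203000 500 = true := by decide +kernel

theorem pairs_okAt203500 : allFrom (data.checkPairs row braids (List.range 12)) 203500 500 = true := by decide +kernel

theorem pairs_okAt204000 : allFrom (data.checkPairs row braids (List.range 12)) 204000 500 = true := by decide +kernel

theorem pairs_okAt204500 : allFrom (data.checkPairs row braids (List.range 12)) 204500 500 = true := by decide +kernel

theorem pairs_okAt205000 : allFrom (data.checkPairs row braids (List.range 12)) 205000 500 = true := by decide +kernel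

theorem pairs_okAt205500 : allFrom (data.checkPairs row braids (List.range 12)) 205500 500 = true := by decide +kernel

theorem pairs_okAt206000 : allFrom (data.checkPairs row braids (List.range 12)) 206000 500 = true := by decide +kernel

theorem pairs_okAt206500 : allFrom (data.checkPairs row braids (List.range 12)) 206500 500 = true := by decide +kernel

theorem pairs_okAt207000 : allFrom (data.checkPairs row braids (List.range 12)) 207000 500 = true := by decide +kernel

theorem pairs_okAt207500 : allFrom (data.checkPairs row braids (List.range 12)) 207500 500 = true := by decide +kernel

theorem pairs_okAt208000 : allFrom (data.checkPairs row braids (List.range 12)) 208000 500 = true := by decide +kernel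

theorem pairs_okAt208500 : allFrom (data.checkPairs row braids (List.range 12)) 208500 500 = true := by decide +kernel

theorem pairs_okAt209000 : allFrom (data.checkPairs row braids (List.range 12)) 209000 500 = true := by decide +kernel

theorem pairs_okAt209500 : allFrom (data.checkPairs row braids (List.range 12)) 209500 500 = true := by decide +kernel

theorem pairs_okAt210000 : allFrom (data.checkPairs row braids (List.range 12)) 210000 500 = true := by decide +kernel

theorem pairs_okAt210500 : allFrom (data.checkPairs row braids (List.range 12)) 210500 500 = true := by decide +kernel

theorem pairs_okAt211000 : allFrom (data.checkPairs row braids (List.range 12)) 211000 500 = true := by decide +kernel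

theorem pairs_okAt211500 : allFrom (data.checkPairs row braids (List.range 12)) 211500 500 = true := by decide +kernel

theorem pairs_okAt212000 : allFrom (data.checkPairs row braids (List.range 12)) 212000 500 = true := by decide +kernel

theorem pairs_okAt212500 : allFrom (data.checkPairs row braids (List.range 12)) 212500 500 = true := by decide +kernel

theorem pairs_okAt213000 : allFrom (data.checkPairs row braids (List.range 12)) 213000 500 = true := by decide +kernel

theorem pairs_okAt213500 : allFrom (data.checkPairs row braids (List.range 12)) 213500 500 = true := by decide +kernel

theorem pairs_okAt214000 : allFrom (data.checkPairs row braids (List.range 12)) 214000 500 = true := by decide +kernel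

theorem pairs_okAt214500 : allFrom (data.checkPairs row braids (List.range 12)) 214500 500 = true := by decide +kernel

theorem pairs_okAt215000 : allFrom (data.checkPairs row braids (List.range 12)) 215000 500 = true := by decide +kernel

theorem pairs_okAt215500 : allFrom (data.checkPairs row braids (List.range 12)) 215500 500 = true := by decide +kernel

theorem pairs_okAt216000 : allFrom (data.checkPairs row braids (List.range 12)) 216000 500 = true := by decide +kernel

theorem pairs_okAt216500 : allFrom (data.checkPairs row braids (List.range 12)) 216500 500 = true := by decide +kernel

theorem pairs_okAt217000 : allFrom (data.checkPairs row braids (List.range 12)) 217000 500 = true := by decide +kernel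

theorem pairs_okAt217500 : allFrom (data.checkPairs row braids (List.range 12)) 217500 500 = true := by decide +kernel

theorem pairs_okAt218000 : allFrom (data.checkPairs row braids (List.range 12)) 218000 500 = true := by decide +kernel

theorem pairs_okAt218500 : allFrom (data.checkPairs row braids (List.range 12)) 218500 500 = true := by decide +kernel

theorem pairs_okAt219000 : allFrom (data.checkPairs row braids (List.range 12)) 219000 500 = true := by decide +kernel

theorem pairs_okAt219500 : allFrom (data.checkPairs row braids (List.range 12)) 219500 500 = true := by decide +kernel

end Cfsg.Agent.CosetCert.Fi24Index
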