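import Cfsg.Agent.CosetCert.Fi24Index.Defs

/-! Generated: kernel checks. -/

set_option Elab.async false

namespace Cfsg.Agent.CosetCert.Fi24Index

theorem pairs_okAt240000 : allFrom (data.checkPairs row braids (List.range 12)) 240000 500 = true := by decide +kernel

theorem pairs_okAt240500 : allFrom (data.checkPairs row braids (List.range 12)) 240500 500 = true := by decide +kernel

theorem pairs_okAt241000 : allFrom (data.checkPairs row braids (List.range 12)) 241000 500 = true := by decide +kernel

theorem pairs_okAt241500 : allFrom (data.checkPairs row braids (List.range 12)) 241500 500 = true := by decide +kernel

theorem pairs_okAt242000 : allFrom (data.checkPairs row braids (List.range 12)) 242000 500 = true := by decide +kernel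

theorem pairs_okAt242500 : allFrom (data.checkPairs row braids (List.range 12)) 242500 500 = true := by decide +kernel

theorem pairs_okAt243000 : allFrom (data.checkPairs row braids (List.range 12)) 243000 500 = true := by decide +kernel

theorem pairs_okAt243500 : allFrom (data.checkPairs row braids (List.range 12)) 243500 500 = true := by decide +kernel

theorem pairs_okAt244000 : allFrom (data.checkPairs row braids (List.range 12)) 244000 500 = true := by decide +kernel

theorem pairs_okAt244500 : allFrom (data.checkPairs row braids (List.range 12)) 244500 500 = true := by decide +kernel

theorem pairs_okAt245000 : allFrom (data.checkPairs row braids (List.range 12)) 245000 500 = true := by decide +kernel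

theorem pairs_okAt245500 : allFrom (data.checkPairs row braids (List.range 12)) 245500 500 = true := by decide +kernel

theorem pairs_okAt246000 : allFrom (data.checkPairs row braids (List.range 12)) 246000 500 = true := by decide +kernel

theorem pairs_okAt246500 : allFrom (data.checkPairs row braids (List.range 12)) 246500 500 = true := by decide +kernel

theorem pairs_okAt247000 : allFrom (data.checkPairs row braids (List.range 12)) 247000 500 = true := by decide +kernel

theorem pairs_okAt247500 : allFrom (data.checkPairs row braids (List.range 12)) 247500 500 = true := by decide +kernel

theorem pairs_okAt248000 : allFrom (data.checkPairs row braids (List.range 12)) 248000 500 = true := by decide +kernel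

theorem pairs_okAt248500 : allFrom (data.checkPairs row braids (List.range 12)) 248500 500 = true := by decide +kernel

theorem pairs_okAt249000 : allFrom (data.checkPairs row braids (List.range 12)) 249000 500 = true := by decide +kernel

theorem pairs_okAt249500 : allFrom (data.checkPairs row braids (List.range 12)) 249500 500 = true := by decide +kernel

theorem pairs_okAt250000 : allFrom (data.checkPairs row braids (List.range 12)) 250000 500 = true := by decide +kernel

theorem pairs_okAt250500 : allFrom (data.checkPairs row braids (List.range 12)) 250500 500 = true := by decide +kernel

theorem pairs_okAt251000 : allFrom (data.checkPairs row braids (List.range 12)) 251000 500 = true := by decide +kernel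

theorem pairs_okAt251500 : allFrom (data.checkPairs row braids (List.range 12)) 251500 500 = true := by decide +kernel

theorem pairs_okAt252000 : allFrom (data.checkPairs row braids (List.range 12)) 252000 500 = true := by decide +kernel

theorem pairs_okAt252500 : allFrom (data.checkPairs row braids (List.range 12)) 252500 500 = true := by decide +kernel

theorem pairs_okAt253000 : allFrom (data.checkPairs row braids (List.range 12)) 253000 500 = true := by decide +kernel

theorem pairs_okAt253500 : allFrom (data.checkPairs row braids (List.range 12)) 253500 500 = true := by decide +kernel

theorem pairs_okAt254000 : allFrom (data.checkPairs row braids (List.range 12)) 254000 500 = true := by decide +kernel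

theorem pairs_okAt254500 : allFrom (data.checkPairs row braids (List.range 12)) 254500 500 = true := by decide +kernel

theorem pairs_okAt255000 : allFrom (data.checkPairs row braids (List.range 12)) 255000 500 = true := by decide +kernel

theorem pairs_okAt255500 : allFrom (data.checkPairs row braids (List.range 12)) 255500 500 = true := by decide +kernel

theorem pairs_okAt256000 : allFrom (data.checkPairs row braids (List.range 12)) 256000 500 = true := by decide +kernel

theorem pairs_okAt256500 : allFrom (data.checkPairs row braids (List.range 12)) 256500 500 = true := by decide +kernel

theorem pairs_okAt257000 : allFrom (data.checkPairs row braids (List.range 12)) 257000 500 = true := by decide +kernel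

theorem pairs_okAt257500 : allFrom (data.checkPairs row braids (List.range 12)) 257500 500 = true := by decide +kernel

theorem pairs_okAt258000 : allFrom (data.checkPairs row braids (List.range 12)) 258000 500 = true := by decide +kernel

theorem pairs_okAt258500 : allFrom (data.checkPairs row braids (List.range 12)) 258500 500 = true := by decide +kernel

theorem pairs_okAt259000 : allFrom (data.checkPairs row braids (List.range 12)) 259000 500 = true := by decide +kernel

theorem pairs_okAt259500 : allFrom (data.checkPairs row braids (List.range 12)) 259500 500 = true := by decide +kernel

end Cfsg.Agent.CosetCert.Fi24Index
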