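import Cfsg.Agent.CosetCert.Fi24Index.Defs

/-! Generated: kernel checks. -/

set_option Elab.async false

namespace Cfsg.Agent.CosetCert.Fi24Index

theorem pairs_okAt260000 : allFrom (data.checkPairs row braids (List.range 12)) 260000 500 = true := by decide +kernel

theorem pairs_okAt260500 : allFrom (data.checkPairs row braids (List.range 12)) 260500 500 = true := by decide +kernel

theorem pairs_okAt261000 : allFrom (data.checkPairs row braids (List.range 12)) 261000 500 = true := by decide +kernel

theorem pairs_okAt261500 : allFrom (data.checkPairs row braids (List.range 12)) 261500 500 = true := by decide +kernel

theorem pairs_okAt262000 : allFrom (data.checkPairs row braids (List.range 12)) 262000 500 = true := by decide +kernel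

theorem pairs_okAt262500 : allFrom (data.checkPairs row braids (List.range 12)) 262500 500 = true := by decide +kernel

theorem pairs_okAt263000 : allFrom (data.checkPairs row braids (List.range 12)) 263000 500 = true := by decide +kernel

theorem pairs_okAt263500 : allFrom (data.checkPairs row braids (List.range 12)) 263500 500 = true := by decide +kernel

theorem pairs_okAt264000 : allFrom (data.checkPairs row braids (List.range 12)) 264000 500 = true := by decide +kernel

theorem pairs_okAt264500 : allFrom (data.checkPairs row braids (List.range 12)) 264500 500 = true := by decide +kernel

theorem pairs_okAt265000 : allFrom (data.checkPairs row braids (List.range 12)) 265000 500 = true := by decide +kernel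

theorem pairs_okAt265500 : allFrom (data.checkPairs row braids (List.range 12)) 265500 500 = true := by decide +kernel

theorem pairs_okAt266000 : allFrom (data.checkPairs row braids (List.range 12)) 266000 500 = true := by decide +kernel

theorem pairs_okAt266500 : allFrom (data.checkPairs row braids (List.range 12)) 266500 500 = true := by decide +kernel

theorem pairs_okAt267000 : allFrom (data.checkPairs row braids (List.range 12)) 267000 500 = true := by decide +kernel

theorem pairs_okAt267500 : allFrom (data.checkPairs row braids (List.range 12)) 267500 500 = true := by decide +kernel

theorem pairs_okAt268000 : allFrom (data.checkPairs row braids (List.range 12)) 268000 500 = true := by decide +kernel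

theorem pairs_okAt268500 : allFrom (data.checkPairs row braids (List.range 12)) 268500 500 = true := by decide +kernel

theorem pairs_okAt269000 : allFrom (data.checkPairs row braids (List.range 12)) 269000 500 = true := by decide +kernel

theorem pairs_okAt269500 : allFrom (data.checkPairs row braids (List.range 12)) 269500 500 = true := by decide +kernel

theorem pairs_okAt270000 : allFrom (data.checkPairs row braids (List.range 12)) 270000 500 = true := by decide +kernel

theorem pairs_okAt270500 : allFrom (data.checkPairs row braids (List.range 12)) 270500 500 = true := by decide +kernel

theorem pairs_okAt271000 : allFrom (data.checkPairs row braids (List.range 12)) 271000 500 = true := by decide +kernel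

theorem pairs_okAt271500 : allFrom (data.checkPairs row braids (List.range 12)) 271500 500 = true := by decide +kernel

theorem pairs_okAt272000 : allFrom (data.checkPairs row braids (List.range 12)) 272000 500 = true := by decide +kernel

theorem pairs_okAt272500 : allFrom (data.checkPairs row braids (List.range 12)) 272500 500 = true := by decide +kernel

theorem pairs_okAt273000 : allFrom (data.checkPairs row braids (List.range 12)) 273000 500 = true := by decide +kernel

theorem pairs_okAt273500 : allFrom (data.checkPairs row braids (List.range 12)) 273500 500 = true := by decide +kernel

theorem pairs_okAt274000 : allFrom (data.checkPairs row braids (List.range 12)) 274000 500 = true := by decide +kernel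

theorem pairs_okAt274500 : allFrom (data.checkPairs row braids (List.range 12)) 274500 500 = true := by decide +kernel

theorem pairs_okAt275000 : allFrom (data.checkPairs row braids (List.range 12)) 275000 500 = true := by decide +kernel

theorem pairs_okAt275500 : allFrom (data.checkPairs row braids (List.range 12)) 275500 500 = true := by decide +kernel

theorem pairs_okAt276000 : allFrom (data.checkPairs row braids (List.range 12)) 276000 500 = true := by decide +kernel

theorem pairs_okAt276500 : allFrom (data.checkPairs row braids (List.range 12)) 276500 500 = true := by decide +kernel

theorem pairs_okAt277000 : allFrom (data.checkPairs row braids (List.range 12)) 277000 500 = true := by decide +kernel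

theorem pairs_okAt277500 : allFrom (data.checkPairs row braids (List.range 12)) 277500 500 = true := by decide +kernel

theorem pairs_okAt278000 : allFrom (data.checkPairs row braids (List.range 12)) 278000 500 = true := by decide +kernel

theorem pairs_okAt278500 : allFrom (data.checkPairs row braids (List.range 12)) 278500 500 = true := by decide +kernel

theorem pairs_okAt279000 : allFrom (data.checkPairs row braids (List.range 12)) 279000 500 = true := by decide +kernel

theorem pairs_okAt279500 : allFrom (data.checkPairs row braids (List.range 12)) 279500 500 = true := by decide +kernel

end Cfsg.Agent.CosetCert.Fi24Index
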