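import Cfsg.Agent.CosetCert.Fi24Index.Defs

/-! Generated: kernel checks. -/

set_option Elab.async false

namespace Cfsg.Agent.CosetCert.Fi24Index

theorem pairs_okAt280000 : allFrom (data.checkPairs row braids (List.range 12)) 280000 500 = true := by decide +kernel

theorem pairs_okAt280500 : allFrom (data.checkPairs row braids (List.range 12)) 280500 500 = true := by decide +kernel

theorem pairs_okAt281000 : allFrom (data.checkPairs row braids (List.range 12)) 281000 500 = true := by decide +kernel

theorem pairs_okAt281500 : allFrom (data.checkPairs row braids (List.range 12)) 281500 500 = true := by decide +kernel

theorem pairs_okAt282000 : allFrom (data.checkPairs row braids (List.range 12)) 282000 500 = true := by decide +kernel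

theorem pairs_okAt282500 : allFrom (data.checkPairs row braids (List.range 12)) 282500 500 = true := by decide +kernel

theorem pairs_okAt283000 : allFrom (data.checkPairs row braids (List.range 12)) 283000 500 = true := by decide +kernel

theorem pairs_okAt283500 : allFrom (data.checkPairs row braids (List.range 12)) 283500 500 = true := by decide +kernel

theorem pairs_okAt284000 : allFrom (data.checkPairs row braids (List.range 12)) 284000 500 = true := by decide +kernel

theorem pairs_okAt284500 : allFrom (data.checkPairs row braids (List.range 12)) 284500 500 = true := by decide +kernel

theorem pairs_okAt285000 : allFrom (data.checkPairs row braids (List.range 12)) 285000 500 = true := by decide +kernel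

theorem pairs_okAt285500 : allFrom (data.checkPairs row braids (List.range 12)) 285500 500 = true := by decide +kernel

theorem pairs_okAt286000 : allFrom (data.checkPairs row braids (List.range 12)) 286000 500 = true := by decide +kernel

theorem pairs_okAt286500 : allFrom (data.checkPairs row braids (List.range 12)) 286500 500 = true := by decide +kernel

theorem pairs_okAt287000 : allFrom (data.checkPairs row braids (List.range 12)) 287000 500 = true := by decide +kernel

theorem pairs_okAt287500 : allFrom (data.checkPairs row braids (List.range 12)) 287500 500 = true := by decide +kernel

theorem pairs_okAt288000 : allFrom (data.checkPairs row braids (List.range 12)) 288000 500 = true := by decide +kernel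

theorem pairs_okAt288500 : allFrom (data.checkPairs row braids (List.range 12)) 288500 500 = true := by decide +kernel

theorem pairs_okAt289000 : allFrom (data.checkPairs row braids (List.range 12)) 289000 500 = true := by decide +kernel

theorem pairs_okAt289500 : allFrom (data.checkPairs row braids (List.range 12)) 289500 500 = true := by decide +kernel

theorem pairs_okAt290000 : allFrom (data.checkPairs row braids (List.range 12)) 290000 500 = true := by decide +kernel

theorem pairs_okAt290500 : allFrom (data.checkPairs row braids (List.range 12)) 290500 500 = true := by decide +kernel

theorem pairs_okAt291000 : allFrom (data.checkPairs row braids (List.range 12)) 291000 500 = true := by decide +kernel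

theorem pairs_okAt291500 : allFrom (data.checkPairs row braids (List.range 12)) 291500 500 = true := by decide +kernel

theorem pairs_okAt292000 : allFrom (data.checkPairs row braids (List.range 12)) 292000 500 = true := by decide +kernel

theorem pairs_okAt292500 : allFrom (data.checkPairs row braids (List.range 12)) 292500 500 = true := by decide +kernel

theorem pairs_okAt293000 : allFrom (data.checkPairs row braids (List.range 12)) 293000 500 = true := by decide +kernel

theorem pairs_okAt293500 : allFrom (data.checkPairs row braids (List.range 12)) 293500 500 = true := by decide +kernel

theorem pairs_okAt294000 : allFrom (data.checkPairs row braids (List.range 12)) 294000 500 = true := by decide +kernel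

theorem pairs_okAt294500 : allFrom (data.checkPairs row braids (List.range 12)) 294500 500 = true := by decide +kernel

theorem pairs_okAt295000 : allFrom (data.checkPairs row braids (List.range 12)) 295000 500 = true := by decide +kernel

theorem pairs_okAt295500 : allFrom (data.checkPairs row braids (List.range 12)) 295500 500 = true := by decide +kernel

theorem pairs_okAt296000 : allFrom (data.checkPairs row braids (List.range 12)) 296000 500 = true := by decide +kernel

theorem pairs_okAt296500 : allFrom (data.checkPairs row braids (List.range 12)) 296500 500 = true := by decide +kernel

theorem pairs_okAt297000 : allFrom (data.checkPairs row braids (List.range 12)) 297000 500 = true := by decide +kernel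

theorem pairs_okAt297500 : allFrom (data.checkPairs row braids (List.range 12)) 297500 500 = true := by decide +kernel

theorem pairs_okAt298000 : allFrom (data.checkPairs row braids (List.range 12)) 298000 500 = true := by decide +kernel

theorem pairs_okAt298500 : allFrom (data.checkPairs row braids (List.range 12)) 298500 500 = true := by decide +kernel

theorem pairs_okAt299000 : allFrom (data.checkPairs row braids (List.range 12)) 299000 500 = true := by decide +kernel

theorem pairs_okAt299500 : allFrom (data.checkPairs row braids (List.range 12)) 299500 500 = true := by decide +kernel

end Cfsg.Agent.CosetCert.Fi24Index
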