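import Cfsg.Agent.CosetCert.Fi24Index.Defs

/-! Generated: kernel checks. -/

set_option Elab.async false

namespace Cfsg.Agent.CosetCert.Fi24Index

theorem pairs_okAt300000 : allFrom (data.checkPairs row braids (List.range 12)) 300000 500 = true := by decide +kernel

theorem pairs_okAt300500 : allFrom (data.checkPairs row braids (List.range 12)) 300500 500 = true := by decide +kernel

theorem pairs_okAt301000 : allFrom (data.checkPairs row braids (List.range 12)) 301000 500 = true := by decide +kernel

theorem pairs_okAt301500 : allFrom (data.checkPairs row braids (List.range 12)) 301500 500 = true := by decide +kernel

theorem pairs_okAt302000 : allFrom (data.checkPairs row braids (List.range 12)) 302000 500 = true := by decide +kernel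

theorem pairs_okAt302500 : allFrom (data.checkPairs row braids (List.range 12)) 302500 500 = true := by decide +kernel

theorem pairs_okAt303000 : allFrom (data.checkPairs row braids (List.range 12)) 303000 500 = true := by decide +kernel

theorem pairs_okAt303500 : allFrom (data.checkPairs row braids (List.range 12)) 303500 500 = true := by decide +kernel

theorem pairs_okAt304000 : allFrom (data.checkPairs row braids (List.range 12)) 304000 500 = true := by decide +kernel

theorem pairs_okAt304500 : allFrom (data.checkPairs row braids (List.range 12)) 304500 500 = true := by decide +kernel

theorem pairs_okAt305000 : allFrom (data.checkPairs row braids (List.range 12)) 305000 500 = true := by decide +kernel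

theorem pairs_okAt305500 : allFrom (data.checkPairs row braids (List.range 12)) 305500 500 = true := by decide +kernel

theorem pairs_okAt306000 : allFrom (data.checkPairs row braids (List.range 12)) 306000 500 = true := by decide +kernel

theorem pairs_okAt306500 : allFrom (data.checkPairs row braids (List.range 12)) 306500 436 = true := by decide +kernel

end Cfsg.Agent.CosetCert.Fi24Index
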