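import Cfsg.Agent.CosetCert.Fi24Index.Defs

/-! Generated: kernel checks. -/

set_option Elab.async false

namespace Cfsg.Agent.CosetCert.Fi24Index

theorem pairs_okAt40000 : allFrom (data.checkPairs row braids (List.range 12)) 40000 500 = true := by decide +kernel

theorem pairs_okAt40500 : allFrom (data.checkPairs row braids (List.range 12)) 40500 500 = true := by decide +kernel

theorem pairs_okAt41000 : allFrom (data.checkPairs row braids (List.range 12)) 41000 500 = true := by decide +kernel

theorem pairs_okAt41500 : allFrom (data.checkPairs row braids (List.range 12)) 41500 500 = true := by decide +kernel

theorem pairs_okAt42000 : allFrom (data.checkPairs row braids (List.range 12)) 42000 500 = true := by decide +kernel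

theorem pairs_okAt42500 : allFrom (data.checkPairs row braids (List.range 12)) 42500 500 = true := by decide +kernel

theorem pairs_okAt43000 : allFrom (data.checkPairs row braids (List.range 12)) 43000 500 = true := by decide +kernel

theorem pairs_okAt43500 : allFrom (data.checkPairs row braids (List.range 12)) 43500 500 = true := by decide +kernel

theorem pairs_okAt44000 : allFrom (data.checkPairs row braids (List.range 12)) 44000 500 = true := by decide +kernel

theorem pairs_okAt44500 : allFrom (data.checkPairs row braids (List.range 12)) 44500 500 = true := by decide +kernel

theorem pairs_okAt45000 : allFrom (data.checkPairs row braids (List.range 12)) 45000 500 = true := by decide +kernel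

theorem pairs_okAt45500 : allFrom (data.checkPairs row braids (List.range 12)) 45500 500 = true := by decide +kernel

theorem pairs_okAt46000 : allFrom (data.checkPairs row braids (List.range 12)) 46000 500 = true := by decide +kernel

theorem pairs_okAt46500 : allFrom (data.checkPairs row braids (List.range 12)) 46500 500 = true := by decide +kernel

theorem pairs_okAt47000 : allFrom (data.checkPairs row braids (List.range 12)) 47000 500 = true := by decide +kernel

theorem pairs_okAt47500 : allFrom (data.checkPairs row braids (List.range 12)) 47500 500 = true := by decide +kernel

theorem pairs_okAt48000 : allFrom (data.checkPairs row braids (List.range 12)) 48000 500 = true := by decide +kernel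

theorem pairs_okAt48500 : allFrom (data.checkPairs row braids (List.range 12)) 48500 500 = true := by decide +kernel

theorem pairs_okAt49000 : allFrom (data.checkPairs row braids (List.range 12)) 49000 500 = true := by decide +kernel

theorem pairs_okAt49500 : allFrom (data.checkPairs row braids (List.range 12)) 49500 500 = true := by decide +kernel

theorem pairs_okAt50000 : allFrom (data.checkPairs row braids (List.range 12)) 50000 500 = true := by decide +kernel

theorem pairs_okAt50500 : allFrom (data.checkPairs row braids (List.range 12)) 50500 500 = true := by decide +kernel

theorem pairs_okAt51000 : allFrom (data.checkPairs row braids (List.range 12)) 51000 500 = true := by decide +kernel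

theorem pairs_okAt51500 : allFrom (data.checkPairs row braids (List.range 12)) 51500 500 = true := by decide +kernel

theorem pairs_okAt52000 : allFrom (data.checkPairs row braids (List.range 12)) 52000 500 = true := by decide +kernel

theorem pairs_okAt52500 : allFrom (data.checkPairs row braids (List.range 12)) 52500 500 = true := by decide +kernel

theorem pairs_okAt53000 : allFrom (data.checkPairs row braids (List.range 12)) 53000 500 = true := by decide +kernel

theorem pairs_okAt53500 : allFrom (data.checkPairs row braids (List.range 12)) 53500 500 = true := by decide +kernel

theorem pairs_okAt54000 : allFrom (data.checkPairs row braids (List.range 12)) 54000 500 = true := by decide +kernel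

theorem pairs_okAt54500 : allFrom (data.checkPairs row braids (List.range 12)) 54500 500 = true := by decide +kernel

theorem pairs_okAt55000 : allFrom (data.checkPairs row braids (List.range 12)) 55000 500 = true := by decide +kernel

theorem pairs_okAt55500 : allFrom (data.checkPairs row braids (List.range 12)) 55500 500 = true := by decide +kernel

theorem pairs_okAt56000 : allFrom (data.checkPairs row braids (List.range 12)) 56000 500 = true := by decide +kernel

theorem pairs_okAt56500 : allFrom (data.checkPairs row braids (List.range 12)) 56500 500 = true := by decide +kernel

theorem pairs_okAt57000 : allFrom (data.checkPairs row braids (List.range 12)) 57000 500 = true := by decide +kernel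

theorem pairs_okAt57500 : allFrom (data.checkPairs row braids (List.range 12)) 57500 500 = true := by decide +kernel

theorem pairs_okAt58000 : allFrom (data.checkPairs row braids (List.range 12)) 58000 500 = true := by decide +kernel

theorem pairs_okAt58500 : allFrom (data.checkPairs row braids (List.range 12)) 58500 500 = true := by decide +kernel

theorem pairs_okAt59000 : allFrom (data.checkPairs row braids (List.range 12)) 59000 500 = true := by decide +kernel

theorem pairs_okAt59500 : allFrom (data.checkPairs row braids (List.range 12)) 59500 500 = true := by decide +kernel

end Cfsg.Agent.CosetCert.Fi24Index
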