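import Cfsg.Agent.CosetCert.Fi24Index.Defs

/-! Generated: kernel checks. -/

set_option Elab.async false

namespace Cfsg.Agent.CosetCert.Fi24Index

theorem pairs_okAt60000 : allFrom (data.checkPairs row braids (List.range 12)) 60000 500 = true := by decide +kernel

theorem pairs_okAt60500 : allFrom (data.checkPairs row braids (List.range 12)) 60500 500 = true := by decide +kernel

theorem pairs_okAt61000 : allFrom (data.checkPairs row braids (List.range 12)) 61000 500 = true := by decide +kernel

theorem pairs_okAt61500 : allFrom (data.checkPairs row braids (List.range 12)) 61500 500 = true := by decide +kernel

theorem pairs_okAt62000 : allFrom (data.checkPairs row braids (List.range 12)) 62000 500 = true := by decide +kernel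

theorem pairs_okAt62500 : allFrom (data.checkPairs row braids (List.range 12)) 62500 500 = true := by decide +kernel

theorem pairs_okAt63000 : allFrom (data.checkPairs row braids (List.range 12)) 63000 500 = true := by decide +kernel

theorem pairs_okAt63500 : allFrom (data.checkPairs row braids (List.range 12)) 63500 500 = true := by decide +kernel

theorem pairs_okAt64000 : allFrom (data.checkPairs row braids (List.range 12)) 64000 500 = true := by decide +kernel

theorem pairs_okAt64500 : allFrom (data.checkPairs row braids (List.range 12)) 64500 500 = true := by decide +kernel

theorem pairs_okAt65000 : allFrom (data.checkPairs row braids (List.range 12)) 65000 500 = true := by decide +kernel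

theorem pairs_okAt65500 : allFrom (data.checkPairs row braids (List.range 12)) 65500 500 = true := by decide +kernel

theorem pairs_okAt66000 : allFrom (data.checkPairs row braids (List.range 12)) 66000 500 = true := by decide +kernel

theorem pairs_okAt66500 : allFrom (data.checkPairs row braids (List.range 12)) 66500 500 = true := by decide +kernel

theorem pairs_okAt67000 : allFrom (data.checkPairs row braids (List.range 12)) 67000 500 = true := by decide +kernel

theorem pairs_okAt67500 : allFrom (data.checkPairs row braids (List.range 12)) 67500 500 = true := by decide +kernel

theorem pairs_okAt68000 : allFrom (data.checkPairs row braids (List.range 12)) 68000 500 = true := by decide +kernel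

theorem pairs_okAt68500 : allFrom (data.checkPairs row braids (List.range 12)) 68500 500 = true := by decide +kernel

theorem pairs_okAt69000 : allFrom (data.checkPairs row braids (List.range 12)) 69000 500 = true := by decide +kernel

theorem pairs_okAt69500 : allFrom (data.checkPairs row braids (List.range 12)) 69500 500 = true := by decide +kernel

theorem pairs_okAt70000 : allFrom (data.checkPairs row braids (List.range 12)) 70000 500 = true := by decide +kernel

theorem pairs_okAt70500 : allFrom (data.checkPairs row braids (List.range 12)) 70500 500 = true := by decide +kernel

theorem pairs_okAt71000 : allFrom (data.checkPairs row braids (List.range 12)) 71000 500 = true := by decide +kernel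

theorem pairs_okAt71500 : allFrom (data.checkPairs row braids (List.range 12)) 71500 500 = true := by decide +kernel

theorem pairs_okAt72000 : allFrom (data.checkPairs row braids (List.range 12)) 72000 500 = true := by decide +kernel

theorem pairs_okAt72500 : allFrom (data.checkPairs row braids (List.range 12)) 72500 500 = true := by decide +kernel

theorem pairs_okAt73000 : allFrom (data.checkPairs row braids (List.range 12)) 73000 500 = true := by decide +kernel

theorem pairs_okAt73500 : allFrom (data.checkPairs row braids (List.range 12)) 73500 500 = true := by decide +kernel

theorem pairs_okAt74000 : allFrom (data.checkPairs row braids (List.range 12)) 74000 500 = true := by decide +kernel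

theorem pairs_okAt74500 : allFrom (data.checkPairs row braids (List.range 12)) 74500 500 = true := by decide +kernel

theorem pairs_okAt75000 : allFrom (data.checkPairs row braids (List.range 12)) 75000 500 = true := by decide +kernel

theorem pairs_okAt75500 : allFrom (data.checkPairs row braids (List.range 12)) 75500 500 = true := by decide +kernel

theorem pairs_okAt76000 : allFrom (data.checkPairs row braids (List.range 12)) 76000 500 = true := by decide +kernel

theorem pairs_okAt76500 : allFrom (data.checkPairs row braids (List.range 12)) 76500 500 = true := by decide +kernel

theorem pairs_okAt77000 : allFrom (data.checkPairs row braids (List.range 12)) 77000 500 = true := by decide +kernel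

theorem pairs_okAt77500 : allFrom (data.checkPairs row braids (List.range 12)) 77500 500 = true := by decide +kernel

theorem pairs_okAt78000 : allFrom (data.checkPairs row braids (List.range 12)) 78000 500 = true := by decide +kernel

theorem pairs_okAt78500 : allFrom (data.checkPairs row braids (List.range 12)) 78500 500 = true := by decide +kernel

theorem pairs_okAt79000 : allFrom (data.checkPairs row braids (List.range 12)) 79000 500 = true := by decide +kernel

theorem pairs_okAt79500 : allFrom (data.checkPairs row braids (List.range 12)) 79500 500 = true := by decide +kernel

end Cfsg.Agent.CosetCert.Fi24Index
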