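import Cfsg.Agent.CosetCert.Fi24Index.Defs

/-! Generated: kernel checks. -/

set_option Elab.async false

namespace Cfsg.Agent.CosetCert.Fi24Index

theorem pairs_okAt80000 : allFrom (data.checkPairs row braids (List.range 12)) 80000 500 = true := by decide +kernel

theorem pairs_okAt80500 : allFrom (data.checkPairs row braids (List.range 12)) 80500 500 = true := by decide +kernel

theorem pairs_okAt81000 : allFrom (data.checkPairs row braids (List.range 12)) 81000 500 = true := by decide +kernel

theorem pairs_okAt81500 : allFrom (data.checkPairs row braids (List.range 12)) 81500 500 = true := by decide +kernel

theorem pairs_okAt82000 : allFrom (data.checkPairs row braids (List.range 12)) 82000 500 = true := by decide +kernel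

theorem pairs_okAt82500 : allFrom (data.checkPairs row braids (List.range 12)) 82500 500 = true := by decide +kernel

theorem pairs_okAt83000 : allFrom (data.checkPairs row braids (List.range 12)) 83000 500 = true := by decide +kernel

theorem pairs_okAt83500 : allFrom (data.checkPairs row braids (List.range 12)) 83500 500 = true := by decide +kernel

theorem pairs_okAt84000 : allFrom (data.checkPairs row braids (List.range 12)) 84000 500 = true := by decide +kernel

theorem pairs_okAt84500 : allFrom (data.checkPairs row braids (List.range 12)) 84500 500 = true := by decide +kernel

theorem pairs_okAt85000 : allFrom (data.checkPairs row braids (List.range 12)) 85000 500 = true := by decide +kernel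

theorem pairs_okAt85500 : allFrom (data.checkPairs row braids (List.range 12)) 85500 500 = true := by decide +kernel

theorem pairs_okAt86000 : allFrom (data.checkPairs row braids (List.range 12)) 86000 500 = true := by decide +kernel

theorem pairs_okAt86500 : allFrom (data.checkPairs row braids (List.range 12)) 86500 500 = true := by decide +kernel

theorem pairs_okAt87000 : allFrom (data.checkPairs row braids (List.range 12)) 87000 500 = true := by decide +kernel

theorem pairs_okAt87500 : allFrom (data.checkPairs row braids (List.range 12)) 87500 500 = true := by decide +kernel

theorem pairs_okAt88000 : allFrom (data.checkPairs row braids (List.range 12)) 88000 500 = true := by decide +kernel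

theorem pairs_okAt88500 : allFrom (data.checkPairs row braids (List.range 12)) 88500 500 = true := by decide +kernel

theorem pairs_okAt89000 : allFrom (data.checkPairs row braids (List.range 12)) 89000 500 = true := by decide +kernel

theorem pairs_okAt89500 : allFrom (data.checkPairs row braids (List.range 12)) 89500 500 = true := by decide +kernel

theorem pairs_okAt90000 : allFrom (data.checkPairs row braids (List.range 12)) 90000 500 = true := by decide +kernel

theorem pairs_okAt90500 : allFrom (data.checkPairs row braids (List.range 12)) 90500 500 = true := by decide +kernel

theorem pairs_okAt91000 : allFrom (data.checkPairs row braids (List.range 12)) 91000 500 = true := by decide +kernel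

theorem pairs_okAt91500 : allFrom (data.checkPairs row braids (List.range 12)) 91500 500 = true := by decide +kernel

theorem pairs_okAt92000 : allFrom (data.checkPairs row braids (List.range 12)) 92000 500 = true := by decide +kernel

theorem pairs_okAt92500 : allFrom (data.checkPairs row braids (List.range 12)) 92500 500 = true := by decide +kernel

theorem pairs_okAt93000 : allFrom (data.checkPairs row braids (List.range 12)) 93000 500 = true := by decide +kernel

theorem pairs_okAt93500 : allFrom (data.checkPairs row braids (List.range 12)) 93500 500 = true := by decide +kernel

theorem pairs_okAt94000 : allFrom (data.checkPairs row braids (List.range 12)) 94000 500 = true := by decide +kernel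

theorem pairs_okAt94500 : allFrom (data.checkPairs row braids (List.range 12)) 94500 500 = true := by decide +kernel

theorem pairs_okAt95000 : allFrom (data.checkPairs row braids (List.range 12)) 95000 500 = true := by decide +kernel

theorem pairs_okAt95500 : allFrom (data.checkPairs row braids (List.range 12)) 95500 500 = true := by decide +kernel

theorem pairs_okAt96000 : allFrom (data.checkPairs row braids (List.range 12)) 96000 500 = true := by decide +kernel

theorem pairs_okAt96500 : allFrom (data.checkPairs row braids (List.range 12)) 96500 500 = true := by decide +kernel

theorem pairs_okAt97000 : allFrom (data.checkPairs row braids (List.range 12)) 97000 500 = true := by decide +kernel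

theorem pairs_okAt97500 : allFrom (data.checkPairs row braids (List.range 12)) 97500 500 = true := by decide +kernel

theorem pairs_okAt98000 : allFrom (data.checkPairs row braids (List.range 12)) 98000 500 = true := by decide +kernel

theorem pairs_okAt98500 : allFrom (data.checkPairs row braids (List.range 12)) 98500 500 = true := by decide +kernel

theorem pairs_okAt99000 : allFrom (data.checkPairs row braids (List.range 12)) 99000 500 = true := by decide +kernel

theorem pairs_okAt99500 : allFrom (data.checkPairs row braids (List.range 12)) 99500 500 = true := by decide +kernel

end Cfsg.Agent.CosetCert.Fi24Index
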