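import Cfsg.Agent.CosetCert.Fi24Index.Defs

/-! Generated: kernel checks. -/

set_option Elab.async false

namespace Cfsg.Agent.CosetCert.Fi24Index

theorem pairs_okAt100000 : allFrom (data.checkPairs row braids (List.range 12)) 100000 500 = true := by decide +kernel

theorem pairs_okAt100500 : allFrom (data.checkPairs row braids (List.range 12)) 100500 500 = true := by decide +kernel

theorem pairs_okAt101000 : allFrom (data.checkPairs row braids (List.range 12)) 101000 500 = true := by decide +kernel

theorem pairs_okAt101500 : allFrom (data.checkPairs row braids (List.range 12)) 101500 500 = true := by decide +kernel

theorem pairs_okAt102000 : allFrom (data.checkPairs row braids (List.range 12)) 102000 500 = true := by decide +kernel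

theorem pairs_okAt102500 : allFrom (data.checkPairs row braids (List.range 12)) 102500 500 = true := by decide +kernel

theorem pairs_okAt103000 : allFrom (data.checkPairs row braids (List.range 12)) 103000 500 = true := by decide +kernel

theorem pairs_okAt103500 : allFrom (data.checkPairs row braids (List.range 12)) 103500 500 = true := by decide +kernel

theorem pairs_okAt104000 : allFrom (data.checkPairs row braids (List.range 12)) 104000 500 = true := by decide +kernel

theorem pairs_okAt104500 : allFrom (data.checkPairs row braids (List.range 12)) 104500 500 = true := by decide +kernel

theorem pairs_okAt105000 : allFrom (data.checkPairs row braids (List.range 12)) 105000 500 = true := by decide +kernel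

theorem pairs_okAt105500 : allFrom (data.checkPairs row braids (List.range 12)) 105500 500 = true := by decide +kernel

theorem pairs_okAt106000 : allFrom (data.checkPairs row braids (List.range 12)) 106000 500 = true := by decide +kernel

theorem pairs_okAt106500 : allFrom (data.checkPairs row braids (List.range 12)) 106500 500 = true := by decide +kernel

theorem pairs_okAt107000 : allFrom (data.checkPairs row braids (List.range 12)) 107000 500 = true := by decide +kernel

theorem pairs_okAt107500 : allFrom (data.checkPairs row braids (List.range 12)) 107500 500 = true := by decide +kernel

theorem pairs_okAt108000 : allFrom (data.checkPairs row braids (List.range 12)) 108000 500 = true := by decide +kernel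

theorem pairs_okAt108500 : allFrom (data.checkPairs row braids (List.range 12)) 108500 500 = true := by decide +kernel

theorem pairs_okAt109000 : allFrom (data.checkPairs row braids (List.range 12)) 109000 500 = true := by decide +kernel

theorem pairs_okAt109500 : allFrom (data.checkPairs row braids (List.range 12)) 109500 500 = true := by decide +kernel

theorem pairs_okAt110000 : allFrom (data.checkPairs row braids (List.range 12)) 110000 500 = true := by decide +kernel

theorem pairs_okAt110500 : allFrom (data.checkPairs row braids (List.range 12)) 110500 500 = true := by decide +kernel

theorem pairs_okAt111000 : allFrom (data.checkPairs row braids (List.range 12)) 111000 500 = true := by decide +kernel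

theorem pairs_okAt111500 : allFrom (data.checkPairs row braids (List.range 12)) 111500 500 = true := by decide +kernel

theorem pairs_okAt112000 : allFrom (data.checkPairs row braids (List.range 12)) 112000 500 = true := by decide +kernel

theorem pairs_okAt112500 : allFrom (data.checkPairs row braids (List.range 12)) 112500 500 = true := by decide +kernel

theorem pairs_okAt113000 : allFrom (data.checkPairs row braids (List.range 12)) 113000 500 = true := by decide +kernel

theorem pairs_okAt113500 : allFrom (data.checkPairs row braids (List.range 12)) 113500 500 = true := by decide +kernel

theorem pairs_okAt114000 : allFrom (data.checkPairs row braids (List.range 12)) 114000 500 = true := by decide +kernel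

theorem pairs_okAt114500 : allFrom (data.checkPairs row braids (List.range 12)) 114500 500 = true := by decide +kernel

theorem pairs_okAt115000 : allFrom (data.checkPairs row braids (List.range 12)) 115000 500 = true := by decide +kernel

theorem pairs_okAt115500 : allFrom (data.checkPairs row braids (List.range 12)) 115500 500 = true := by decide +kernel

theorem pairs_okAt116000 : allFrom (data.checkPairs row braids (List.range 12)) 116000 500 = true := by decide +kernel

theorem pairs_okAt116500 : allFrom (data.checkPairs row braids (List.range 12)) 116500 500 = true := by decide +kernel

theorem pairs_okAt117000 : allFrom (data.checkPairs row braids (List.range 12)) 117000 500 = true := by decide +kernel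

theorem pairs_okAt117500 : allFrom (data.checkPairs row braids (List.range 12)) 117500 500 = true := by decide +kernel

theorem pairs_okAt118000 : allFrom (data.checkPairs row braids (List.range 12)) 118000 500 = true := by decide +kernel

theorem pairs_okAt118500 : allFrom (data.checkPairs row braids (List.range 12)) 118500 500 = true := by decide +kernel

theorem pairs_okAt119000 : allFrom (data.checkPairs row braids (List.range 12)) 119000 500 = true := by decide +kernel

theorem pairs_okAt119500 : allFrom (data.checkPairs row braids (List.range 12)) 119500 500 = true := by decide +kernel

end Cfsg.Agent.CosetCert.Fi24Index
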