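import Cfsg.Agent.CosetCert.Fi24Index.Defs

/-! Generated: kernel checks. -/

set_option Elab.async false

namespace Cfsg.Agent.CosetCert.Fi24Index

theorem pairs_okAt120000 : allFrom (data.checkPairs row braids (List.range 12)) 120000 500 = true := by decide +kernel

theorem pairs_okAt120500 : allFrom (data.checkPairs row braids (List.range 12)) 120500 500 = true := by decide +kernel

theorem pairs_okAt121000 : allFrom (data.checkPairs row braids (List.range 12)) 121000 500 = true := by decide +kernel

theorem pairs_okAt121500 : allFrom (data.checkPairs row braids (List.range 12)) 121500 500 = true := by decide +kernel

theorem pairs_okAt122000 : allFrom (data.checkPairs row braids (List.range 12)) 122000 500 = true := by decide +kernel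

theorem pairs_okAt122500 : allFrom (data.checkPairs row braids (List.range 12)) 122500 500 = true := by decide +kernel

theorem pairs_okAt123000 : allFrom (data.checkPairs row braids (List.range 12)) 123000 500 = true := by decide +kernel

theorem pairs_okAt123500 : allFrom (data.checkPairs row braids (List.range 12)) 123500 500 = true := by decide +kernel

theorem pairs_okAt124000 : allFrom (data.checkPairs row braids (List.range 12)) 124000 500 = true := by decide +kernel

theorem pairs_okAt124500 : allFrom (data.checkPairs row braids (List.range 12)) 124500 500 = true := by decide +kernel

theorem pairs_okAt125000 : allFrom (data.checkPairs row braids (List.range 12)) 125000 500 = true := by decide +kernel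

theorem pairs_okAt125500 : allFrom (data.checkPairs row braids (List.range 12)) 125500 500 = true := by decide +kernel

theorem pairs_okAt126000 : allFrom (data.checkPairs row braids (List.range 12)) 126000 500 = true := by decide +kernel

theorem pairs_okAt126500 : allFrom (data.checkPairs row braids (List.range 12)) 126500 500 = true := by decide +kernel

theorem pairs_okAt127000 : allFrom (data.checkPairs row braids (List.range 12)) 127000 500 = true := by decide +kernel

theorem pairs_okAt127500 : allFrom (data.checkPairs row braids (List.range 12)) 127500 500 = true := by decide +kernel

theorem pairs_okAt128000 : allFrom (data.checkPairs row braids (List.range 12)) 128000 500 = true := by decide +kernel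

theorem pairs_okAt128500 : allFrom (data.checkPairs row braids (List.range 12)) 128500 500 = true := by decide +kernel

theorem pairs_okAt129000 : allFrom (data.checkPairs row braids (List.range 12)) 129000 500 = true := by decide +kernel

theorem pairs_okAt129500 : allFrom (data.checkPairs row braids (List.range 12)) 129500 500 = true := by decide +kernel

theorem pairs_okAt130000 : allFrom (data.checkPairs row braids (List.range 12)) 130000 500 = true := by decide +kernel

theorem pairs_okAt130500 : allFrom (data.checkPairs row braids (List.range 12)) 130500 500 = true := by decide +kernel

theorem pairs_okAt131000 : allFrom (data.checkPairs row braids (List.range 12)) 131000 500 = true := by decide +kernel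

theorem pairs_okAt131500 : allFrom (data.checkPairs row braids (List.range 12)) 131500 500 = true := by decide +kernel

theorem pairs_okAt132000 : allFrom (data.checkPairs row braids (List.range 12)) 132000 500 = true := by decide +kernel

theorem pairs_okAt132500 : allFrom (data.checkPairs row braids (List.range 12)) 132500 500 = true := by decide +kernel

theorem pairs_okAt133000 : allFrom (data.checkPairs row braids (List.range 12)) 133000 500 = true := by decide +kernel

theorem pairs_okAt133500 : allFrom (data.checkPairs row braids (List.range 12)) 133500 500 = true := by decide +kernel

theorem pairs_okAt134000 : allFrom (data.checkPairs row braids (List.range 12)) 134000 500 = true := by decide +kernel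

theorem pairs_okAt134500 : allFrom (data.checkPairs row braids (List.range 12)) 134500 500 = true := by decide +kernel

theorem pairs_okAt135000 : allFrom (data.checkPairs row braids (List.range 12)) 135000 500 = true := by decide +kernel

theorem pairs_okAt135500 : allFrom (data.checkPairs row braids (List.range 12)) 135500 500 = true := by decide +kernel

theorem pairs_okAt136000 : allFrom (data.checkPairs row braids (List.range 12)) 136000 500 = true := by decide +kernel

theorem pairs_okAt136500 : allFrom (data.checkPairs row braids (List.range 12)) 136500 500 = true := by decide +kernel

theorem pairs_okAt137000 : allFrom (data.checkPairs row braids (List.range 12)) 137000 500 = true := by decide +kernel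

theorem pairs_okAt137500 : allFrom (data.checkPairs row braids (List.range 12)) 137500 500 = true := by decide +kernel

theorem pairs_okAt138000 : allFrom (data.checkPairs row braids (List.range 12)) 138000 500 = true := by decide +kernel

theorem pairs_okAt138500 : allFrom (data.checkPairs row braids (List.range 12)) 138500 500 = true := by decide +kernel

theorem pairs_okAt139000 : allFrom (data.checkPairs row braids (List.range 12)) 139000 500 = true := by decide +kernel

theorem pairs_okAt139500 : allFrom (data.checkPairs row braids (List.range 12)) 139500 500 = true := by decide +kernel

end Cfsg.Agent.CosetCert.Fi24Index
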