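import Cfsg.Agent.CosetCert.Fi24Index.Defs

/-! Generated: kernel checks. -/

set_option Elab.async false

namespace Cfsg.Agent.CosetCert.Fi24Index

theorem pairs_okAt140000 : allFrom (data.checkPairs row braids (List.range 12)) 140000 500 = true := by decide +kernel

theorem pairs_okAt140500 : allFrom (data.checkPairs row braids (List.range 12)) 140500 500 = true := by decide +kernel

theorem pairs_okAt141000 : allFrom (data.checkPairs row braids (List.range 12)) 141000 500 = true := by decide +kernel

theorem pairs_okAt141500 : allFrom (data.checkPairs row braids (List.range 12)) 141500 500 = true := by decide +kernel

theorem pairs_okAt142000 : allFrom (data.checkPairs row braids (List.range 12)) 142000 500 = true := by decide +kernel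

theorem pairs_okAt142500 : allFrom (data.checkPairs row braids (List.range 12)) 142500 500 = true := by decide +kernel

theorem pairs_okAt143000 : allFrom (data.checkPairs row braids (List.range 12)) 143000 500 = true := by decide +kernel

theorem pairs_okAt143500 : allFrom (data.checkPairs row braids (List.range 12)) 143500 500 = true := by decide +kernel

theorem pairs_okAt144000 : allFrom (data.checkPairs row braids (List.range 12)) 144000 500 = true := by decide +kernel

theorem pairs_okAt144500 : allFrom (data.checkPairs row braids (List.range 12)) 144500 500 = true := by decide +kernel

theorem pairs_okAt145000 : allFrom (data.checkPairs row braids (List.range 12)) 145000 500 = true := by decide +kernel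

theorem pairs_okAt145500 : allFrom (data.checkPairs row braids (List.range 12)) 145500 500 = true := by decide +kernel

theorem pairs_okAt146000 : allFrom (data.checkPairs row braids (List.range 12)) 146000 500 = true := by decide +kernel

theorem pairs_okAt146500 : allFrom (data.checkPairs row braids (List.range 12)) 146500 500 = true := by decide +kernel

theorem pairs_okAt147000 : allFrom (data.checkPairs row braids (List.range 12)) 147000 500 = true := by decide +kernel

theorem pairs_okAt147500 : allFrom (data.checkPairs row braids (List.range 12)) 147500 500 = true := by decide +kernel

theorem pairs_okAt148000 : allFrom (data.checkPairs row braids (List.range 12)) 148000 500 = true := by decide +kernel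

theorem pairs_okAt148500 : allFrom (data.checkPairs row braids (List.range 12)) 148500 500 = true := by decide +kernel

theorem pairs_okAt149000 : allFrom (data.checkPairs row braids (List.range 12)) 149000 500 = true := by decide +kernel

theorem pairs_okAt149500 : allFrom (data.checkPairs row braids (List.range 12)) 149500 500 = true := by decide +kernel

theorem pairs_okAt150000 : allFrom (data.checkPairs row braids (List.range 12)) 150000 500 = true := by decide +kernel

theorem pairs_okAt150500 : allFrom (data.checkPairs row braids (List.range 12)) 150500 500 = true := by decide +kernel

theorem pairs_okAt151000 : allFrom (data.checkPairs row braids (List.range 12)) 151000 500 = true := by decide +kernel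

theorem pairs_okAt151500 : allFrom (data.checkPairs row braids (List.range 12)) 151500 500 = true := by decide +kernel

theorem pairs_okAt152000 : allFrom (data.checkPairs row braids (List.range 12)) 152000 500 = true := by decide +kernel

theorem pairs_okAt152500 : allFrom (data.checkPairs row braids (List.range 12)) 152500 500 = true := by decide +kernel

theorem pairs_okAt153000 : allFrom (data.checkPairs row braids (List.range 12)) 153000 500 = true := by decide +kernel

theorem pairs_okAt153500 : allFrom (data.checkPairs row braids (List.range 12)) 153500 500 = true := by decide +kernel

theorem pairs_okAt154000 : allFrom (data.checkPairs row braids (List.range 12)) 154000 500 = true := by decide +kernel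

theorem pairs_okAt154500 : allFrom (data.checkPairs row braids (List.range 12)) 154500 500 = true := by decide +kernel

theorem pairs_okAt155000 : allFrom (data.checkPairs row braids (List.range 12)) 155000 500 = true := by decide +kernel

theorem pairs_okAt155500 : allFrom (data.checkPairs row braids (List.range 12)) 155500 500 = true := by decide +kernel

theorem pairs_okAt156000 : allFrom (data.checkPairs row braids (List.range 12)) 156000 500 = true := by decide +kernel

theorem pairs_okAt156500 : allFrom (data.checkPairs row braids (List.range 12)) 156500 500 = true := by decide +kernel

theorem pairs_okAt157000 : allFrom (data.checkPairs row braids (List.range 12)) 157000 500 = true := by decide +kernel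

theorem pairs_okAt157500 : allFrom (data.checkPairs row braids (List.range 12)) 157500 500 = true := by decide +kernel

theorem pairs_okAt158000 : allFrom (data.checkPairs row braids (List.range 12)) 158000 500 = true := by decide +kernel

theorem pairs_okAt158500 : allFrom (data.checkPairs row braids (List.range 12)) 158500 500 = true := by decide +kernel

theorem pairs_okAt159000 : allFrom (data.checkPairs row braids (List.range 12)) 159000 500 = true := by decide +kernel

theorem pairs_okAt159500 : allFrom (data.checkPairs row braids (List.range 12)) 159500 500 = true := by decide +kernel

end Cfsg.Agent.CosetCert.Fi24Index
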