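import Cfsg.Agent.CosetCert.Fi24Index.Defs

/-! Generated: kernel checks. -/

set_option Elab.async false

namespace Cfsg.Agent.CosetCert.Fi24Index

theorem pairs_okAt160000 : allFrom (data.checkPairs row braids (List.range 12)) 160000 500 = true := by decide +kernel

theorem pairs_okAt160500 : allFrom (data.checkPairs row braids (List.range 12)) 160500 500 = true := by decide +kernel

theorem pairs_okAt161000 : allFrom (data.checkPairs row braids (List.range 12)) 161000 500 = true := by decide +kernel

theorem pairs_okAt161500 : allFrom (data.checkPairs row braids (List.range 12)) 161500 500 = true := by decide +kernel

theorem pairs_okAt162000 : allFrom (data.checkPairs row braids (List.range 12)) 162000 500 = true := by decide +kernel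

theorem pairs_okAt162500 : allFrom (data.checkPairs row braids (List.range 12)) 162500 500 = true := by decide +kernel

theorem pairs_okAt163000 : allFrom (data.checkPairs row braids (List.range 12)) 163000 500 = true := by decide +kernel

theorem pairs_okAt163500 : allFrom (data.checkPairs row braids (List.range 12)) 163500 500 = true := by decide +kernel

theorem pairs_okAt164000 : allFrom (data.checkPairs row braids (List.range 12)) 164000 500 = true := by decide +kernel

theorem pairs_okAt164500 : allFrom (data.checkPairs row braids (List.range 12)) 164500 500 = true := by decide +kernel

theorem pairs_okAt165000 : allFrom (data.checkPairs row braids (List.range 12)) 165000 500 = true := by decide +kernel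

theorem pairs_okAt165500 : allFrom (data.checkPairs row braids (List.range 12)) 165500 500 = true := by decide +kernel

theorem pairs_okAt166000 : allFrom (data.checkPairs row braids (List.range 12)) 166000 500 = true := by decide +kernel

theorem pairs_okAt166500 : allFrom (data.checkPairs row braids (List.range 12)) 166500 500 = true := by decide +kernel

theorem pairs_okAt167000 : allFrom (data.checkPairs row braids (List.range 12)) 167000 500 = true := by decide +kernel

theorem pairs_okAt167500 : allFrom (data.checkPairs row braids (List.range 12)) 167500 500 = true := by decide +kernel

theorem pairs_okAt168000 : allFrom (data.checkPairs row braids (List.range 12)) 168000 500 = true := by decide +kernel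

theorem pairs_okAt168500 : allFrom (data.checkPairs row braids (List.range 12)) 168500 500 = true := by decide +kernel

theorem pairs_okAt169000 : allFrom (data.checkPairs row braids (List.range 12)) 169000 500 = true := by decide +kernel

theorem pairs_okAt169500 : allFrom (data.checkPairs row braids (List.range 12)) 169500 500 = true := by decide +kernel

theorem pairs_okAt170000 : allFrom (data.checkPairs row braids (List.range 12)) 170000 500 = true := by decide +kernel

theorem pairs_okAt170500 : allFrom (data.checkPairs row braids (List.range 12)) 170500 500 = true := by decide +kernel

theorem pairs_okAt171000 : allFrom (data.checkPairs row braids (List.range 12)) 171000 500 = true := by decide +kernel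

theorem pairs_okAt171500 : allFrom (data.checkPairs row braids (List.range 12)) 171500 500 = true := by decide +kernel

theorem pairs_okAt172000 : allFrom (data.checkPairs row braids (List.range 12)) 172000 500 = true := by decide +kernel

theorem pairs_okAt172500 : allFrom (data.checkPairs row braids (List.range 12)) 172500 500 = true := by decide +kernel

theorem pairs_okAt173000 : allFrom (data.checkPairs row braids (List.range 12)) 173000 500 = true := by decide +kernel

theorem pairs_okAt173500 : allFrom (data.checkPairs row braids (List.range 12)) 173500 500 = true := by decide +kernel

theorem pairs_okAt174000 : allFrom (data.checkPairs row braids (List.range 12)) 174000 500 = true := by decide +kernel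

theorem pairs_okAt174500 : allFrom (data.checkPairs row braids (List.range 12)) 174500 500 = true := by decide +kernel

theorem pairs_okAt175000 : allFrom (data.checkPairs row braids (List.range 12)) 175000 500 = true := by decide +kernel

theorem pairs_okAt175500 : allFrom (data.checkPairs row braids (List.range 12)) 175500 500 = true := by decide +kernel

theorem pairs_okAt176000 : allFrom (data.checkPairs row braids (List.range 12)) 176000 500 = true := by decide +kernel

theorem pairs_okAt176500 : allFrom (data.checkPairs row braids (List.range 12)) 176500 500 = true := by decide +kernel

theorem pairs_okAt177000 : allFrom (data.checkPairs row braids (List.range 12)) 177000 500 = true := by decide +kernel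

theorem pairs_okAt177500 : allFrom (data.checkPairs row braids (List.range 12)) 177500 500 = true := by decide +kernel

theorem pairs_okAt178000 : allFrom (data.checkPairs row braids (List.range 12)) 178000 500 = true := by decide +kernel

theorem pairs_okAt178500 : allFrom (data.checkPairs row braids (List.range 12)) 178500 500 = true := by decide +kernel

theorem pairs_okAt179000 : allFrom (data.checkPairs row braids (List.range 12)) 179000 500 = true := by decide +kernel

theorem pairs_okAt179500 : allFrom (data.checkPairs row braids (List.range 12)) 179500 500 = true := by decide +kernel

end Cfsg.Agent.CosetCert.Fi24Index
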