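import Cfsg.Agent.CosetCert.Fi24Index.Defs

/-! Generated: kernel checks. -/

set_option Elab.async false

namespace Cfsg.Agent.CosetCert.Fi24Index

theorem pairs_okAt180000 : allFrom (data.checkPairs row braids (List.range 12)) 180000 500 = true := by decide +kernel

theorem pairs_okAt180500 : allFrom (data.checkPairs row braids (List.range 12)) 180500 500 = true := by decide +kernel

theorem pairs_okAt181000 : allFrom (data.checkPairs row braids (List.range 12)) 181000 500 = true := by decide +kernel

theorem pairs_okAt181500 : allFrom (data.checkPairs row braids (List.range 12)) 181500 500 = true := by decide +kernel

theorem pairs_okAt182000 : allFrom (data.checkPairs row braids (List.range 12)) 182000 500 = true := by decide +kernel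

theorem pairs_okAt182500 : allFrom (data.checkPairs row braids (List.range 12)) 182500 500 = true := by decide +kernel

theorem pairs_okAt183000 : allFrom (data.checkPairs row braids (List.range 12)) 183000 500 = true := by decide +kernel

theorem pairs_okAt183500 : allFrom (data.checkPairs row braids (List.range 12)) 183500 500 = true := by decide +kernel

theorem pairs_okAt184000 : allFrom (data.checkPairs row braids (List.range 12)) 184000 500 = true := by decide +kernel

theorem pairs_okAt184500 : allFrom (data.checkPairs row braids (List.range 12)) 184500 500 = true := by decide +kernel

theorem pairs_okAt185000 : allFrom (data.checkPairs row braids (List.range 12)) 185000 500 = true := by decide +kernel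

theorem pairs_okAt185500 : allFrom (data.checkPairs row braids (List.range 12)) 185500 500 = true := by decide +kernel

theorem pairs_okAt186000 : allFrom (data.checkPairs row braids (List.range 12)) 186000 500 = true := by decide +kernel

theorem pairs_okAt186500 : allFrom (data.checkPairs row braids (List.range 12)) 186500 500 = true := by decide +kernel

theorem pairs_okAt187000 : allFrom (data.checkPairs row braids (List.range 12)) 187000 500 = true := by decide +kernel

theorem pairs_okAt187500 : allFrom (data.checkPairs row braids (List.range 12)) 187500 500 = true := by decide +kernel

theorem pairs_okAt188000 : allFrom (data.checkPairs row braids (List.range 12)) 188000 500 = true := by decide +kernel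

theorem pairs_okAt188500 : allFrom (data.checkPairs row braids (List.range 12)) 188500 500 = true := by decide +kernel

theorem pairs_okAt189000 : allFrom (data.checkPairs row braids (List.range 12)) 189000 500 = true := by decide +kernel

theorem pairs_okAt189500 : allFrom (data.checkPairs row braids (List.range 12)) 189500 500 = true := by decide +kernel

theorem pairs_okAt190000 : allFrom (data.checkPairs row braids (List.range 12)) 190000 500 = true := by decide +kernel

theorem pairs_okAt190500 : allFrom (data.checkPairs row braids (List.range 12)) 190500 500 = true := by decide +kernel

theorem pairs_okAt191000 : allFrom (data.checkPairs row braids (List.range 12)) 191000 500 = true := by decide +kernel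

theorem pairs_okAt191500 : allFrom (data.checkPairs row braids (List.range 12)) 191500 500 = true := by decide +kernel

theorem pairs_okAt192000 : allFrom (data.checkPairs row braids (List.range 12)) 192000 500 = true := by decide +kernel

theorem pairs_okAt192500 : allFrom (data.checkPairs row braids (List.range 12)) 192500 500 = true := by decide +kernel

theorem pairs_okAt193000 : allFrom (data.checkPairs row braids (List.range 12)) 193000 500 = true := by decide +kernel

theorem pairs_okAt193500 : allFrom (data.checkPairs row braids (List.range 12)) 193500 500 = true := by decide +kernel

theorem pairs_okAt194000 : allFrom (data.checkPairs row braids (List.range 12)) 194000 500 = true := by decide +kernel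

theorem pairs_okAt194500 : allFrom (data.checkPairs row braids (List.range 12)) 194500 500 = true := by decide +kernel

theorem pairs_okAt195000 : allFrom (data.checkPairs row braids (List.range 12)) 195000 500 = true := by decide +kernel

theorem pairs_okAt195500 : allFrom (data.checkPairs row braids (List.range 12)) 195500 500 = true := by decide +kernel

theorem pairs_okAt196000 : allFrom (data.checkPairs row braids (List.range 12)) 196000 500 = true := by decide +kernel

theorem pairs_okAt196500 : allFrom (data.checkPairs row braids (List.range 12)) 196500 500 = true := by decide +kernel

theorem pairs_okAt197000 : allFrom (data.checkPairs row braids (List.range 12)) 197000 500 = true := by decide +kernel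

theorem pairs_okAt197500 : allFrom (data.checkPairs row braids (List.range 12)) 197500 500 = true := by decide +kernel

theorem pairs_okAt198000 : allFrom (data.checkPairs row braids (List.range 12)) 198000 500 = true := by decide +kernel

theorem pairs_okAt198500 : allFrom (data.checkPairs row braids (List.range 12)) 198500 500 = true := by decide +kernel

theorem pairs_okAt199000 : allFrom (data.checkPairs row braids (List.range 12)) 199000 500 = true := by decide +kernel

theorem pairs_okAt199500 : allFrom (data.checkPairs row braids (List.range 12)) 199500 500 = true := by decide +kernel

end Cfsg.Agent.CosetCert.Fi24Index
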