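import Cfsg.Agent.CosetCert.Fi24Index.CheckPairs0
import Cfsg.Agent.CosetCert.Fi24Index.CheckPairs1
import Cfsg.Agent.CosetCert.Fi24Index.CheckPairs2
import Cfsg.Agent.CosetCert.Fi24Index.CheckPairs3
import Cfsg.Agent.CosetCert.Fi24Index.CheckPairs4
import Cfsg.Agent.CosetCert.Fi24Index.CheckPairs5
import Cfsg.Agent.CosetCert.Fi24Index.CheckPairs6
import Cfsg.Agent.CosetCert.Fi24Index.CheckPairs7
import Cfsg.Agent.CosetCert.Fi24Index.CheckPairs8
import Cfsg.Agent.CosetCert.Fi24Index.CheckPairs9
import Cfsg.Agent.CosetCert.Fi24Index.CheckPairs10
import Cfsg.Agent.CosetCert.Fi24Index.CheckPairs11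
import Cfsg.Agent.CosetCert.Fi24Index.CheckPairs12
import Cfsg.Agent.CosetCert.Fi24Index.CheckPairs13
import Cfsg.Agent.CosetCert.Fi24Index.CheckPairs14
import Cfsg.Agent.CosetCert.Fi24Index.CheckPairs15

/-! Generated: kernel checks combined. -/

set_option maxRecDepth 100000

namespace Cfsg.Agent.CosetCert.Fi24Index

theorem pairs_ok : ∀ i, i < 306936 → (data.checkPairs row braids (List.range 12)) i = true := by
  have h0 : ∀ i, i < 0 → (data.checkPairs row braids (List.range 12)) i = true := forall_lt_zero
  have h1 := forall_lt_step (b := 500) h0 pairs_okAt0 rfl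
  have h2 := forall_lt_step (b := 1000) h1 pairs_okAt500 rfl
  have h3 := forall_lt_step (b := 1500) h2 pairs_okAt1000 rfl
  have h4 := forall_lt_step (b := 2000) h3 pairs_okAt1500 rfl
  have h5 := forall_lt_step (b := 2500) h4 pairs_okAt2000 rfl
  have h6 := forall_lt_step (b := 3000) h5 pairs_okAt2500 rfl
  have h7 := forall_lt_step (b := 3500) h6 pairs_okAt3000 rfl
  have h8 := forall_lt_step (b := 4000) h7 pairs_okAt3500 rfl
  have h9 := forall_lt_step (b := 4500) h8 pairs_okAt4000 rfl
  have h10 := forall_lt_step (b := 5000) h9 pairs_okAt4500 rfl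
  have h11 := forall_lt_step (b := 5500) h10 pairs_okAt5000 rfl
  have h12 := forall_lt_step (b := 6000) h11 pairs_okAt5500 rfl
  have h13 := forall_lt_step (b := 6500) h12 pairs_okAt6000 rfl
  have h14 := forall_lt_step (b := 7000) h13 pairs_okAt6500 rfl
  have h15 := forall_lt_step (b := 7500) h14 pairs_okAt7000 rfl
  have h16 := forall_lt_step (b := 8000) h15 pairs_okAt7500 rfl
  have h17 := forall_lt_step (b := 8500) h16 pairs_okAt8000 rfl
  have h18 := forall_lt_step (b := 9000) h17 pairs_okAt8500 rfl
  have h19 := forall_lt_step (b := 9500) h18 pairs_okAt9000 rfl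
  have h20 := forall_lt_step (b := 10000) h19 pairs_okAt9500 rfl
  have h21 := forall_lt_step (b := 10500) h20 pairs_okAt10000 rfl
  have h22 := forall_lt_step (b := 11000) h21 pairs_okAt10500 rfl
  have h23 := forall_lt_step (b := 11500) h22 pairs_okAt11000 rfl
  have h24 := forall_lt_step (b := 12000) h23 pairs_okAt11500 rfl
  have h25 := forall_lt_step (b := 12500) h24 pairs_okAt12000 rfl
  have h26 := forall_lt_step (b := 13000) h25 pairs_okAt12500 rfl
  have h27 := forall_lt_step (b := 13500) h26 pairs_okAt13000 rfl
  have h28 := forall_lt_step (b := 14000) h27 pairs_okAt13500 rfl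
  have h29 := forall_lt_step (b := 14500) h28 pairs_okAt14000 rfl
  have h30 := forall_lt_step (b := 15000) h29 pairs_okAt14500 rfl
  have h31 := forall_lt_step (b := 15500) h30 pairs_okAt15000 rfl
  have h32 := forall_lt_step (b := 16000) h31 pairs_okAt15500 rfl
  have h33 := forall_lt_step (b := 16500) h32 pairs_okAt16000 rfl
  have h34 := forall_lt_step (b := 17000) h33 pairs_okAt16500 rfl
  have h35 := forall_lt_step (b := 17500) h34 pairs_okAt17000 rfl
  have h36 := forall_lt_step (b := 18000) h35 pairs_okAt17500 rfl
  have h37 := forall_lt_step (b := 18500) h36 pairs_okAt18000 rfl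
  have h38 := forall_lt_step (b := 19000) h37 pairs_okAt18500 rfl
  have h39 := forall_lt_step (b := 19500) h38 pairs_okAt19000 rfl
  have h40 := forall_lt_step (b := 20000) h39 pairs_okAt19500 rfl
  have h41 := forall_lt_step (b := 20500) h40 pairs_okAt20000 rfl
  have h42 := forall_lt_step (b := 21000) h41 pairs_okAt20500 rfl
  have h43 := forall_lt_step (b := 21500) h42 pairs_okAt21000 rfl
  have h44 := forall_lt_step (b := 22000) h43 pairs_okAt21500 rfl
  have h45 := forall_lt_step (b := 22500) h44 pairs_okAt22000 rfl
  have h46 := forall_lt_step (b := 23000) h45 pairs_okAt22500 rfl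
  have h47 := forall_lt_step (b := 23500) h46 pairs_okAt23000 rfl
  have h48 := forall_lt_step (b := 24000) h47 pairs_okAt23500 rfl
  have h49 := forall_lt_step (b := 24500) h48 pairs_okAt24000 rfl
  have h50 := forall_lt_step (b := 25000) h49 pairs_okAt24500 rfl
  have h51 := forall_lt_step (b := 25500) h50 pairs_okAt25000 rfl
  have h52 := forall_lt_step (b := 26000) h51 pairs_okAt25500 rfl
  have h53 := forall_lt_step (b := 26500) h52 pairs_okAt26000 rfl
  have h54 := forall_lt_step (b := 27000) h53 pairs_okAt26500 rfl
  have h55 := forall_lt_step (b := 27500) h54 pairs_okAt27000 rfl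
  have h56 := forall_lt_step (b := 28000) h55 pairs_okAt27500 rfl
  have h57 := forall_lt_step (b := 28500) h56 pairs_okAt28000 rfl
  have h58 := forall_lt_step (b := 29000) h57 pairs_okAt28500 rfl
  have h59 := forall_lt_step (b := 29500) h58 pairs_okAt29000 rfl
  have h60 := forall_lt_step (b := 30000) h59 pairs_okAt29500 rfl
  have h61 := forall_lt_step (b := 30500) h60 pairs_okAt30000 rfl
  have h62 := forall_lt_step (b := 31000) h61 pairs_okAt30500 rfl
  have h63 := forall_lt_step (b := 31500) h62 pairs_okAt31000 rfl
  have h64 := forall_lt_step (b := 32000) h63 pairs_okAt31500 rfl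
  have h65 := forall_lt_step (b := 32500) h64 pairs_okAt32000 rfl
  have h66 := forall_lt_step (b := 33000) h65 pairs_okAt32500 rfl
  have h67 := forall_lt_step (b := 33500) h66 pairs_okAt33000 rfl
  have h68 := forall_lt_step (b := 34000) h67 pairs_okAt33500 rfl
  have h69 := forall_lt_step (b := 34500) h68 pairs_okAt34000 rfl
  have h70 := forall_lt_step (b := 35000) h69 pairs_okAt34500 rfl
  have h71 := forall_lt_step (b := 35500) h70 pairs_okAt35000 rfl
  have h72 := forall_lt_step (b := 36000) h71 pairs_okAt35500 rfl
  have h73 := forall_lt_step (b := 36500) h72 pairs_okAt36000 rfl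
  have h74 := forall_lt_step (b := 37000) h73 pairs_okAt36500 rfl
  have h75 := forall_lt_step (b := 37500) h74 pairs_okAt37000 rfl
  have h76 := forall_lt_step (b := 38000) h75 pairs_okAt37500 rfl
  have h77 := forall_lt_step (b := 38500) h76 pairs_okAt38000 rfl
  have h78 := forall_lt_step (b := 39000) h77 pairs_okAt38500 rfl
  have h79 := forall_lt_step (b := 39500) h78 pairs_okAt39000 rfl
  have h80 := forall_lt_step (b := 40000) h79 pairs_okAt39500 rfl
  have h81 := forall_lt_step (b := 40500) h80 pairs_okAt40000 rfl
  have h82 := forall_lt_step (b := 41000) h81 pairs_okAt40500 rfl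
  have h83 := forall_lt_step (b := 41500) h82 pairs_okAt41000 rfl
  have h84 := forall_lt_step (b := 42000) h83 pairs_okAt41500 rfl
  have h85 := forall_lt_step (b := 42500) h84 pairs_okAt42000 rfl
  have h86 := forall_lt_step (b := 43000) h85 pairs_okAt42500 rfl
  have h87 := forall_lt_step (b := 43500) h86 pairs_okAt43000 rfl
  have h88 := forall_lt_step (b := 44000) h87 pairs_okAt43500 rfl
  have h89 := forall_lt_step (b := 44500) h88 pairs_okAt44000 rfl
  have h90 := forall_lt_step (b := 45000) h89 pairs_okAt44500 rfl
  have h91 := forall_lt_step (b := 45500) h90 pairs_okAt45000 rfl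
  have h92 := forall_lt_step (b := 46000) h91 pairs_okAt45500 rfl
  have h93 := forall_lt_step (b := 46500) h92 pairs_okAt46000 rfl
  have h94 := forall_lt_step (b := 47000) h93 pairs_okAt46500 rfl
  have h95 := forall_lt_step (b := 47500) h94 pairs_okAt47000 rfl
  have h96 := forall_lt_step (b := 48000) h95 pairs_okAt47500 rfl
  have h97 := forall_lt_step (b := 48500) h96 pairs_okAt48000 rfl
  have h98 := forall_lt_step (b := 49000) h97 pairs_okAt48500 rfl
  have h99 := forall_lt_step (b := 49500) h98 pairs_okAt49000 rfl
  have h100 := forall_lt_step (b := 50000) h99 pairs_okAt49500 rfl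
  have h101 := forall_lt_step (b := 50500) h100 pairs_okAt50000 rfl
  have h102 := forall_lt_step (b := 51000) h101 pairs_okAt50500 rfl
  have h103 := forall_lt_step (b := 51500) h102 pairs_okAt51000 rfl
  have h104 := forall_lt_step (b := 52000) h103 pairs_okAt51500 rfl
  have h105 := forall_lt_step (b := 52500) h104 pairs_okAt52000 rfl
  have h106 := forall_lt_step (b := 53000) h105 pairs_okAt52500 rfl
  have h107 := forall_lt_step (b := 53500) h106 pairs_okAt53000 rfl
  have h108 := forall_lt_step (b := 54000) h107 pairs_okAt53500 rfl
  have h109 := forall_lt_step (b := 54500) h108 pairs_okAt54000 rfl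
  have h110 := forall_lt_step (b := 55000) h109 pairs_okAt54500 rfl
  have h111 := forall_lt_step (b := 55500) h110 pairs_okAt55000 rfl
  have h112 := forall_lt_step (b := 56000) h111 pairs_okAt55500 rfl
  have h113 := forall_lt_step (b := 56500) h112 pairs_okAt56000 rfl
  have h114 := forall_lt_step (b := 57000) h113 pairs_okAt56500 rfl
  have h115 := forall_lt_step (b := 57500) h114 pairs_okAt57000 rfl
  have h116 := forall_lt_step (b := 58000) h115 pairs_okAt57500 rfl
  have h117 := forall_lt_step (b := 58500) h116 pairs_okAt58000 rfl
  have h118 := forall_lt_step (b := 59000) h117 pairs_okAt58500 rfl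
  have h119 := forall_lt_step (b := 59500) h118 pairs_okAt59000 rfl
  have h120 := forall_lt_step (b := 60000) h119 pairs_okAt59500 rfl
  have h121 := forall_lt_step (b := 60500) h120 pairs_okAt60000 rfl
  have h122 := forall_lt_step (b := 61000) h121 pairs_okAt60500 rfl
  have h123 := forall_lt_step (b := 61500) h122 pairs_okAt61000 rfl
  have h124 := forall_lt_step (b := 62000) h123 pairs_okAt61500 rfl
  have h125 := forall_lt_step (b := 62500) h124 pairs_okAt62000 rfl
  have h126 := forall_lt_step (b := 63000) h125 pairs_okAt62500 rfl
  have h127 := forall_lt_step (b := 63500) h126 pairs_okAt63000 rfl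
  have h128 := forall_lt_step (b := 64000) h127 pairs_okAt63500 rfl
  have h129 := forall_lt_step (b := 64500) h128 pairs_okAt64000 rfl
  have h130 := forall_lt_step (b := 65000) h129 pairs_okAt64500 rfl
  have h131 := forall_lt_step (b := 65500) h130 pairs_okAt65000 rfl
  have h132 := forall_lt_step (b := 66000) h131 pairs_okAt65500 rfl
  have h133 := forall_lt_step (b := 66500) h132 pairs_okAt66000 rfl
  have h134 := forall_lt_step (b := 67000) h133 pairs_okAt66500 rfl
  have h135 := forall_lt_step (b := 67500) h134 pairs_okAt67000 rfl
  have h136 := forall_lt_step (b := 68000) h135 pairs_okAt67500 rfl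
  have h137 := forall_lt_step (b := 68500) h136 pairs_okAt68000 rfl
  have h138 := forall_lt_step (b := 69000) h137 pairs_okAt68500 rfl
  have h139 := forall_lt_step (b := 69500) h138 pairs_okAt69000 rfl
  have h140 := forall_lt_step (b := 70000) h139 pairs_okAt69500 rfl
  have h141 := forall_lt_step (b := 70500) h140 pairs_okAt70000 rfl
  have h142 := forall_lt_step (b := 71000) h141 pairs_okAt70500 rfl
  have h143 := forall_lt_step (b := 71500) h142 pairs_okAt71000 rfl
  have h144 := forall_lt_step (b := 72000) h143 pairs_okAt71500 rfl
  have h145 := forall_lt_step (b := 72500) h144 pairs_okAt72000 rfl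
  have h146 := forall_lt_step (b := 73000) h145 pairs_okAt72500 rfl
  have h147 := forall_lt_step (b := 73500) h146 pairs_okAt73000 rfl
  have h148 := forall_lt_step (b := 74000) h147 pairs_okAt73500 rfl
  have h149 := forall_lt_step (b := 74500) h148 pairs_okAt74000 rfl
  have h150 := forall_lt_step (b := 75000) h149 pairs_okAt74500 rfl
  have h151 := forall_lt_step (b := 75500) h150 pairs_okAt75000 rfl
  have h152 := forall_lt_step (b := 76000) h151 pairs_okAt75500 rfl
  have h153 := forall_lt_step (b := 76500) h152 pairs_okAt76000 rfl
  have h154 := forall_lt_step (b := 77000) h153 pairs_okAt76500 rfl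
  have h155 := forall_lt_step (b := 77500) h154 pairs_okAt77000 rfl
  have h156 := forall_lt_step (b := 78000) h155 pairs_okAt77500 rfl
  have h157 := forall_lt_step (b := 78500) h156 pairs_okAt78000 rfl
  have h158 := forall_lt_step (b := 79000) h157 pairs_okAt78500 rfl
  have h159 := forall_lt_step (b := 79500) h158 pairs_okAt79000 rfl
  have h160 := forall_lt_step (b := 80000) h159 pairs_okAt79500 rfl
  have h161 := forall_lt_step (b := 80500) h160 pairs_okAt80000 rfl
  have h162 := forall_lt_step (b := 81000) h161 pairs_okAt80500 rfl
  have h163 := forall_lt_step (b := 81500) h162 pairs_okAt81000 rfl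
  have h164 := forall_lt_step (b := 82000) h163 pairs_okAt81500 rfl
  have h165 := forall_lt_step (b := 82500) h164 pairs_okAt82000 rfl
  have h166 := forall_lt_step (b := 83000) h165 pairs_okAt82500 rfl
  have h167 := forall_lt_step (b := 83500) h166 pairs_okAt83000 rfl
  have h168 := forall_lt_step (b := 84000) h167 pairs_okAt83500 rfl
  have h169 := forall_lt_step (b := 84500) h168 pairs_okAt84000 rfl
  have h170 := forall_lt_step (b := 85000) h169 pairs_okAt84500 rfl
  have h171 := forall_lt_step (b := 85500) h170 pairs_okAt85000 rfl
  have h172 := forall_lt_step (b := 86000) h171 pairs_okAt85500 rfl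
  have h173 := forall_lt_step (b := 86500) h172 pairs_okAt86000 rfl
  have h174 := forall_lt_step (b := 87000) h173 pairs_okAt86500 rfl
  have h175 := forall_lt_step (b := 87500) h174 pairs_okAt87000 rfl
  have h176 := forall_lt_step (b := 88000) h175 pairs_okAt87500 rfl
  have h177 := forall_lt_step (b := 88500) h176 pairs_okAt88000 rfl
  have h178 := forall_lt_step (b := 89000) h177 pairs_okAt88500 rfl
  have h179 := forall_lt_step (b := 89500) h178 pairs_okAt89000 rfl
  have h180 := forall_lt_step (b := 90000) h179 pairs_okAt89500 rfl
  have h181 := forall_lt_step (b := 90500) h180 pairs_okAt90000 rfl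
  have h182 := forall_lt_step (b := 91000) h181 pairs_okAt90500 rfl
  have h183 := forall_lt_step (b := 91500) h182 pairs_okAt91000 rfl
  have h184 := forall_lt_step (b := 92000) h183 pairs_okAt91500 rfl
  have h185 := forall_lt_step (b := 92500) h184 pairs_okAt92000 rfl
  have h186 := forall_lt_step (b := 93000) h185 pairs_okAt92500 rfl
  have h187 := forall_lt_step (b := 93500) h186 pairs_okAt93000 rfl
  have h188 := forall_lt_step (b := 94000) h187 pairs_okAt93500 rfl
  have h189 := forall_lt_step (b := 94500) h188 pairs_okAt94000 rfl
  have h190 := forall_lt_step (b := 95000) h189 pairs_okAt94500 rfl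
  have h191 := forall_lt_step (b := 95500) h190 pairs_okAt95000 rfl
  have h192 := forall_lt_step (b := 96000) h191 pairs_okAt95500 rfl
  have h193 := forall_lt_step (b := 96500) h192 pairs_okAt96000 rfl
  have h194 := forall_lt_step (b := 97000) h193 pairs_okAt96500 rfl
  have h195 := forall_lt_step (b := 97500) h194 pairs_okAt97000 rfl
  have h196 := forall_lt_step (b := 98000) h195 pairs_okAt97500 rfl
  have h197 := forall_lt_step (b := 98500) h196 pairs_okAt98000 rfl
  have h198 := forall_lt_step (b := 99000) h197 pairs_okAt98500 rfl
  have h199 := forall_lt_step (b := 99500) h198 pairs_okAt99000 rfl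
  have h200 := forall_lt_step (b := 100000) h199 pairs_okAt99500 rfl
  have h201 := forall_lt_step (b := 100500) h200 pairs_okAt100000 rfl
  have h202 := forall_lt_step (b := 101000) h201 pairs_okAt100500 rfl
  have h203 := forall_lt_step (b := 101500) h202 pairs_okAt101000 rfl
  have h204 := forall_lt_step (b := 102000) h203 pairs_okAt101500 rfl
  have h205 := forall_lt_step (b := 102500) h204 pairs_okAt102000 rfl
  have h206 := forall_lt_step (b := 103000) h205 pairs_okAt102500 rfl
  have h207 := forall_lt_step (b := 103500) h206 pairs_okAt103000 rfl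
  have h208 := forall_lt_step (b := 104000) h207 pairs_okAt103500 rfl
  have h209 := forall_lt_step (b := 104500) h208 pairs_okAt104000 rfl
  have h210 := forall_lt_step (b := 105000) h209 pairs_okAt104500 rfl
  have h211 := forall_lt_step (b := 105500) h210 pairs_okAt105000 rfl
  have h212 := forall_lt_step (b := 106000) h211 pairs_okAt105500 rfl
  have h213 := forall_lt_step (b := 106500) h212 pairs_okAt106000 rfl
  have h214 := forall_lt_step (b := 107000) h213 pairs_okAt106500 rfl
  have h215 := forall_lt_step (b := 107500) h214 pairs_okAt107000 rfl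
  have h216 := forall_lt_step (b := 108000) h215 pairs_okAt107500 rfl
  have h217 := forall_lt_step (b := 108500) h216 pairs_okAt108000 rfl
  have h218 := forall_lt_step (b := 109000) h217 pairs_okAt108500 rfl
  have h219 := forall_lt_step (b := 109500) h218 pairs_okAt109000 rfl
  have h220 := forall_lt_step (b := 110000) h219 pairs_okAt109500 rfl
  have h221 := forall_lt_step (b := 110500) h220 pairs_okAt110000 rfl
  have h222 := forall_lt_step (b := 111000) h221 pairs_okAt110500 rfl
  have h223 := forall_lt_step (b := 111500) h222 pairs_okAt111000 rfl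
  have h224 := forall_lt_step (b := 112000) h223 pairs_okAt111500 rfl
  have h225 := forall_lt_step (b := 112500) h224 pairs_okAt112000 rfl
  have h226 := forall_lt_step (b := 113000) h225 pairs_okAt112500 rfl
  have h227 := forall_lt_step (b := 113500) h226 pairs_okAt113000 rfl
  have h228 := forall_lt_step (b := 114000) h227 pairs_okAt113500 rfl
  have h229 := forall_lt_step (b := 114500) h228 pairs_okAt114000 rfl
  have h230 := forall_lt_step (b := 115000) h229 pairs_okAt114500 rfl
  have h231 := forall_lt_step (b := 115500) h230 pairs_okAt115000 rfl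
  have h232 := forall_lt_step (b := 116000) h231 pairs_okAt115500 rfl
  have h233 := forall_lt_step (b := 116500) h232 pairs_okAt116000 rfl
  have h234 := forall_lt_step (b := 117000) h233 pairs_okAt116500 rfl
  have h235 := forall_lt_step (b := 117500) h234 pairs_okAt117000 rfl
  have h236 := forall_lt_step (b := 118000) h235 pairs_okAt117500 rfl
  have h237 := forall_lt_step (b := 118500) h236 pairs_okAt118000 rfl
  have h238 := forall_lt_step (b := 119000) h237 pairs_okAt118500 rfl
  have h239 := forall_lt_step (b := 119500) h238 pairs_okAt119000 rfl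
  have h240 := forall_lt_step (b := 120000) h239 pairs_okAt119500 rfl
  have h241 := forall_lt_step (b := 120500) h240 pairs_okAt120000 rfl
  have h242 := forall_lt_step (b := 121000) h241 pairs_okAt120500 rfl
  have h243 := forall_lt_step (b := 121500) h242 pairs_okAt121000 rfl
  have h244 := forall_lt_step (b := 122000) h243 pairs_okAt121500 rfl
  have h245 := forall_lt_step (b := 122500) h244 pairs_okAt122000 rfl
  have h246 := forall_lt_step (b := 123000) h245 pairs_okAt122500 rfl
  have h247 := forall_lt_step (b := 123500) h246 pairs_okAt123000 rfl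
  have h248 := forall_lt_step (b := 124000) h247 pairs_okAt123500 rfl
  have h249 := forall_lt_step (b := 124500) h248 pairs_okAt124000 rfl
  have h250 := forall_lt_step (b := 125000) h249 pairs_okAt124500 rfl
  have h251 := forall_lt_step (b := 125500) h250 pairs_okAt125000 rfl
  have h252 := forall_lt_step (b := 126000) h251 pairs_okAt125500 rfl
  have h253 := forall_lt_step (b := 126500) h252 pairs_okAt126000 rfl
  have h254 := forall_lt_step (b := 127000) h253 pairs_okAt126500 rfl
  have h255 := forall_lt_step (b := 127500) h254 pairs_okAt127000 rfl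
  have h256 := forall_lt_step (b := 128000) h255 pairs_okAt127500 rfl
  have h257 := forall_lt_step (b := 128500) h256 pairs_okAt128000 rfl
  have h258 := forall_lt_step (b := 129000) h257 pairs_okAt128500 rfl
  have h259 := forall_lt_step (b := 129500) h258 pairs_okAt129000 rfl
  have h260 := forall_lt_step (b := 130000) h259 pairs_okAt129500 rfl
  have h261 := forall_lt_step (b := 130500) h260 pairs_okAt130000 rfl
  have h262 := forall_lt_step (b := 131000) h261 pairs_okAt130500 rfl
  have h263 := forall_lt_step (b := 131500) h262 pairs_okAt131000 rfl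
  have h264 := forall_lt_step (b := 132000) h263 pairs_okAt131500 rfl
  have h265 := forall_lt_step (b := 132500) h264 pairs_okAt132000 rfl
  have h266 := forall_lt_step (b := 133000) h265 pairs_okAt132500 rfl
  have h267 := forall_lt_step (b := 133500) h266 pairs_okAt133000 rfl
  have h268 := forall_lt_step (b := 134000) h267 pairs_okAt133500 rfl
  have h269 := forall_lt_step (b := 134500) h268 pairs_okAt134000 rfl
  have h270 := forall_lt_step (b := 135000) h269 pairs_okAt134500 rfl
  have h271 := forall_lt_step (b := 135500) h270 pairs_okAt135000 rfl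
  have h272 := forall_lt_step (b := 136000) h271 pairs_okAt135500 rfl
  have h273 := forall_lt_step (b := 136500) h272 pairs_okAt136000 rfl
  have h274 := forall_lt_step (b := 137000) h273 pairs_okAt136500 rfl
  have h275 := forall_lt_step (b := 137500) h274 pairs_okAt137000 rfl
  have h276 := forall_lt_step (b := 138000) h275 pairs_okAt137500 rfl
  have h277 := forall_lt_step (b := 138500) h276 pairs_okAt138000 rfl
  have h278 := forall_lt_step (b := 139000) h277 pairs_okAt138500 rfl
  have h279 := forall_lt_step (b := 139500) h278 pairs_okAt139000 rfl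
  have h280 := forall_lt_step (b := 140000) h279 pairs_okAt139500 rfl
  have h281 := forall_lt_step (b := 140500) h280 pairs_okAt140000 rfl
  have h282 := forall_lt_step (b := 141000) h281 pairs_okAt140500 rfl
  have h283 := forall_lt_step (b := 141500) h282 pairs_okAt141000 rfl
  have h284 := forall_lt_step (b := 142000) h283 pairs_okAt141500 rfl
  have h285 := forall_lt_step (b := 142500) h284 pairs_okAt142000 rfl
  have h286 := forall_lt_step (b := 143000) h285 pairs_okAt142500 rfl
  have h287 := forall_lt_step (b := 143500) h286 pairs_okAt143000 rfl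
  have h288 := forall_lt_step (b := 144000) h287 pairs_okAt143500 rfl
  have h289 := forall_lt_step (b := 144500) h288 pairs_okAt144000 rfl
  have h290 := forall_lt_step (b := 145000) h289 pairs_okAt144500 rfl
  have h291 := forall_lt_step (b := 145500) h290 pairs_okAt145000 rfl
  have h292 := forall_lt_step (b := 146000) h291 pairs_okAt145500 rfl
  have h293 := forall_lt_step (b := 146500) h292 pairs_okAt146000 rfl
  have h294 := forall_lt_step (b := 147000) h293 pairs_okAt146500 rfl
  have h295 := forall_lt_step (b := 147500) h294 pairs_okAt147000 rfl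
  have h296 := forall_lt_step (b := 148000) h295 pairs_okAt147500 rfl
  have h297 := forall_lt_step (b := 148500) h296 pairs_okAt148000 rfl
  have h298 := forall_lt_step (b := 149000) h297 pairs_okAt148500 rfl
  have h299 := forall_lt_step (b := 149500) h298 pairs_okAt149000 rfl
  have h300 := forall_lt_step (b := 150000) h299 pairs_okAt149500 rfl
  have h301 := forall_lt_step (b := 150500) h300 pairs_okAt150000 rfl
  have h302 := forall_lt_step (b := 151000) h301 pairs_okAt150500 rfl
  have h303 := forall_lt_step (b := 151500) h302 pairs_okAt151000 rfl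
  have h304 := forall_lt_step (b := 152000) h303 pairs_okAt151500 rfl
  have h305 := forall_lt_step (b := 152500) h304 pairs_okAt152000 rfl
  have h306 := forall_lt_step (b := 153000) h305 pairs_okAt152500 rfl
  have h307 := forall_lt_step (b := 153500) h306 pairs_okAt153000 rfl
  have h308 := forall_lt_step (b := 154000) h307 pairs_okAt153500 rfl
  have h309 := forall_lt_step (b := 154500) h308 pairs_okAt154000 rfl
  have h310 := forall_lt_step (b := 155000) h309 pairs_okAt154500 rfl
  have h311 := forall_lt_step (b := 155500) h310 pairs_okAt155000 rfl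
  have h312 := forall_lt_step (b := 156000) h311 pairs_okAt155500 rfl
  have h313 := forall_lt_step (b := 156500) h312 pairs_okAt156000 rfl
  have h314 := forall_lt_step (b := 157000) h313 pairs_okAt156500 rfl
  have h315 := forall_lt_step (b := 157500) h314 pairs_okAt157000 rfl
  have h316 := forall_lt_step (b := 158000) h315 pairs_okAt157500 rfl
  have h317 := forall_lt_step (b := 158500) h316 pairs_okAt158000 rfl
  have h318 := forall_lt_step (b := 159000) h317 pairs_okAt158500 rfl
  have h319 := forall_lt_step (b := 159500) h318 pairs_okAt159000 rfl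
  have h320 := forall_lt_step (b := 160000) h319 pairs_okAt159500 rfl
  have h321 := forall_lt_step (b := 160500) h320 pairs_okAt160000 rfl
  have h322 := forall_lt_step (b := 161000) h321 pairs_okAt160500 rfl
  have h323 := forall_lt_step (b := 161500) h322 pairs_okAt161000 rfl
  have h324 := forall_lt_step (b := 162000) h323 pairs_okAt161500 rfl
  have h325 := forall_lt_step (b := 162500) h324 pairs_okAt162000 rfl
  have h326 := forall_lt_step (b := 163000) h325 pairs_okAt162500 rfl
  have h327 := forall_lt_step (b := 163500) h326 pairs_okAt163000 rfl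
  have h328 := forall_lt_step (b := 164000) h327 pairs_okAt163500 rfl
  have h329 := forall_lt_step (b := 164500) h328 pairs_okAt164000 rfl
  have h330 := forall_lt_step (b := 165000) h329 pairs_okAt164500 rfl
  have h331 := forall_lt_step (b := 165500) h330 pairs_okAt165000 rfl
  have h332 := forall_lt_step (b := 166000) h331 pairs_okAt165500 rfl
  have h333 := forall_lt_step (b := 166500) h332 pairs_okAt166000 rfl
  have h334 := forall_lt_step (b := 167000) h333 pairs_okAt166500 rfl
  have h335 := forall_lt_step (b := 167500) h334 pairs_okAt167000 rfl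
  have h336 := forall_lt_step (b := 168000) h335 pairs_okAt167500 rfl
  have h337 := forall_lt_step (b := 168500) h336 pairs_okAt168000 rfl
  have h338 := forall_lt_step (b := 169000) h337 pairs_okAt168500 rfl
  have h339 := forall_lt_step (b := 169500) h338 pairs_okAt169000 rfl
  have h340 := forall_lt_step (b := 170000) h339 pairs_okAt169500 rfl
  have h341 := forall_lt_step (b := 170500) h340 pairs_okAt170000 rfl
  have h342 := forall_lt_step (b := 171000) h341 pairs_okAt170500 rfl
  have h343 := forall_lt_step (b := 171500) h342 pairs_okAt171000 rfl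
  have h344 := forall_lt_step (b := 172000) h343 pairs_okAt171500 rfl
  have h345 := forall_lt_step (b := 172500) h344 pairs_okAt172000 rfl
  have h346 := forall_lt_step (b := 173000) h345 pairs_okAt172500 rfl
  have h347 := forall_lt_step (b := 173500) h346 pairs_okAt173000 rfl
  have h348 := forall_lt_step (b := 174000) h347 pairs_okAt173500 rfl
  have h349 := forall_lt_step (b := 174500) h348 pairs_okAt174000 rfl
  have h350 := forall_lt_step (b := 175000) h349 pairs_okAt174500 rfl
  have h351 := forall_lt_step (b := 175500) h350 pairs_okAt175000 rfl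
  have h352 := forall_lt_step (b := 176000) h351 pairs_okAt175500 rfl
  have h353 := forall_lt_step (b := 176500) h352 pairs_okAt176000 rfl
  have h354 := forall_lt_step (b := 177000) h353 pairs_okAt176500 rfl
  have h355 := forall_lt_step (b := 177500) h354 pairs_okAt177000 rfl
  have h356 := forall_lt_step (b := 178000) h355 pairs_okAt177500 rfl
  have h357 := forall_lt_step (b := 178500) h356 pairs_okAt178000 rfl
  have h358 := forall_lt_step (b := 179000) h357 pairs_okAt178500 rfl
  have h359 := forall_lt_step (b := 179500) h358 pairs_okAt179000 rfl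
  have h360 := forall_lt_step (b := 180000) h359 pairs_okAt179500 rfl
  have h361 := forall_lt_step (b := 180500) h360 pairs_okAt180000 rfl
  have h362 := forall_lt_step (b := 181000) h361 pairs_okAt180500 rfl
  have h363 := forall_lt_step (b := 181500) h362 pairs_okAt181000 rfl
  have h364 := forall_lt_step (b := 182000) h363 pairs_okAt181500 rfl
  have h365 := forall_lt_step (b := 182500) h364 pairs_okAt182000 rfl
  have h366 := forall_lt_step (b := 183000) h365 pairs_okAt182500 rfl
  have h367 := forall_lt_step (b := 183500) h366 pairs_okAt183000 rfl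
  have h368 := forall_lt_step (b := 184000) h367 pairs_okAt183500 rfl
  have h369 := forall_lt_step (b := 184500) h368 pairs_okAt184000 rfl
  have h370 := forall_lt_step (b := 185000) h369 pairs_okAt184500 rfl
  have h371 := forall_lt_step (b := 185500) h370 pairs_okAt185000 rfl
  have h372 := forall_lt_step (b := 186000) h371 pairs_okAt185500 rfl
  have h373 := forall_lt_step (b := 186500) h372 pairs_okAt186000 rfl
  have h374 := forall_lt_step (b := 187000) h373 pairs_okAt186500 rfl
  have h375 := forall_lt_step (b := 187500) h374 pairs_okAt187000 rfl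
  have h376 := forall_lt_step (b := 188000) h375 pairs_okAt187500 rfl
  have h377 := forall_lt_step (b := 188500) h376 pairs_okAt188000 rfl
  have h378 := forall_lt_step (b := 189000) h377 pairs_okAt188500 rfl
  have h379 := forall_lt_step (b := 189500) h378 pairs_okAt189000 rfl
  have h380 := forall_lt_step (b := 190000) h379 pairs_okAt189500 rfl
  have h381 := forall_lt_step (b := 190500) h380 pairs_okAt190000 rfl
  have h382 := forall_lt_step (b := 191000) h381 pairs_okAt190500 rfl
  have h383 := forall_lt_step (b := 191500) h382 pairs_okAt191000 rfl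
  have h384 := forall_lt_step (b := 192000) h383 pairs_okAt191500 rfl
  have h385 := forall_lt_step (b := 192500) h384 pairs_okAt192000 rfl
  have h386 := forall_lt_step (b := 193000) h385 pairs_okAt192500 rfl
  have h387 := forall_lt_step (b := 193500) h386 pairs_okAt193000 rfl
  have h388 := forall_lt_step (b := 194000) h387 pairs_okAt193500 rfl
  have h389 := forall_lt_step (b := 194500) h388 pairs_okAt194000 rfl
  have h390 := forall_lt_step (b := 195000) h389 pairs_okAt194500 rfl
  have h391 := forall_lt_step (b := 195500) h390 pairs_okAt195000 rfl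
  have h392 := forall_lt_step (b := 196000) h391 pairs_okAt195500 rfl
  have h393 := forall_lt_step (b := 196500) h392 pairs_okAt196000 rfl
  have h394 := forall_lt_step (b := 197000) h393 pairs_okAt196500 rfl
  have h395 := forall_lt_step (b := 197500) h394 pairs_okAt197000 rfl
  have h396 := forall_lt_step (b := 198000) h395 pairs_okAt197500 rfl
  have h397 := forall_lt_step (b := 198500) h396 pairs_okAt198000 rfl
  have h398 := forall_lt_step (b := 199000) h397 pairs_okAt198500 rfl
  have h399 := forall_lt_step (b := 199500) h398 pairs_okAt199000 rfl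
  have h400 := forall_lt_step (b := 200000) h399 pairs_okAt199500 rfl
  have h401 := forall_lt_step (b := 200500) h400 pairs_okAt200000 rfl
  have h402 := forall_lt_step (b := 201000) h401 pairs_okAt200500 rfl
  have h403 := forall_lt_step (b := 201500) h402 pairs_okAt201000 rfl
  have h404 := forall_lt_step (b := 202000) h403 pairs_okAt201500 rfl
  have h405 := forall_lt_step (b := 202500) h404 pairs_okAt202000 rfl
  have h406 := forall_lt_step (b := 203000) h405 pairs_okAt202500 rfl
  have h407 := forall_lt_step (b := 203500) h406 pairs_okAt203000 rfl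
  have h408 := forall_lt_step (b := 204000) h407 pairs_okAt203500 rfl
  have h409 := forall_lt_step (b := 204500) h408 pairs_okAt204000 rfl
  have h410 := forall_lt_step (b := 205000) h409 pairs_okAt204500 rfl
  have h411 := forall_lt_step (b := 205500) h410 pairs_okAt205000 rfl
  have h412 := forall_lt_step (b := 206000) h411 pairs_okAt205500 rfl
  have h413 := forall_lt_step (b := 206500) h412 pairs_okAt206000 rfl
  have h414 := forall_lt_step (b := 207000) h413 pairs_okAt206500 rfl
  have h415 := forall_lt_step (b := 207500) h414 pairs_okAt207000 rfl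
  have h416 := forall_lt_step (b := 208000) h415 pairs_okAt207500 rfl
  have h417 := forall_lt_step (b := 208500) h416 pairs_okAt208000 rfl
  have h418 := forall_lt_step (b := 209000) h417 pairs_okAt208500 rfl
  have h419 := forall_lt_step (b := 209500) h418 pairs_okAt209000 rfl
  have h420 := forall_lt_step (b := 210000) h419 pairs_okAt209500 rfl
  have h421 := forall_lt_step (b := 210500) h420 pairs_okAt210000 rfl
  have h422 := forall_lt_step (b := 211000) h421 pairs_okAt210500 rfl
  have h423 := forall_lt_step (b := 211500) h422 pairs_okAt211000 rfl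
  have h424 := forall_lt_step (b := 212000) h423 pairs_okAt211500 rfl
  have h425 := forall_lt_step (b := 212500) h424 pairs_okAt212000 rfl
  have h426 := forall_lt_step (b := 213000) h425 pairs_okAt212500 rfl
  have h427 := forall_lt_step (b := 213500) h426 pairs_okAt213000 rfl
  have h428 := forall_lt_step (b := 214000) h427 pairs_okAt213500 rfl
  have h429 := forall_lt_step (b := 214500) h428 pairs_okAt214000 rfl
  have h430 := forall_lt_step (b := 215000) h429 pairs_okAt214500 rfl
  have h431 := forall_lt_step (b := 215500) h430 pairs_okAt215000 rfl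
  have h432 := forall_lt_step (b := 216000) h431 pairs_okAt215500 rfl
  have h433 := forall_lt_step (b := 216500) h432 pairs_okAt216000 rfl
  have h434 := forall_lt_step (b := 217000) h433 pairs_okAt216500 rfl
  have h435 := forall_lt_step (b := 217500) h434 pairs_okAt217000 rfl
  have h436 := forall_lt_step (b := 218000) h435 pairs_okAt217500 rfl
  have h437 := forall_lt_step (b := 218500) h436 pairs_okAt218000 rfl
  have h438 := forall_lt_step (b := 219000) h437 pairs_okAt218500 rfl
  have h439 := forall_lt_step (b := 219500) h438 pairs_okAt219000 rfl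
  have h440 := forall_lt_step (b := 220000) h439 pairs_okAt219500 rfl
  have h441 := forall_lt_step (b := 220500) h440 pairs_okAt220000 rfl
  have h442 := forall_lt_step (b := 221000) h441 pairs_okAt220500 rfl
  have h443 := forall_lt_step (b := 221500) h442 pairs_okAt221000 rfl
  have h444 := forall_lt_step (b := 222000) h443 pairs_okAt221500 rfl
  have h445 := forall_lt_step (b := 222500) h444 pairs_okAt222000 rfl
  have h446 := forall_lt_step (b := 223000) h445 pairs_okAt222500 rfl
  have h447 := forall_lt_step (b := 223500) h446 pairs_okAt223000 rfl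
  have h448 := forall_lt_step (b := 224000) h447 pairs_okAt223500 rfl
  have h449 := forall_lt_step (b := 224500) h448 pairs_okAt224000 rfl
  have h450 := forall_lt_step (b := 225000) h449 pairs_okAt224500 rfl
  have h451 := forall_lt_step (b := 225500) h450 pairs_okAt225000 rfl
  have h452 := forall_lt_step (b := 226000) h451 pairs_okAt225500 rfl
  have h453 := forall_lt_step (b := 226500) h452 pairs_okAt226000 rfl
  have h454 := forall_lt_step (b := 227000) h453 pairs_okAt226500 rfl
  have h455 := forall_lt_step (b := 227500) h454 pairs_okAt227000 rfl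
  have h456 := forall_lt_step (b := 228000) h455 pairs_okAt227500 rfl
  have h457 := forall_lt_step (b := 228500) h456 pairs_okAt228000 rfl
  have h458 := forall_lt_step (b := 229000) h457 pairs_okAt228500 rfl
  have h459 := forall_lt_step (b := 229500) h458 pairs_okAt229000 rfl
  have h460 := forall_lt_step (b := 230000) h459 pairs_okAt229500 rfl
  have h461 := forall_lt_step (b := 230500) h460 pairs_okAt230000 rfl
  have h462 := forall_lt_step (b := 231000) h461 pairs_okAt230500 rfl
  have h463 := forall_lt_step (b := 231500) h462 pairs_okAt231000 rfl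
  have h464 := forall_lt_step (b := 232000) h463 pairs_okAt231500 rfl
  have h465 := forall_lt_step (b := 232500) h464 pairs_okAt232000 rfl
  have h466 := forall_lt_step (b := 233000) h465 pairs_okAt232500 rfl
  have h467 := forall_lt_step (b := 233500) h466 pairs_okAt233000 rfl
  have h468 := forall_lt_step (b := 234000) h467 pairs_okAt233500 rfl
  have h469 := forall_lt_step (b := 234500) h468 pairs_okAt234000 rfl
  have h470 := forall_lt_step (b := 235000) h469 pairs_okAt234500 rfl
  have h471 := forall_lt_step (b := 235500) h470 pairs_okAt235000 rfl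
  have h472 := forall_lt_step (b := 236000) h471 pairs_okAt235500 rfl
  have h473 := forall_lt_step (b := 236500) h472 pairs_okAt236000 rfl
  have h474 := forall_lt_step (b := 237000) h473 pairs_okAt236500 rfl
  have h475 := forall_lt_step (b := 237500) h474 pairs_okAt237000 rfl
  have h476 := forall_lt_step (b := 238000) h475 pairs_okAt237500 rfl
  have h477 := forall_lt_step (b := 238500) h476 pairs_okAt238000 rfl
  have h478 := forall_lt_step (b := 239000) h477 pairs_okAt238500 rfl
  have h479 := forall_lt_step (b := 239500) h478 pairs_okAt239000 rfl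
  have h480 := forall_lt_step (b := 240000) h479 pairs_okAt239500 rfl
  have h481 := forall_lt_step (b := 240500) h480 pairs_okAt240000 rfl
  have h482 := forall_lt_step (b := 241000) h481 pairs_okAt240500 rfl
  have h483 := forall_lt_step (b := 241500) h482 pairs_okAt241000 rfl
  have h484 := forall_lt_step (b := 242000) h483 pairs_okAt241500 rfl
  have h485 := forall_lt_step (b := 242500) h484 pairs_okAt242000 rfl
  have h486 := forall_lt_step (b := 243000) h485 pairs_okAt242500 rfl
  have h487 := forall_lt_step (b := 243500) h486 pairs_okAt243000 rfl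
  have h488 := forall_lt_step (b := 244000) h487 pairs_okAt243500 rfl
  have h489 := forall_lt_step (b := 244500) h488 pairs_okAt244000 rfl
  have h490 := forall_lt_step (b := 245000) h489 pairs_okAt244500 rfl
  have h491 := forall_lt_step (b := 245500) h490 pairs_okAt245000 rfl
  have h492 := forall_lt_step (b := 246000) h491 pairs_okAt245500 rfl
  have h493 := forall_lt_step (b := 246500) h492 pairs_okAt246000 rfl
  have h494 := forall_lt_step (b := 247000) h493 pairs_okAt246500 rfl
  have h495 := forall_lt_step (b := 247500) h494 pairs_okAt247000 rfl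
  have h496 := forall_lt_step (b := 248000) h495 pairs_okAt247500 rfl
  have h497 := forall_lt_step (b := 248500) h496 pairs_okAt248000 rfl
  have h498 := forall_lt_step (b := 249000) h497 pairs_okAt248500 rfl
  have h499 := forall_lt_step (b := 249500) h498 pairs_okAt249000 rfl
  have h500 := forall_lt_step (b := 250000) h499 pairs_okAt249500 rfl
  have h501 := forall_lt_step (b := 250500) h500 pairs_okAt250000 rfl
  have h502 := forall_lt_step (b := 251000) h501 pairs_okAt250500 rfl
  have h503 := forall_lt_step (b := 251500) h502 pairs_okAt251000 rfl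
  have h504 := forall_lt_step (b := 252000) h503 pairs_okAt251500 rfl
  have h505 := forall_lt_step (b := 252500) h504 pairs_okAt252000 rfl
  have h506 := forall_lt_step (b := 253000) h505 pairs_okAt252500 rfl
  have h507 := forall_lt_step (b := 253500) h506 pairs_okAt253000 rfl
  have h508 := forall_lt_step (b := 254000) h507 pairs_okAt253500 rfl
  have h509 := forall_lt_step (b := 254500) h508 pairs_okAt254000 rfl
  have h510 := forall_lt_step (b := 255000) h509 pairs_okAt254500 rfl
  have h511 := forall_lt_step (b := 255500) h510 pairs_okAt255000 rfl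
  have h512 := forall_lt_step (b := 256000) h511 pairs_okAt255500 rfl
  have h513 := forall_lt_step (b := 256500) h512 pairs_okAt256000 rfl
  have h514 := forall_lt_step (b := 257000) h513 pairs_okAt256500 rfl
  have h515 := forall_lt_step (b := 257500) h514 pairs_okAt257000 rfl
  have h516 := forall_lt_step (b := 258000) h515 pairs_okAt257500 rfl
  have h517 := forall_lt_step (b := 258500) h516 pairs_okAt258000 rfl
  have h518 := forall_lt_step (b := 259000) h517 pairs_okAt258500 rfl
  have h519 := forall_lt_step (b := 259500) h518 pairs_okAt259000 rfl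
  have h520 := forall_lt_step (b := 260000) h519 pairs_okAt259500 rfl
  have h521 := forall_lt_step (b := 260500) h520 pairs_okAt260000 rfl
  have h522 := forall_lt_step (b := 261000) h521 pairs_okAt260500 rfl
  have h523 := forall_lt_step (b := 261500) h522 pairs_okAt261000 rfl
  have h524 := forall_lt_step (b := 262000) h523 pairs_okAt261500 rfl
  have h525 := forall_lt_step (b := 262500) h524 pairs_okAt262000 rfl
  have h526 := forall_lt_step (b := 263000) h525 pairs_okAt262500 rfl
  have h527 := forall_lt_step (b := 263500) h526 pairs_okAt263000 rfl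
  have h528 := forall_lt_step (b := 264000) h527 pairs_okAt263500 rfl
  have h529 := forall_lt_step (b := 264500) h528 pairs_okAt264000 rfl
  have h530 := forall_lt_step (b := 265000) h529 pairs_okAt264500 rfl
  have h531 := forall_lt_step (b := 265500) h530 pairs_okAt265000 rfl
  have h532 := forall_lt_step (b := 266000) h531 pairs_okAt265500 rfl
  have h533 := forall_lt_step (b := 266500) h532 pairs_okAt266000 rfl
  have h534 := forall_lt_step (b := 267000) h533 pairs_okAt266500 rfl
  have h535 := forall_lt_step (b := 267500) h534 pairs_okAt267000 rfl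
  have h536 := forall_lt_step (b := 268000) h535 pairs_okAt267500 rfl
  have h537 := forall_lt_step (b := 268500) h536 pairs_okAt268000 rfl
  have h538 := forall_lt_step (b := 269000) h537 pairs_okAt268500 rfl
  have h539 := forall_lt_step (b := 269500) h538 pairs_okAt269000 rfl
  have h540 := forall_lt_step (b := 270000) h539 pairs_okAt269500 rfl
  have h541 := forall_lt_step (b := 270500) h540 pairs_okAt270000 rfl
  have h542 := forall_lt_step (b := 271000) h541 pairs_okAt270500 rfl
  have h543 := forall_lt_step (b := 271500) h542 pairs_okAt271000 rfl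
  have h544 := forall_lt_step (b := 272000) h543 pairs_okAt271500 rfl
  have h545 := forall_lt_step (b := 272500) h544 pairs_okAt272000 rfl
  have h546 := forall_lt_step (b := 273000) h545 pairs_okAt272500 rfl
  have h547 := forall_lt_step (b := 273500) h546 pairs_okAt273000 rfl
  have h548 := forall_lt_step (b := 274000) h547 pairs_okAt273500 rfl
  have h549 := forall_lt_step (b := 274500) h548 pairs_okAt274000 rfl
  have h550 := forall_lt_step (b := 275000) h549 pairs_okAt274500 rfl
  have h551 := forall_lt_step (b := 275500) h550 pairs_okAt275000 rfl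
  have h552 := forall_lt_step (b := 276000) h551 pairs_okAt275500 rfl
  have h553 := forall_lt_step (b := 276500) h552 pairs_okAt276000 rfl
  have h554 := forall_lt_step (b := 277000) h553 pairs_okAt276500 rfl
  have h555 := forall_lt_step (b := 277500) h554 pairs_okAt277000 rfl
  have h556 := forall_lt_step (b := 278000) h555 pairs_okAt277500 rfl
  have h557 := forall_lt_step (b := 278500) h556 pairs_okAt278000 rfl
  have h558 := forall_lt_step (b := 279000) h557 pairs_okAt278500 rfl
  have h559 := forall_lt_step (b := 279500) h558 pairs_okAt279000 rfl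
  have h560 := forall_lt_step (b := 280000) h559 pairs_okAt279500 rfl
  have h561 := forall_lt_step (b := 280500) h560 pairs_okAt280000 rfl
  have h562 := forall_lt_step (b := 281000) h561 pairs_okAt280500 rfl
  have h563 := forall_lt_step (b := 281500) h562 pairs_okAt281000 rfl
  have h564 := forall_lt_step (b := 282000) h563 pairs_okAt281500 rfl
  have h565 := forall_lt_step (b := 282500) h564 pairs_okAt282000 rfl
  have h566 := forall_lt_step (b := 283000) h565 pairs_okAt282500 rfl
  have h567 := forall_lt_step (b := 283500) h566 pairs_okAt283000 rfl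
  have h568 := forall_lt_step (b := 284000) h567 pairs_okAt283500 rfl
  have h569 := forall_lt_step (b := 284500) h568 pairs_okAt284000 rfl
  have h570 := forall_lt_step (b := 285000) h569 pairs_okAt284500 rfl
  have h571 := forall_lt_step (b := 285500) h570 pairs_okAt285000 rfl
  have h572 := forall_lt_step (b := 286000) h571 pairs_okAt285500 rfl
  have h573 := forall_lt_step (b := 286500) h572 pairs_okAt286000 rfl
  have h574 := forall_lt_step (b := 287000) h573 pairs_okAt286500 rfl
  have h575 := forall_lt_step (b := 287500) h574 pairs_okAt287000 rfl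
  have h576 := forall_lt_step (b := 288000) h575 pairs_okAt287500 rfl
  have h577 := forall_lt_step (b := 288500) h576 pairs_okAt288000 rfl
  have h578 := forall_lt_step (b := 289000) h577 pairs_okAt288500 rfl
  have h579 := forall_lt_step (b := 289500) h578 pairs_okAt289000 rfl
  have h580 := forall_lt_step (b := 290000) h579 pairs_okAt289500 rfl
  have h581 := forall_lt_step (b := 290500) h580 pairs_okAt290000 rfl
  have h582 := forall_lt_step (b := 291000) h581 pairs_okAt290500 rfl
  have h583 := forall_lt_step (b := 291500) h582 pairs_okAt291000 rfl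
  have h584 := forall_lt_step (b := 292000) h583 pairs_okAt291500 rfl
  have h585 := forall_lt_step (b := 292500) h584 pairs_okAt292000 rfl
  have h586 := forall_lt_step (b := 293000) h585 pairs_okAt292500 rfl
  have h587 := forall_lt_step (b := 293500) h586 pairs_okAt293000 rfl
  have h588 := forall_lt_step (b := 294000) h587 pairs_okAt293500 rfl
  have h589 := forall_lt_step (b := 294500) h588 pairs_okAt294000 rfl
  have h590 := forall_lt_step (b := 295000) h589 pairs_okAt294500 rfl
  have h591 := forall_lt_step (b := 295500) h590 pairs_okAt295000 rfl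
  have h592 := forall_lt_step (b := 296000) h591 pairs_okAt295500 rfl
  have h593 := forall_lt_step (b := 296500) h592 pairs_okAt296000 rfl
  have h594 := forall_lt_step (b := 297000) h593 pairs_okAt296500 rfl
  have h595 := forall_lt_step (b := 297500) h594 pairs_okAt297000 rfl
  have h596 := forall_lt_step (b := 298000) h595 pairs_okAt297500 rfl
  have h597 := forall_lt_step (b := 298500) h596 pairs_okAt298000 rfl
  have h598 := forall_lt_step (b := 299000) h597 pairs_okAt298500 rfl
  have h599 := forall_lt_step (b := 299500) h598 pairs_okAt299000 rfl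
  have h600 := forall_lt_step (b := 300000) h599 pairs_okAt299500 rfl
  have h601 := forall_lt_step (b := 300500) h600 pairs_okAt300000 rfl
  have h602 := forall_lt_step (b := 301000) h601 pairs_okAt300500 rfl
  have h603 := forall_lt_step (b := 301500) h602 pairs_okAt301000 rfl
  have h604 := forall_lt_step (b := 302000) h603 pairs_okAt301500 rfl
  have h605 := forall_lt_step (b := 302500) h604 pairs_okAt302000 rfl
  have h606 := forall_lt_step (b := 303000) h605 pairs_okAt302500 rfl
  have h607 := forall_lt_step (b := 303500) h606 pairs_okAt303000 rfl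
  have h608 := forall_lt_step (b := 304000) h607 pairs_okAt303500 rfl
  have h609 := forall_lt_step (b := 304500) h608 pairs_okAt304000 rfl
  have h610 := forall_lt_step (b := 305000) h609 pairs_okAt304500 rfl
  have h611 := forall_lt_step (b := 305500) h610 pairs_okAt305000 rfl
  have h612 := forall_lt_step (b := 306000) h611 pairs_okAt305500 rfl
  have h613 := forall_lt_step (b := 306500) h612 pairs_okAt306000 rfl
  have h614 := forall_lt_step (b := 306936) h613 pairs_okAt306500 rfl
  exact h614

end Cfsg.Agent.CosetCert.Fi24Index
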