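import Cfsg.Agent.CosetCert.Fi24Index.Defs

/-! Generated: kernel checks. -/

set_option Elab.async false

namespace Cfsg.Agent.CosetCert.Fi24Index

theorem spider_okAt64000 : allFrom (checkPower data spider (get48 spiderStore) 17) 64000 1000 = true := by decide +kernel

theorem spider_okAt65000 : allFrom (checkPower data spider (get48 spiderStore) 17) 65000 1000 = true := by decide +kernel

theorem spider_okAt66000 : allFrom (checkPower data spider (get48 spiderStore) 17) 66000 1000 = true := by decide +kernel

theorem spider_okAt67000 : allFrom (checkPower data spider (get48 spiderStore) 17) 67000 1000 = true := by decide +kernel

theorem spider_okAt68000 : allFrom (checkPower data spider (get48 spiderStore) 17) 68000 1000 = true := by decide +kernel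

theorem spider_okAt69000 : allFrom (checkPower data spider (get48 spiderStore) 17) 69000 1000 = true := by decide +kernel

theorem spider_okAt70000 : allFrom (checkPower data spider (get48 spiderStore) 17) 70000 1000 = true := by decide +kernel

theorem spider_okAt71000 : allFrom (checkPower data spider (get48 spiderStore) 17) 71000 1000 = true := by decide +kernel

theorem spider_okAt72000 : allFrom (checkPower data spider (get48 spiderStore) 17) 72000 1000 = true := by decide +kernel

theorem spider_okAt73000 : allFrom (checkPower data spider (get48 spiderStore) 17) 73000 1000 = true := by decide +kernel

theorem spider_okAt74000 : allFrom (checkPower data spider (get48 spiderStore) 17) 74000 1000 = true := by decide +kernel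

theorem spider_okAt75000 : allFrom (checkPower data spider (get48 spiderStore) 17) 75000 1000 = true := by decide +kernel

theorem spider_okAt76000 : allFrom (checkPower data spider (get48 spiderStore) 17) 76000 1000 = true := by decide +kernel

theorem spider_okAt77000 : allFrom (checkPower data spider (get48 spiderStore) 17) 77000 1000 = true := by decide +kernel

theorem spider_okAt78000 : allFrom (checkPower data spider (get48 spiderStore) 17) 78000 1000 = true := by decide +kernel

theorem spider_okAt79000 : allFrom (checkPower data spider (get48 spiderStore) 17) 79000 1000 = true := by decide +kernel

theorem spider_okAt80000 : allFrom (checkPower data spider (get48 spiderStore) 17) 80000 1000 = true := by decide +kernel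

theorem spider_okAt81000 : allFrom (checkPower data spider (get48 spiderStore) 17) 81000 1000 = true := by decide +kernel

theorem spider_okAt82000 : allFrom (checkPower data spider (get48 spiderStore) 17) 82000 1000 = true := by decide +kernel

theorem spider_okAt83000 : allFrom (checkPower data spider (get48 spiderStore) 17) 83000 1000 = true := by decide +kernel

theorem spider_okAt84000 : allFrom (checkPower data spider (get48 spiderStore) 17) 84000 1000 = true := by decide +kernel

theorem spider_okAt85000 : allFrom (checkPower data spider (get48 spiderStore) 17) 85000 1000 = true := by decide +kernel

theorem spider_okAt86000 : allFrom (checkPower data spider (get48 spiderStore) 17) 86000 1000 = true := by decide +kernel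

theorem spider_okAt87000 : allFrom (checkPower data spider (get48 spiderStore) 17) 87000 1000 = true := by decide +kernel

theorem spider_okAt88000 : allFrom (checkPower data spider (get48 spiderStore) 17) 88000 1000 = true := by decide +kernel

theorem spider_okAt89000 : allFrom (checkPower data spider (get48 spiderStore) 17) 89000 1000 = true := by decide +kernel

theorem spider_okAt90000 : allFrom (checkPower data spider (get48 spiderStore) 17) 90000 1000 = true := by decide +kernel

theorem spider_okAt91000 : allFrom (checkPower data spider (get48 spiderStore) 17) 91000 1000 = true := by decide +kernel

theorem spider_okAt92000 : allFrom (checkPower data spider (get48 spiderStore) 17) 92000 1000 = true := by decide +kernel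

theorem spider_okAt93000 : allFrom (checkPower data spider (get48 spiderStore) 17) 93000 1000 = true := by decide +kernel

theorem spider_okAt94000 : allFrom (checkPower data spider (get48 spiderStore) 17) 94000 1000 = true := by decide +kernel

theorem spider_okAt95000 : allFrom (checkPower data spider (get48 spiderStore) 17) 95000 1000 = true := by decide +kernel

end Cfsg.Agent.CosetCert.Fi24Index
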