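import Cfsg.Agent.CosetCert.Fi24Index.Defs

/-! Generated: kernel checks. -/

set_option Elab.async false

namespace Cfsg.Agent.CosetCert.Fi24Index

theorem spider_okAt96000 : allFrom (checkPower data spider (get48 spiderStore) 17) 96000 1000 = true := by decide +kernel

theorem spider_okAt97000 : allFrom (checkPower data spider (get48 spiderStore) 17) 97000 1000 = true := by decide +kernel

theorem spider_okAt98000 : allFrom (checkPower data spider (get48 spiderStore) 17) 98000 1000 = true := by decide +kernel

theorem spider_okAt99000 : allFrom (checkPower data spider (get48 spiderStore) 17) 99000 1000 = true := by decide +kernel

theorem spider_okAt100000 : allFrom (checkPower data spider (get48 spiderStore) 17) 100000 1000 = true := by decide +kernel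

theorem spider_okAt101000 : allFrom (checkPower data spider (get48 spiderStore) 17) 101000 1000 = true := by decide +kernel

theorem spider_okAt102000 : allFrom (checkPower data spider (get48 spiderStore) 17) 102000 1000 = true := by decide +kernel

theorem spider_okAt103000 : allFrom (checkPower data spider (get48 spiderStore) 17) 103000 1000 = true := by decide +kernel

theorem spider_okAt104000 : allFrom (checkPower data spider (get48 spiderStore) 17) 104000 1000 = true := by decide +kernel

theorem spider_okAt105000 : allFrom (checkPower data spider (get48 spiderStore) 17) 105000 1000 = true := by decide +kernel

theorem spider_okAt106000 : allFrom (checkPower data spider (get48 spiderStore) 17) 106000 1000 = true := by decide +kernel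

theorem spider_okAt107000 : allFrom (checkPower data spider (get48 spiderStore) 17) 107000 1000 = true := by decide +kernel

theorem spider_okAt108000 : allFrom (checkPower data spider (get48 spiderStore) 17) 108000 1000 = true := by decide +kernel

theorem spider_okAt109000 : allFrom (checkPower data spider (get48 spiderStore) 17) 109000 1000 = true := by decide +kernel

theorem spider_okAt110000 : allFrom (checkPower data spider (get48 spiderStore) 17) 110000 1000 = true := by decide +kernel

theorem spider_okAt111000 : allFrom (checkPower data spider (get48 spiderStore) 17) 111000 1000 = true := by decide +kernel

theorem spider_okAt112000 : allFrom (checkPower data spider (get48 spiderStore) 17) 112000 1000 = true := by decide +kernel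

theorem spider_okAt113000 : allFrom (checkPower data spider (get48 spiderStore) 17) 113000 1000 = true := by decide +kernel

theorem spider_okAt114000 : allFrom (checkPower data spider (get48 spiderStore) 17) 114000 1000 = true := by decide +kernel

theorem spider_okAt115000 : allFrom (checkPower data spider (get48 spiderStore) 17) 115000 1000 = true := by decide +kernel

theorem spider_okAt116000 : allFrom (checkPower data spider (get48 spiderStore) 17) 116000 1000 = true := by decide +kernel

theorem spider_okAt117000 : allFrom (checkPower data spider (get48 spiderStore) 17) 117000 1000 = true := by decide +kernel

theorem spider_okAt118000 : allFrom (checkPower data spider (get48 spiderStore) 17) 118000 1000 = true := by decide +kernel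

theorem spider_okAt119000 : allFrom (checkPower data spider (get48 spiderStore) 17) 119000 1000 = true := by decide +kernel

theorem spider_okAt120000 : allFrom (checkPower data spider (get48 spiderStore) 17) 120000 1000 = true := by decide +kernel

theorem spider_okAt121000 : allFrom (checkPower data spider (get48 spiderStore) 17) 121000 1000 = true := by decide +kernel

theorem spider_okAt122000 : allFrom (checkPower data spider (get48 spiderStore) 17) 122000 1000 = true := by decide +kernel

theorem spider_okAt123000 : allFrom (checkPower data spider (get48 spiderStore) 17) 123000 1000 = true := by decide +kernel

theorem spider_okAt124000 : allFrom (checkPower data spider (get48 spiderStore) 17) 124000 1000 = true := by decide +kernel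

theorem spider_okAt125000 : allFrom (checkPower data spider (get48 spiderStore) 17) 125000 1000 = true := by decide +kernel

theorem spider_okAt126000 : allFrom (checkPower data spider (get48 spiderStore) 17) 126000 1000 = true := by decide +kernel

theorem spider_okAt127000 : allFrom (checkPower data spider (get48 spiderStore) 17) 127000 1000 = true := by decide +kernel

end Cfsg.Agent.CosetCert.Fi24Index
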