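import Cfsg.Agent.CosetCert.Fi24Index.Defs

/-! Generated: kernel checks. -/

set_option Elab.async false

namespace Cfsg.Agent.CosetCert.Fi24Index

theorem spider_okAt128000 : allFrom (checkPower data spider (get48 spiderStore) 17) 128000 1000 = true := by decide +kernel

theorem spider_okAt129000 : allFrom (checkPower data spider (get48 spiderStore) 17) 129000 1000 = true := by decide +kernel

theorem spider_okAt130000 : allFrom (checkPower data spider (get48 spiderStore) 17) 130000 1000 = true := by decide +kernel

theorem spider_okAt131000 : allFrom (checkPower data spider (get48 spiderStore) 17) 131000 1000 = true := by decide +kernel

theorem spider_okAt132000 : allFrom (checkPower data spider (get48 spiderStore) 17) 132000 1000 = true := by decide +kernel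

theorem spider_okAt133000 : allFrom (checkPower data spider (get48 spiderStore) 17) 133000 1000 = true := by decide +kernel

theorem spider_okAt134000 : allFrom (checkPower data spider (get48 spiderStore) 17) 134000 1000 = true := by decide +kernel

theorem spider_okAt135000 : allFrom (checkPower data spider (get48 spiderStore) 17) 135000 1000 = true := by decide +kernel

theorem spider_okAt136000 : allFrom (checkPower data spider (get48 spiderStore) 17) 136000 1000 = true := by decide +kernel

theorem spider_okAt137000 : allFrom (checkPower data spider (get48 spiderStore) 17) 137000 1000 = true := by decide +kernel

theorem spider_okAt138000 : allFrom (checkPower data spider (get48 spiderStore) 17) 138000 1000 = true := by decide +kernel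

theorem spider_okAt139000 : allFrom (checkPower data spider (get48 spiderStore) 17) 139000 1000 = true := by decide +kernel

theorem spider_okAt140000 : allFrom (checkPower data spider (get48 spiderStore) 17) 140000 1000 = true := by decide +kernel

theorem spider_okAt141000 : allFrom (checkPower data spider (get48 spiderStore) 17) 141000 1000 = true := by decide +kernel

theorem spider_okAt142000 : allFrom (checkPower data spider (get48 spiderStore) 17) 142000 1000 = true := by decide +kernel

theorem spider_okAt143000 : allFrom (checkPower data spider (get48 spiderStore) 17) 143000 1000 = true := by decide +kernel

theorem spider_okAt144000 : allFrom (checkPower data spider (get48 spiderStore) 17) 144000 1000 = true := by decide +kernel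

theorem spider_okAt145000 : allFrom (checkPower data spider (get48 spiderStore) 17) 145000 1000 = true := by decide +kernel

theorem spider_okAt146000 : allFrom (checkPower data spider (get48 spiderStore) 17) 146000 1000 = true := by decide +kernel

theorem spider_okAt147000 : allFrom (checkPower data spider (get48 spiderStore) 17) 147000 1000 = true := by decide +kernel

theorem spider_okAt148000 : allFrom (checkPower data spider (get48 spiderStore) 17) 148000 1000 = true := by decide +kernel

theorem spider_okAt149000 : allFrom (checkPower data spider (get48 spiderStore) 17) 149000 1000 = true := by decide +kernel

theorem spider_okAt150000 : allFrom (checkPower data spider (get48 spiderStore) 17) 150000 1000 = true := by decide +kernel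

theorem spider_okAt151000 : allFrom (checkPower data spider (get48 spiderStore) 17) 151000 1000 = true := by decide +kernel

theorem spider_okAt152000 : allFrom (checkPower data spider (get48 spiderStore) 17) 152000 1000 = true := by decide +kernel

theorem spider_okAt153000 : allFrom (checkPower data spider (get48 spiderStore) 17) 153000 1000 = true := by decide +kernel

theorem spider_okAt154000 : allFrom (checkPower data spider (get48 spiderStore) 17) 154000 1000 = true := by decide +kernel

theorem spider_okAt155000 : allFrom (checkPower data spider (get48 spiderStore) 17) 155000 1000 = true := by decide +kernel

theorem spider_okAt156000 : allFrom (checkPower data spider (get48 spiderStore) 17) 156000 1000 = true := by decide +kernel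

theorem spider_okAt157000 : allFrom (checkPower data spider (get48 spiderStore) 17) 157000 1000 = true := by decide +kernel

theorem spider_okAt158000 : allFrom (checkPower data spider (get48 spiderStore) 17) 158000 1000 = true := by decide +kernel

theorem spider_okAt159000 : allFrom (checkPower data spider (get48 spiderStore) 17) 159000 1000 = true := by decide +kernel

end Cfsg.Agent.CosetCert.Fi24Index
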