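import Cfsg.Agent.CosetCert.Fi24Index.Defs

/-! Generated: kernel checks. -/

set_option Elab.async false

namespace Cfsg.Agent.CosetCert.Fi24Index

theorem spider_okAt160000 : allFrom (checkPower data spider (get48 spiderStore) 17) 160000 1000 = true := by decide +kernel

theorem spider_okAt161000 : allFrom (checkPower data spider (get48 spiderStore) 17) 161000 1000 = true := by decide +kernel

theorem spider_okAt162000 : allFrom (checkPower data spider (get48 spiderStore) 17) 162000 1000 = true := by decide +kernel

theorem spider_okAt163000 : allFrom (checkPower data spider (get48 spiderStore) 17) 163000 1000 = true := by decide +kernel

theorem spider_okAt164000 : allFrom (checkPower data spider (get48 spiderStore) 17) 164000 1000 = true := by decide +kernel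

theorem spider_okAt165000 : allFrom (checkPower data spider (get48 spiderStore) 17) 165000 1000 = true := by decide +kernel

theorem spider_okAt166000 : allFrom (checkPower data spider (get48 spiderStore) 17) 166000 1000 = true := by decide +kernel

theorem spider_okAt167000 : allFrom (checkPower data spider (get48 spiderStore) 17) 167000 1000 = true := by decide +kernel

theorem spider_okAt168000 : allFrom (checkPower data spider (get48 spiderStore) 17) 168000 1000 = true := by decide +kernel

theorem spider_okAt169000 : allFrom (checkPower data spider (get48 spiderStore) 17) 169000 1000 = true := by decide +kernel

theorem spider_okAt170000 : allFrom (checkPower data spider (get48 spiderStore) 17) 170000 1000 = true := by decide +kernel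

theorem spider_okAt171000 : allFrom (checkPower data spider (get48 spiderStore) 17) 171000 1000 = true := by decide +kernel

theorem spider_okAt172000 : allFrom (checkPower data spider (get48 spiderStore) 17) 172000 1000 = true := by decide +kernel

theorem spider_okAt173000 : allFrom (checkPower data spider (get48 spiderStore) 17) 173000 1000 = true := by decide +kernel

theorem spider_okAt174000 : allFrom (checkPower data spider (get48 spiderStore) 17) 174000 1000 = true := by decide +kernel

theorem spider_okAt175000 : allFrom (checkPower data spider (get48 spiderStore) 17) 175000 1000 = true := by decide +kernel

theorem spider_okAt176000 : allFrom (checkPower data spider (get48 spiderStore) 17) 176000 1000 = true := by decide +kernel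

theorem spider_okAt177000 : allFrom (checkPower data spider (get48 spiderStore) 17) 177000 1000 = true := by decide +kernel

theorem spider_okAt178000 : allFrom (checkPower data spider (get48 spiderStore) 17) 178000 1000 = true := by decide +kernel

theorem spider_okAt179000 : allFrom (checkPower data spider (get48 spiderStore) 17) 179000 1000 = true := by decide +kernel

theorem spider_okAt180000 : allFrom (checkPower data spider (get48 spiderStore) 17) 180000 1000 = true := by decide +kernel

theorem spider_okAt181000 : allFrom (checkPower data spider (get48 spiderStore) 17) 181000 1000 = true := by decide +kernel

theorem spider_okAt182000 : allFrom (checkPower data spider (get48 spiderStore) 17) 182000 1000 = true := by decide +kernel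

theorem spider_okAt183000 : allFrom (checkPower data spider (get48 spiderStore) 17) 183000 1000 = true := by decide +kernel

theorem spider_okAt184000 : allFrom (checkPower data spider (get48 spiderStore) 17) 184000 1000 = true := by decide +kernel

theorem spider_okAt185000 : allFrom (checkPower data spider (get48 spiderStore) 17) 185000 1000 = true := by decide +kernel

theorem spider_okAt186000 : allFrom (checkPower data spider (get48 spiderStore) 17) 186000 1000 = true := by decide +kernel

theorem spider_okAt187000 : allFrom (checkPower data spider (get48 spiderStore) 17) 187000 1000 = true := by decide +kernel

theorem spider_okAt188000 : allFrom (checkPower data spider (get48 spiderStore) 17) 188000 1000 = true := by decide +kernel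

theorem spider_okAt189000 : allFrom (checkPower data spider (get48 spiderStore) 17) 189000 1000 = true := by decide +kernel

theorem spider_okAt190000 : allFrom (checkPower data spider (get48 spiderStore) 17) 190000 1000 = true := by decide +kernel

theorem spider_okAt191000 : allFrom (checkPower data spider (get48 spiderStore) 17) 191000 1000 = true := by decide +kernel

end Cfsg.Agent.CosetCert.Fi24Index
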