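import Cfsg.Agent.CosetCert.Fi24Index.Defs

/-! Generated: kernel checks. -/

set_option Elab.async false

namespace Cfsg.Agent.CosetCert.Fi24Index

theorem spider_okAt192000 : allFrom (checkPower data spider (get48 spiderStore) 17) 192000 1000 = true := by decide +kernel

theorem spider_okAt193000 : allFrom (checkPower data spider (get48 spiderStore) 17) 193000 1000 = true := by decide +kernel

theorem spider_okAt194000 : allFrom (checkPower data spider (get48 spiderStore) 17) 194000 1000 = true := by decide +kernel

theorem spider_okAt195000 : allFrom (checkPower data spider (get48 spiderStore) 17) 195000 1000 = true := by decide +kernel

theorem spider_okAt196000 : allFrom (checkPower data spider (get48 spiderStore) 17) 196000 1000 = true := by decide +kernel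

theorem spider_okAt197000 : allFrom (checkPower data spider (get48 spiderStore) 17) 197000 1000 = true := by decide +kernel

theorem spider_okAt198000 : allFrom (checkPower data spider (get48 spiderStore) 17) 198000 1000 = true := by decide +kernel

theorem spider_okAt199000 : allFrom (checkPower data spider (get48 spiderStore) 17) 199000 1000 = true := by decide +kernel

theorem spider_okAt200000 : allFrom (checkPower data spider (get48 spiderStore) 17) 200000 1000 = true := by decide +kernel

theorem spider_okAt201000 : allFrom (checkPower data spider (get48 spiderStore) 17) 201000 1000 = true := by decide +kernel

theorem spider_okAt202000 : allFrom (checkPower data spider (get48 spiderStore) 17) 202000 1000 = true := by decide +kernel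

theorem spider_okAt203000 : allFrom (checkPower data spider (get48 spiderStore) 17) 203000 1000 = true := by decide +kernel

theorem spider_okAt204000 : allFrom (checkPower data spider (get48 spiderStore) 17) 204000 1000 = true := by decide +kernel

theorem spider_okAt205000 : allFrom (checkPower data spider (get48 spiderStore) 17) 205000 1000 = true := by decide +kernel

theorem spider_okAt206000 : allFrom (checkPower data spider (get48 spiderStore) 17) 206000 1000 = true := by decide +kernel

theorem spider_okAt207000 : allFrom (checkPower data spider (get48 spiderStore) 17) 207000 1000 = true := by decide +kernel

theorem spider_okAt208000 : allFrom (checkPower data spider (get48 spiderStore) 17) 208000 1000 = true := by decide +kernel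

theorem spider_okAt209000 : allFrom (checkPower data spider (get48 spiderStore) 17) 209000 1000 = true := by decide +kernel

theorem spider_okAt210000 : allFrom (checkPower data spider (get48 spiderStore) 17) 210000 1000 = true := by decide +kernel

theorem spider_okAt211000 : allFrom (checkPower data spider (get48 spiderStore) 17) 211000 1000 = true := by decide +kernel

theorem spider_okAt212000 : allFrom (checkPower data spider (get48 spiderStore) 17) 212000 1000 = true := by decide +kernel

theorem spider_okAt213000 : allFrom (checkPower data spider (get48 spiderStore) 17) 213000 1000 = true := by decide +kernel

theorem spider_okAt214000 : allFrom (checkPower data spider (get48 spiderStore) 17) 214000 1000 = true := by decide +kernel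

theorem spider_okAt215000 : allFrom (checkPower data spider (get48 spiderStore) 17) 215000 1000 = true := by decide +kernel

theorem spider_okAt216000 : allFrom (checkPower data spider (get48 spiderStore) 17) 216000 1000 = true := by decide +kernel

theorem spider_okAt217000 : allFrom (checkPower data spider (get48 spiderStore) 17) 217000 1000 = true := by decide +kernel

theorem spider_okAt218000 : allFrom (checkPower data spider (get48 spiderStore) 17) 218000 1000 = true := by decide +kernel

theorem spider_okAt219000 : allFrom (checkPower data spider (get48 spiderStore) 17) 219000 1000 = true := by decide +kernel

theorem spider_okAt220000 : allFrom (checkPower data spider (get48 spiderStore) 17) 220000 1000 = true := by decide +kernel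

theorem spider_okAt221000 : allFrom (checkPower data spider (get48 spiderStore) 17) 221000 1000 = true := by decide +kernel

theorem spider_okAt222000 : allFrom (checkPower data spider (get48 spiderStore) 17) 222000 1000 = true := by decide +kernel

theorem spider_okAt223000 : allFrom (checkPower data spider (get48 spiderStore) 17) 223000 1000 = true := by decide +kernel

end Cfsg.Agent.CosetCert.Fi24Index
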