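import Cfsg.Agent.CosetCert.Fi24Index.Defs

/-! Generated: kernel checks. -/

set_option Elab.async false

namespace Cfsg.Agent.CosetCert.Fi24Index

theorem spider_okAt224000 : allFrom (checkPower data spider (get48 spiderStore) 17) 224000 1000 = true := by decide +kernel

theorem spider_okAt225000 : allFrom (checkPower data spider (get48 spiderStore) 17) 225000 1000 = true := by decide +kernel

theorem spider_okAt226000 : allFrom (checkPower data spider (get48 spiderStore) 17) 226000 1000 = true := by decide +kernel

theorem spider_okAt227000 : allFrom (checkPower data spider (get48 spiderStore) 17) 227000 1000 = true := by decide +kernel

theorem spider_okAt228000 : allFrom (checkPower data spider (get48 spiderStore) 17) 228000 1000 = true := by decide +kernel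

theorem spider_okAt229000 : allFrom (checkPower data spider (get48 spiderStore) 17) 229000 1000 = true := by decide +kernel

theorem spider_okAt230000 : allFrom (checkPower data spider (get48 spiderStore) 17) 230000 1000 = true := by decide +kernel

theorem spider_okAt231000 : allFrom (checkPower data spider (get48 spiderStore) 17) 231000 1000 = true := by decide +kernel

theorem spider_okAt232000 : allFrom (checkPower data spider (get48 spiderStore) 17) 232000 1000 = true := by decide +kernel

theorem spider_okAt233000 : allFrom (checkPower data spider (get48 spiderStore) 17) 233000 1000 = true := by decide +kernel

theorem spider_okAt234000 : allFrom (checkPower data spider (get48 spiderStore) 17) 234000 1000 = true := by decide +kernel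

theorem spider_okAt235000 : allFrom (checkPower data spider (get48 spiderStore) 17) 235000 1000 = true := by decide +kernel

theorem spider_okAt236000 : allFrom (checkPower data spider (get48 spiderStore) 17) 236000 1000 = true := by decide +kernel

theorem spider_okAt237000 : allFrom (checkPower data spider (get48 spiderStore) 17) 237000 1000 = true := by decide +kernel

theorem spider_okAt238000 : allFrom (checkPower data spider (get48 spiderStore) 17) 238000 1000 = true := by decide +kernel

theorem spider_okAt239000 : allFrom (checkPower data spider (get48 spiderStore) 17) 239000 1000 = true := by decide +kernel

theorem spider_okAt240000 : allFrom (checkPower data spider (get48 spiderStore) 17) 240000 1000 = true := by decide +kernel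

theorem spider_okAt241000 : allFrom (checkPower data spider (get48 spiderStore) 17) 241000 1000 = true := by decide +kernel

theorem spider_okAt242000 : allFrom (checkPower data spider (get48 spiderStore) 17) 242000 1000 = true := by decide +kernel

theorem spider_okAt243000 : allFrom (checkPower data spider (get48 spiderStore) 17) 243000 1000 = true := by decide +kernel

theorem spider_okAt244000 : allFrom (checkPower data spider (get48 spiderStore) 17) 244000 1000 = true := by decide +kernel

theorem spider_okAt245000 : allFrom (checkPower data spider (get48 spiderStore) 17) 245000 1000 = true := by decide +kernel

theorem spider_okAt246000 : allFrom (checkPower data spider (get48 spiderStore) 17) 246000 1000 = true := by decide +kernel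

theorem spider_okAt247000 : allFrom (checkPower data spider (get48 spiderStore) 17) 247000 1000 = true := by decide +kernel

theorem spider_okAt248000 : allFrom (checkPower data spider (get48 spiderStore) 17) 248000 1000 = true := by decide +kernel

theorem spider_okAt249000 : allFrom (checkPower data spider (get48 spiderStore) 17) 249000 1000 = true := by decide +kernel

theorem spider_okAt250000 : allFrom (checkPower data spider (get48 spiderStore) 17) 250000 1000 = true := by decide +kernel

theorem spider_okAt251000 : allFrom (checkPower data spider (get48 spiderStore) 17) 251000 1000 = true := by decide +kernel

theorem spider_okAt252000 : allFrom (checkPower data spider (get48 spiderStore) 17) 252000 1000 = true := by decide +kernel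

theorem spider_okAt253000 : allFrom (checkPower data spider (get48 spiderStore) 17) 253000 1000 = true := by decide +kernel

theorem spider_okAt254000 : allFrom (checkPower data spider (get48 spiderStore) 17) 254000 1000 = true := by decide +kernel

theorem spider_okAt255000 : allFrom (checkPower data spider (get48 spiderStore) 17) 255000 1000 = true := by decide +kernel

end Cfsg.Agent.CosetCert.Fi24Index
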