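import Cfsg.Agent.CosetCert.Fi24Index.Defs

/-! Generated: kernel checks. -/

set_option Elab.async false

namespace Cfsg.Agent.CosetCert.Fi24Index

theorem spider_okAt256000 : allFrom (checkPower data spider (get48 spiderStore) 17) 256000 1000 = true := by decide +kernel

theorem spider_okAt257000 : allFrom (checkPower data spider (get48 spiderStore) 17) 257000 1000 = true := by decide +kernel

theorem spider_okAt258000 : allFrom (checkPower data spider (get48 spiderStore) 17) 258000 1000 = true := by decide +kernel

theorem spider_okAt259000 : allFrom (checkPower data spider (get48 spiderStore) 17) 259000 1000 = true := by decide +kernel

theorem spider_okAt260000 : allFrom (checkPower data spider (get48 spiderStore) 17) 260000 1000 = true := by decide +kernel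

theorem spider_okAt261000 : allFrom (checkPower data spider (get48 spiderStore) 17) 261000 1000 = true := by decide +kernel

theorem spider_okAt262000 : allFrom (checkPower data spider (get48 spiderStore) 17) 262000 1000 = true := by decide +kernel

theorem spider_okAt263000 : allFrom (checkPower data spider (get48 spiderStore) 17) 263000 1000 = true := by decide +kernel

theorem spider_okAt264000 : allFrom (checkPower data spider (get48 spiderStore) 17) 264000 1000 = true := by decide +kernel

theorem spider_okAt265000 : allFrom (checkPower data spider (get48 spiderStore) 17) 265000 1000 = true := by decide +kernel

theorem spider_okAt266000 : allFrom (checkPower data spider (get48 spiderStore) 17) 266000 1000 = true := by decide +kernel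

theorem spider_okAt267000 : allFrom (checkPower data spider (get48 spiderStore) 17) 267000 1000 = true := by decide +kernel

theorem spider_okAt268000 : allFrom (checkPower data spider (get48 spiderStore) 17) 268000 1000 = true := by decide +kernel

theorem spider_okAt269000 : allFrom (checkPower data spider (get48 spiderStore) 17) 269000 1000 = true := by decide +kernel

theorem spider_okAt270000 : allFrom (checkPower data spider (get48 spiderStore) 17) 270000 1000 = true := by decide +kernel

theorem spider_okAt271000 : allFrom (checkPower data spider (get48 spiderStore) 17) 271000 1000 = true := by decide +kernel

theorem spider_okAt272000 : allFrom (checkPower data spider (get48 spiderStore) 17) 272000 1000 = true := by decide +kernel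

theorem spider_okAt273000 : allFrom (checkPower data spider (get48 spiderStore) 17) 273000 1000 = true := by decide +kernel

theorem spider_okAt274000 : allFrom (checkPower data spider (get48 spiderStore) 17) 274000 1000 = true := by decide +kernel

theorem spider_okAt275000 : allFrom (checkPower data spider (get48 spiderStore) 17) 275000 1000 = true := by decide +kernel

theorem spider_okAt276000 : allFrom (checkPower data spider (get48 spiderStore) 17) 276000 1000 = true := by decide +kernel

theorem spider_okAt277000 : allFrom (checkPower data spider (get48 spiderStore) 17) 277000 1000 = true := by decide +kernel

theorem spider_okAt278000 : allFrom (checkPower data spider (get48 spiderStore) 17) 278000 1000 = true := by decide +kernel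

theorem spider_okAt279000 : allFrom (checkPower data spider (get48 spiderStore) 17) 279000 1000 = true := by decide +kernel

theorem spider_okAt280000 : allFrom (checkPower data spider (get48 spiderStore) 17) 280000 1000 = true := by decide +kernel

theorem spider_okAt281000 : allFrom (checkPower data spider (get48 spiderStore) 17) 281000 1000 = true := by decide +kernel

theorem spider_okAt282000 : allFrom (checkPower data spider (get48 spiderStore) 17) 282000 1000 = true := by decide +kernel

theorem spider_okAt283000 : allFrom (checkPower data spider (get48 spiderStore) 17) 283000 1000 = true := by decide +kernel

theorem spider_okAt284000 : allFrom (checkPower data spider (get48 spiderStore) 17) 284000 1000 = true := by decide +kernel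

theorem spider_okAt285000 : allFrom (checkPower data spider (get48 spiderStore) 17) 285000 1000 = true := by decide +kernel

theorem spider_okAt286000 : allFrom (checkPower data spider (get48 spiderStore) 17) 286000 1000 = true := by decide +kernel

theorem spider_okAt287000 : allFrom (checkPower data spider (get48 spiderStore) 17) 287000 1000 = true := by decide +kernel

end Cfsg.Agent.CosetCert.Fi24Index
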