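import Cfsg.Agent.CosetCert.Fi24Index.CheckSpider0
import Cfsg.Agent.CosetCert.Fi24Index.CheckSpider1
import Cfsg.Agent.CosetCert.Fi24Index.CheckSpider2
import Cfsg.Agent.CosetCert.Fi24Index.CheckSpider3
import Cfsg.Agent.CosetCert.Fi24Index.CheckSpider4
import Cfsg.Agent.CosetCert.Fi24Index.CheckSpider5
import Cfsg.Agent.CosetCert.Fi24Index.CheckSpider6
import Cfsg.Agent.CosetCert.Fi24Index.CheckSpider7
import Cfsg.Agent.CosetCert.Fi24Index.CheckSpider8
import Cfsg.Agent.CosetCert.Fi24Index.CheckSpider9

/-! Generated: kernel checks combined. -/

set_option maxRecDepth 100000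

namespace Cfsg.Agent.CosetCert.Fi24Index

theorem spider_ok : ∀ i, i < 306936 → (checkPower data spider (get48 spiderStore) 17) i = true := by
  have h0 : ∀ i, i < 0 → (checkPower data spider (get48 spiderStore) 17) i = true := forall_lt_zero
  have h1 := forall_lt_step (b := 1000) h0 spider_okAt0 rfl
  have h2 := forall_lt_step (b := 2000) h1 spider_okAt1000 rfl
  have h3 := forall_lt_step (b := 3000) h2 spider_okAt2000 rfl
  have h4 := forall_lt_step (b := 4000) h3 spider_okAt3000 rfl
  have h5 := forall_lt_step (b := 5000) h4 spider_okAt4000 rfl
  have h6 := forall_lt_step (b := 6000) h5 spider_okAt5000 rfl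
  have h7 := forall_lt_step (b := 7000) h6 spider_okAt6000 rfl
  have h8 := forall_lt_step (b := 8000) h7 spider_okAt7000 rfl
  have h9 := forall_lt_step (b := 9000) h8 spider_okAt8000 rfl
  have h10 := forall_lt_step (b := 10000) h9 spider_okAt9000 rfl
  have h11 := forall_lt_step (b := 11000) h10 spider_okAt10000 rfl
  have h12 := forall_lt_step (b := 12000) h11 spider_okAt11000 rfl
  have h13 := forall_lt_step (b := 13000) h12 spider_okAt12000 rfl
  have h14 := forall_lt_step (b := 14000) h13 spider_okAt13000 rfl
  have h15 := forall_lt_step (b := 15000) h14 spider_okAt14000 rfl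
  have h16 := forall_lt_step (b := 16000) h15 spider_okAt15000 rfl
  have h17 := forall_lt_step (b := 17000) h16 spider_okAt16000 rfl
  have h18 := forall_lt_step (b := 18000) h17 spider_okAt17000 rfl
  have h19 := forall_lt_step (b := 19000) h18 spider_okAt18000 rfl
  have h20 := forall_lt_step (b := 20000) h19 spider_okAt19000 rfl
  have h21 := forall_lt_step (b := 21000) h20 spider_okAt20000 rfl
  have h22 := forall_lt_step (b := 22000) h21 spider_okAt21000 rfl
  have h23 := forall_lt_step (b := 23000) h22 spider_okAt22000 rfl
  have h24 := forall_lt_step (b := 24000) h23 spider_okAt23000 rfl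
  have h25 := forall_lt_step (b := 25000) h24 spider_okAt24000 rfl
  have h26 := forall_lt_step (b := 26000) h25 spider_okAt25000 rfl
  have h27 := forall_lt_step (b := 27000) h26 spider_okAt26000 rfl
  have h28 := forall_lt_step (b := 28000) h27 spider_okAt27000 rfl
  have h29 := forall_lt_step (b := 29000) h28 spider_okAt28000 rfl
  have h30 := forall_lt_step (b := 30000) h29 spider_okAt29000 rfl
  have h31 := forall_lt_step (b := 31000) h30 spider_okAt30000 rfl
  have h32 := forall_lt_step (b := 32000) h31 spider_okAt31000 rfl
  have h33 := forall_lt_step (b := 33000) h32 spider_okAt32000 rfl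
  have h34 := forall_lt_step (b := 34000) h33 spider_okAt33000 rfl
  have h35 := forall_lt_step (b := 35000) h34 spider_okAt34000 rfl
  have h36 := forall_lt_step (b := 36000) h35 spider_okAt35000 rfl
  have h37 := forall_lt_step (b := 37000) h36 spider_okAt36000 rfl
  have h38 := forall_lt_step (b := 38000) h37 spider_okAt37000 rfl
  have h39 := forall_lt_step (b := 39000) h38 spider_okAt38000 rfl
  have h40 := forall_lt_step (b := 40000) h39 spider_okAt39000 rfl
  have h41 := forall_lt_step (b := 41000) h40 spider_okAt40000 rfl
  have h42 := forall_lt_step (b := 42000) h41 spider_okAt41000 rfl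
  have h43 := forall_lt_step (b := 43000) h42 spider_okAt42000 rfl
  have h44 := forall_lt_step (b := 44000) h43 spider_okAt43000 rfl
  have h45 := forall_lt_step (b := 45000) h44 spider_okAt44000 rfl
  have h46 := forall_lt_step (b := 46000) h45 spider_okAt45000 rfl
  have h47 := forall_lt_step (b := 47000) h46 spider_okAt46000 rfl
  have h48 := forall_lt_step (b := 48000) h47 spider_okAt47000 rfl
  have h49 := forall_lt_step (b := 49000) h48 spider_okAt48000 rfl
  have h50 := forall_lt_step (b := 50000) h49 spider_okAt49000 rfl
  have h51 := forall_lt_step (b := 51000) h50 spider_okAt50000 rfl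
  have h52 := forall_lt_step (b := 52000) h51 spider_okAt51000 rfl
  have h53 := forall_lt_step (b := 53000) h52 spider_okAt52000 rfl
  have h54 := forall_lt_step (b := 54000) h53 spider_okAt53000 rfl
  have h55 := forall_lt_step (b := 55000) h54 spider_okAt54000 rfl
  have h56 := forall_lt_step (b := 56000) h55 spider_okAt55000 rfl
  have h57 := forall_lt_step (b := 57000) h56 spider_okAt56000 rfl
  have h58 := forall_lt_step (b := 58000) h57 spider_okAt57000 rfl
  have h59 := forall_lt_step (b := 59000) h58 spider_okAt58000 rfl
  have h60 := forall_lt_step (b := 60000) h59 spider_okAt59000 rfl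
  have h61 := forall_lt_step (b := 61000) h60 spider_okAt60000 rfl
  have h62 := forall_lt_step (b := 62000) h61 spider_okAt61000 rfl
  have h63 := forall_lt_step (b := 63000) h62 spider_okAt62000 rfl
  have h64 := forall_lt_step (b := 64000) h63 spider_okAt63000 rfl
  have h65 := forall_lt_step (b := 65000) h64 spider_okAt64000 rfl
  have h66 := forall_lt_step (b := 66000) h65 spider_okAt65000 rfl
  have h67 := forall_lt_step (b := 67000) h66 spider_okAt66000 rfl
  have h68 := forall_lt_step (b := 68000) h67 spider_okAt67000 rfl
  have h69 := forall_lt_step (b := 69000) h68 spider_okAt68000 rfl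
  have h70 := forall_lt_step (b := 70000) h69 spider_okAt69000 rfl
  have h71 := forall_lt_step (b := 71000) h70 spider_okAt70000 rfl
  have h72 := forall_lt_step (b := 72000) h71 spider_okAt71000 rfl
  have h73 := forall_lt_step (b := 73000) h72 spider_okAt72000 rfl
  have h74 := forall_lt_step (b := 74000) h73 spider_okAt73000 rfl
  have h75 := forall_lt_step (b := 75000) h74 spider_okAt74000 rfl
  have h76 := forall_lt_step (b := 76000) h75 spider_okAt75000 rfl
  have h77 := forall_lt_step (b := 77000) h76 spider_okAt76000 rfl
  have h78 := forall_lt_step (b := 78000) h77 spider_okAt77000 rfl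
  have h79 := forall_lt_step (b := 79000) h78 spider_okAt78000 rfl
  have h80 := forall_lt_step (b := 80000) h79 spider_okAt79000 rfl
  have h81 := forall_lt_step (b := 81000) h80 spider_okAt80000 rfl
  have h82 := forall_lt_step (b := 82000) h81 spider_okAt81000 rfl
  have h83 := forall_lt_step (b := 83000) h82 spider_okAt82000 rfl
  have h84 := forall_lt_step (b := 84000) h83 spider_okAt83000 rfl
  have h85 := forall_lt_step (b := 85000) h84 spider_okAt84000 rfl
  have h86 := forall_lt_step (b := 86000) h85 spider_okAt85000 rfl
  have h87 := forall_lt_step (b := 87000) h86 spider_okAt86000 rfl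
  have h88 := forall_lt_step (b := 88000) h87 spider_okAt87000 rfl
  have h89 := forall_lt_step (b := 89000) h88 spider_okAt88000 rfl
  have h90 := forall_lt_step (b := 90000) h89 spider_okAt89000 rfl
  have h91 := forall_lt_step (b := 91000) h90 spider_okAt90000 rfl
  have h92 := forall_lt_step (b := 92000) h91 spider_okAt91000 rfl
  have h93 := forall_lt_step (b := 93000) h92 spider_okAt92000 rfl
  have h94 := forall_lt_step (b := 94000) h93 spider_okAt93000 rfl
  have h95 := forall_lt_step (b := 95000) h94 spider_okAt94000 rfl
  have h96 := forall_lt_step (b := 96000) h95 spider_okAt95000 rfl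
  have h97 := forall_lt_step (b := 97000) h96 spider_okAt96000 rfl
  have h98 := forall_lt_step (b := 98000) h97 spider_okAt97000 rfl
  have h99 := forall_lt_step (b := 99000) h98 spider_okAt98000 rfl
  have h100 := forall_lt_step (b := 100000) h99 spider_okAt99000 rfl
  have h101 := forall_lt_step (b := 101000) h100 spider_okAt100000 rfl
  have h102 := forall_lt_step (b := 102000) h101 spider_okAt101000 rfl
  have h103 := forall_lt_step (b := 103000) h102 spider_okAt102000 rfl
  have h104 := forall_lt_step (b := 104000) h103 spider_okAt103000 rfl
  have h105 := forall_lt_step (b := 105000) h104 spider_okAt104000 rfl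
  have h106 := forall_lt_step (b := 106000) h105 spider_okAt105000 rfl
  have h107 := forall_lt_step (b := 107000) h106 spider_okAt106000 rfl
  have h108 := forall_lt_step (b := 108000) h107 spider_okAt107000 rfl
  have h109 := forall_lt_step (b := 109000) h108 spider_okAt108000 rfl
  have h110 := forall_lt_step (b := 110000) h109 spider_okAt109000 rfl
  have h111 := forall_lt_step (b := 111000) h110 spider_okAt110000 rfl
  have h112 := forall_lt_step (b := 112000) h111 spider_okAt111000 rfl
  have h113 := forall_lt_step (b := 113000) h112 spider_okAt112000 rfl
  have h114 := forall_lt_step (b := 114000) h113 spider_okAt113000 rfl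
  have h115 := forall_lt_step (b := 115000) h114 spider_okAt114000 rfl
  have h116 := forall_lt_step (b := 116000) h115 spider_okAt115000 rfl
  have h117 := forall_lt_step (b := 117000) h116 spider_okAt116000 rfl
  have h118 := forall_lt_step (b := 118000) h117 spider_okAt117000 rfl
  have h119 := forall_lt_step (b := 119000) h118 spider_okAt118000 rfl
  have h120 := forall_lt_step (b := 120000) h119 spider_okAt119000 rfl
  have h121 := forall_lt_step (b := 121000) h120 spider_okAt120000 rfl
  have h122 := forall_lt_step (b := 122000) h121 spider_okAt121000 rfl
  have h123 := forall_lt_step (b := 123000) h122 spider_okAt122000 rfl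
  have h124 := forall_lt_step (b := 124000) h123 spider_okAt123000 rfl
  have h125 := forall_lt_step (b := 125000) h124 spider_okAt124000 rfl
  have h126 := forall_lt_step (b := 126000) h125 spider_okAt125000 rfl
  have h127 := forall_lt_step (b := 127000) h126 spider_okAt126000 rfl
  have h128 := forall_lt_step (b := 128000) h127 spider_okAt127000 rfl
  have h129 := forall_lt_step (b := 129000) h128 spider_okAt128000 rfl
  have h130 := forall_lt_step (b := 130000) h129 spider_okAt129000 rfl
  have h131 := forall_lt_step (b := 131000) h130 spider_okAt130000 rfl
  have h132 := forall_lt_step (b := 132000) h131 spider_okAt131000 rfl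
  have h133 := forall_lt_step (b := 133000) h132 spider_okAt132000 rfl
  have h134 := forall_lt_step (b := 134000) h133 spider_okAt133000 rfl
  have h135 := forall_lt_step (b := 135000) h134 spider_okAt134000 rfl
  have h136 := forall_lt_step (b := 136000) h135 spider_okAt135000 rfl
  have h137 := forall_lt_step (b := 137000) h136 spider_okAt136000 rfl
  have h138 := forall_lt_step (b := 138000) h137 spider_okAt137000 rfl
  have h139 := forall_lt_step (b := 139000) h138 spider_okAt138000 rfl
  have h140 := forall_lt_step (b := 140000) h139 spider_okAt139000 rfl
  have h141 := forall_lt_step (b := 141000) h140 spider_okAt140000 rfl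
  have h142 := forall_lt_step (b := 142000) h141 spider_okAt141000 rfl
  have h143 := forall_lt_step (b := 143000) h142 spider_okAt142000 rfl
  have h144 := forall_lt_step (b := 144000) h143 spider_okAt143000 rfl
  have h145 := forall_lt_step (b := 145000) h144 spider_okAt144000 rfl
  have h146 := forall_lt_step (b := 146000) h145 spider_okAt145000 rfl
  have h147 := forall_lt_step (b := 147000) h146 spider_okAt146000 rfl
  have h148 := forall_lt_step (b := 148000) h147 spider_okAt147000 rfl
  have h149 := forall_lt_step (b := 149000) h148 spider_okAt148000 rfl
  have h150 := forall_lt_step (b := 150000) h149 spider_okAt149000 rfl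
  have h151 := forall_lt_step (b := 151000) h150 spider_okAt150000 rfl
  have h152 := forall_lt_step (b := 152000) h151 spider_okAt151000 rfl
  have h153 := forall_lt_step (b := 153000) h152 spider_okAt152000 rfl
  have h154 := forall_lt_step (b := 154000) h153 spider_okAt153000 rfl
  have h155 := forall_lt_step (b := 155000) h154 spider_okAt154000 rfl
  have h156 := forall_lt_step (b := 156000) h155 spider_okAt155000 rfl
  have h157 := forall_lt_step (b := 157000) h156 spider_okAt156000 rfl
  have h158 := forall_lt_step (b := 158000) h157 spider_okAt157000 rfl
  have h159 := forall_lt_step (b := 159000) h158 spider_okAt158000 rfl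
  have h160 := forall_lt_step (b := 160000) h159 spider_okAt159000 rfl
  have h161 := forall_lt_step (b := 161000) h160 spider_okAt160000 rfl
  have h162 := forall_lt_step (b := 162000) h161 spider_okAt161000 rfl
  have h163 := forall_lt_step (b := 163000) h162 spider_okAt162000 rfl
  have h164 := forall_lt_step (b := 164000) h163 spider_okAt163000 rfl
  have h165 := forall_lt_step (b := 165000) h164 spider_okAt164000 rfl
  have h166 := forall_lt_step (b := 166000) h165 spider_okAt165000 rfl
  have h167 := forall_lt_step (b := 167000) h166 spider_okAt166000 rfl
  have h168 := forall_lt_step (b := 168000) h167 spider_okAt167000 rfl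
  have h169 := forall_lt_step (b := 169000) h168 spider_okAt168000 rfl
  have h170 := forall_lt_step (b := 170000) h169 spider_okAt169000 rfl
  have h171 := forall_lt_step (b := 171000) h170 spider_okAt170000 rfl
  have h172 := forall_lt_step (b := 172000) h171 spider_okAt171000 rfl
  have h173 := forall_lt_step (b := 173000) h172 spider_okAt172000 rfl
  have h174 := forall_lt_step (b := 174000) h173 spider_okAt173000 rfl
  have h175 := forall_lt_step (b := 175000) h174 spider_okAt174000 rfl
  have h176 := forall_lt_step (b := 176000) h175 spider_okAt175000 rfl
  have h177 := forall_lt_step (b := 177000) h176 spider_okAt176000 rfl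
  have h178 := forall_lt_step (b := 178000) h177 spider_okAt177000 rfl
  have h179 := forall_lt_step (b := 179000) h178 spider_okAt178000 rfl
  have h180 := forall_lt_step (b := 180000) h179 spider_okAt179000 rfl
  have h181 := forall_lt_step (b := 181000) h180 spider_okAt180000 rfl
  have h182 := forall_lt_step (b := 182000) h181 spider_okAt181000 rfl
  have h183 := forall_lt_step (b := 183000) h182 spider_okAt182000 rfl
  have h184 := forall_lt_step (b := 184000) h183 spider_okAt183000 rfl
  have h185 := forall_lt_step (b := 185000) h184 spider_okAt184000 rfl
  have h186 := forall_lt_step (b := 186000) h185 spider_okAt185000 rfl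
  have h187 := forall_lt_step (b := 187000) h186 spider_okAt186000 rfl
  have h188 := forall_lt_step (b := 188000) h187 spider_okAt187000 rfl
  have h189 := forall_lt_step (b := 189000) h188 spider_okAt188000 rfl
  have h190 := forall_lt_step (b := 190000) h189 spider_okAt189000 rfl
  have h191 := forall_lt_step (b := 191000) h190 spider_okAt190000 rfl
  have h192 := forall_lt_step (b := 192000) h191 spider_okAt191000 rfl
  have h193 := forall_lt_step (b := 193000) h192 spider_okAt192000 rfl
  have h194 := forall_lt_step (b := 194000) h193 spider_okAt193000 rfl
  have h195 := forall_lt_step (b := 195000) h194 spider_okAt194000 rfl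
  have h196 := forall_lt_step (b := 196000) h195 spider_okAt195000 rfl
  have h197 := forall_lt_step (b := 197000) h196 spider_okAt196000 rfl
  have h198 := forall_lt_step (b := 198000) h197 spider_okAt197000 rfl
  have h199 := forall_lt_step (b := 199000) h198 spider_okAt198000 rfl
  have h200 := forall_lt_step (b := 200000) h199 spider_okAt199000 rfl
  have h201 := forall_lt_step (b := 201000) h200 spider_okAt200000 rfl
  have h202 := forall_lt_step (b := 202000) h201 spider_okAt201000 rfl
  have h203 := forall_lt_step (b := 203000) h202 spider_okAt202000 rfl
  have h204 := forall_lt_step (b := 204000) h203 spider_okAt203000 rfl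
  have h205 := forall_lt_step (b := 205000) h204 spider_okAt204000 rfl
  have h206 := forall_lt_step (b := 206000) h205 spider_okAt205000 rfl
  have h207 := forall_lt_step (b := 207000) h206 spider_okAt206000 rfl
  have h208 := forall_lt_step (b := 208000) h207 spider_okAt207000 rfl
  have h209 := forall_lt_step (b := 209000) h208 spider_okAt208000 rfl
  have h210 := forall_lt_step (b := 210000) h209 spider_okAt209000 rfl
  have h211 := forall_lt_step (b := 211000) h210 spider_okAt210000 rfl
  have h212 := forall_lt_step (b := 212000) h211 spider_okAt211000 rfl
  have h213 := forall_lt_step (b := 213000) h212 spider_okAt212000 rfl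
  have h214 := forall_lt_step (b := 214000) h213 spider_okAt213000 rfl
  have h215 := forall_lt_step (b := 215000) h214 spider_okAt214000 rfl
  have h216 := forall_lt_step (b := 216000) h215 spider_okAt215000 rfl
  have h217 := forall_lt_step (b := 217000) h216 spider_okAt216000 rfl
  have h218 := forall_lt_step (b := 218000) h217 spider_okAt217000 rfl
  have h219 := forall_lt_step (b := 219000) h218 spider_okAt218000 rfl
  have h220 := forall_lt_step (b := 220000) h219 spider_okAt219000 rfl
  have h221 := forall_lt_step (b := 221000) h220 spider_okAt220000 rfl
  have h222 := forall_lt_step (b := 222000) h221 spider_okAt221000 rfl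
  have h223 := forall_lt_step (b := 223000) h222 spider_okAt222000 rfl
  have h224 := forall_lt_step (b := 224000) h223 spider_okAt223000 rfl
  have h225 := forall_lt_step (b := 225000) h224 spider_okAt224000 rfl
  have h226 := forall_lt_step (b := 226000) h225 spider_okAt225000 rfl
  have h227 := forall_lt_step (b := 227000) h226 spider_okAt226000 rfl
  have h228 := forall_lt_step (b := 228000) h227 spider_okAt227000 rfl
  have h229 := forall_lt_step (b := 229000) h228 spider_okAt228000 rfl
  have h230 := forall_lt_step (b := 230000) h229 spider_okAt229000 rfl
  have h231 := forall_lt_step (b := 231000) h230 spider_okAt230000 rfl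
  have h232 := forall_lt_step (b := 232000) h231 spider_okAt231000 rfl
  have h233 := forall_lt_step (b := 233000) h232 spider_okAt232000 rfl
  have h234 := forall_lt_step (b := 234000) h233 spider_okAt233000 rfl
  have h235 := forall_lt_step (b := 235000) h234 spider_okAt234000 rfl
  have h236 := forall_lt_step (b := 236000) h235 spider_okAt235000 rfl
  have h237 := forall_lt_step (b := 237000) h236 spider_okAt236000 rfl
  have h238 := forall_lt_step (b := 238000) h237 spider_okAt237000 rfl
  have h239 := forall_lt_step (b := 239000) h238 spider_okAt238000 rfl
  have h240 := forall_lt_step (b := 240000) h239 spider_okAt239000 rfl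
  have h241 := forall_lt_step (b := 241000) h240 spider_okAt240000 rfl
  have h242 := forall_lt_step (b := 242000) h241 spider_okAt241000 rfl
  have h243 := forall_lt_step (b := 243000) h242 spider_okAt242000 rfl
  have h244 := forall_lt_step (b := 244000) h243 spider_okAt243000 rfl
  have h245 := forall_lt_step (b := 245000) h244 spider_okAt244000 rfl
  have h246 := forall_lt_step (b := 246000) h245 spider_okAt245000 rfl
  have h247 := forall_lt_step (b := 247000) h246 spider_okAt246000 rfl
  have h248 := forall_lt_step (b := 248000) h247 spider_okAt247000 rfl
  have h249 := forall_lt_step (b := 249000) h248 spider_okAt248000 rfl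
  have h250 := forall_lt_step (b := 250000) h249 spider_okAt249000 rfl
  have h251 := forall_lt_step (b := 251000) h250 spider_okAt250000 rfl
  have h252 := forall_lt_step (b := 252000) h251 spider_okAt251000 rfl
  have h253 := forall_lt_step (b := 253000) h252 spider_okAt252000 rfl
  have h254 := forall_lt_step (b := 254000) h253 spider_okAt253000 rfl
  have h255 := forall_lt_step (b := 255000) h254 spider_okAt254000 rfl
  have h256 := forall_lt_step (b := 256000) h255 spider_okAt255000 rfl
  have h257 := forall_lt_step (b := 257000) h256 spider_okAt256000 rfl
  have h258 := forall_lt_step (b := 258000) h257 spider_okAt257000 rfl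
  have h259 := forall_lt_step (b := 259000) h258 spider_okAt258000 rfl
  have h260 := forall_lt_step (b := 260000) h259 spider_okAt259000 rfl
  have h261 := forall_lt_step (b := 261000) h260 spider_okAt260000 rfl
  have h262 := forall_lt_step (b := 262000) h261 spider_okAt261000 rfl
  have h263 := forall_lt_step (b := 263000) h262 spider_okAt262000 rfl
  have h264 := forall_lt_step (b := 264000) h263 spider_okAt263000 rfl
  have h265 := forall_lt_step (b := 265000) h264 spider_okAt264000 rfl
  have h266 := forall_lt_step (b := 266000) h265 spider_okAt265000 rfl
  have h267 := forall_lt_step (b := 267000) h266 spider_okAt266000 rfl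
  have h268 := forall_lt_step (b := 268000) h267 spider_okAt267000 rfl
  have h269 := forall_lt_step (b := 269000) h268 spider_okAt268000 rfl
  have h270 := forall_lt_step (b := 270000) h269 spider_okAt269000 rfl
  have h271 := forall_lt_step (b := 271000) h270 spider_okAt270000 rfl
  have h272 := forall_lt_step (b := 272000) h271 spider_okAt271000 rfl
  have h273 := forall_lt_step (b := 273000) h272 spider_okAt272000 rfl
  have h274 := forall_lt_step (b := 274000) h273 spider_okAt273000 rfl
  have h275 := forall_lt_step (b := 275000) h274 spider_okAt274000 rfl
  have h276 := forall_lt_step (b := 276000) h275 spider_okAt275000 rfl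
  have h277 := forall_lt_step (b := 277000) h276 spider_okAt276000 rfl
  have h278 := forall_lt_step (b := 278000) h277 spider_okAt277000 rfl
  have h279 := forall_lt_step (b := 279000) h278 spider_okAt278000 rfl
  have h280 := forall_lt_step (b := 280000) h279 spider_okAt279000 rfl
  have h281 := forall_lt_step (b := 281000) h280 spider_okAt280000 rfl
  have h282 := forall_lt_step (b := 282000) h281 spider_okAt281000 rfl
  have h283 := forall_lt_step (b := 283000) h282 spider_okAt282000 rfl
  have h284 := forall_lt_step (b := 284000) h283 spider_okAt283000 rfl
  have h285 := forall_lt_step (b := 285000) h284 spider_okAt284000 rfl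
  have h286 := forall_lt_step (b := 286000) h285 spider_okAt285000 rfl
  have h287 := forall_lt_step (b := 287000) h286 spider_okAt286000 rfl
  have h288 := forall_lt_step (b := 288000) h287 spider_okAt287000 rfl
  have h289 := forall_lt_step (b := 289000) h288 spider_okAt288000 rfl
  have h290 := forall_lt_step (b := 290000) h289 spider_okAt289000 rfl
  have h291 := forall_lt_step (b := 291000) h290 spider_okAt290000 rfl
  have h292 := forall_lt_step (b := 292000) h291 spider_okAt291000 rfl
  have h293 := forall_lt_step (b := 293000) h292 spider_okAt292000 rfl
  have h294 := forall_lt_step (b := 294000) h293 spider_okAt293000 rfl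
  have h295 := forall_lt_step (b := 295000) h294 spider_okAt294000 rfl
  have h296 := forall_lt_step (b := 296000) h295 spider_okAt295000 rfl
  have h297 := forall_lt_step (b := 297000) h296 spider_okAt296000 rfl
  have h298 := forall_lt_step (b := 298000) h297 spider_okAt297000 rfl
  have h299 := forall_lt_step (b := 299000) h298 spider_okAt298000 rfl
  have h300 := forall_lt_step (b := 300000) h299 spider_okAt299000 rfl
  have h301 := forall_lt_step (b := 301000) h300 spider_okAt300000 rfl
  have h302 := forall_lt_step (b := 302000) h301 spider_okAt301000 rfl
  have h303 := forall_lt_step (b := 303000) h302 spider_okAt302000 rfl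
  have h304 := forall_lt_step (b := 304000) h303 spider_okAt303000 rfl
  have h305 := forall_lt_step (b := 305000) h304 spider_okAt304000 rfl
  have h306 := forall_lt_step (b := 306000) h305 spider_okAt305000 rfl
  have h307 := forall_lt_step (b := 306936) h306 spider_okAt306000 rfl
  exact h307

end Cfsg.Agent.CosetCert.Fi24Index
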