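import Cfsg.Agent.CosetCert.Fi24Index.Defs

/-! Generated: kernel checks. -/

set_option Elab.async false

namespace Cfsg.Agent.CosetCert.Fi24Index

theorem coset_okAt20000 : allFrom data.checkCoset 20000 500 = true := by decide +kernel

theorem coset_okAt20500 : allFrom data.checkCoset 20500 500 = true := by decide +kernel

theorem coset_okAt21000 : allFrom data.checkCoset 21000 500 = true := by decide +kernel

theorem coset_okAt21500 : allFrom data.checkCoset 21500 500 = true := by decide +kernel

theorem coset_okAt22000 : allFrom data.checkCoset 22000 500 = true := by decide +kernel

theorem coset_okAt22500 : allFrom data.checkCoset 22500 500 = true := by decide +kernel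

theorem coset_okAt23000 : allFrom data.checkCoset 23000 500 = true := by decide +kernel

theorem coset_okAt23500 : allFrom data.checkCoset 23500 500 = true := by decide +kernel

theorem coset_okAt24000 : allFrom data.checkCoset 24000 500 = true := by decide +kernel

theorem coset_okAt24500 : allFrom data.checkCoset 24500 500 = true := by decide +kernel

theorem coset_okAt25000 : allFrom data.checkCoset 25000 500 = true := by decide +kernel

theorem coset_okAt25500 : allFrom data.checkCoset 25500 500 = true := by decide +kernel

theorem coset_okAt26000 : allFrom data.checkCoset 26000 500 = true := by decide +kernel

theorem coset_okAt26500 : allFrom data.checkCoset 26500 500 = true := by decide +kernel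

theorem coset_okAt27000 : allFrom data.checkCoset 27000 500 = true := by decide +kernel

theorem coset_okAt27500 : allFrom data.checkCoset 27500 500 = true := by decide +kernel

theorem coset_okAt28000 : allFrom data.checkCoset 28000 500 = true := by decide +kernel

theorem coset_okAt28500 : allFrom data.checkCoset 28500 500 = true := by decide +kernel

theorem coset_okAt29000 : allFrom data.checkCoset 29000 500 = true := by decide +kernel

theorem coset_okAt29500 : allFrom data.checkCoset 29500 500 = true := by decide +kernel

theorem coset_okAt30000 : allFrom data.checkCoset 30000 500 = true := by decide +kernel

theorem coset_okAt30500 : allFrom data.checkCoset 30500 500 = true := by decide +kernel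

theorem coset_okAt31000 : allFrom data.checkCoset 31000 500 = true := by decide +kernel

theorem coset_okAt31500 : allFrom data.checkCoset 31500 500 = true := by decide +kernel

theorem coset_okAt32000 : allFrom data.checkCoset 32000 500 = true := by decide +kernel

theorem coset_okAt32500 : allFrom data.checkCoset 32500 500 = true := by decide +kernel

theorem coset_okAt33000 : allFrom data.checkCoset 33000 500 = true := by decide +kernel

theorem coset_okAt33500 : allFrom data.checkCoset 33500 500 = true := by decide +kernel

theorem coset_okAt34000 : allFrom data.checkCoset 34000 500 = true := by decide +kernel

theorem coset_okAt34500 : allFrom data.checkCoset 34500 500 = true := by decide +kernel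

theorem coset_okAt35000 : allFrom data.checkCoset 35000 500 = true := by decide +kernel

theorem coset_okAt35500 : allFrom data.checkCoset 35500 500 = true := by decide +kernel

theorem coset_okAt36000 : allFrom data.checkCoset 36000 500 = true := by decide +kernel

theorem coset_okAt36500 : allFrom data.checkCoset 36500 500 = true := by decide +kernel

theorem coset_okAt37000 : allFrom data.checkCoset 37000 500 = true := by decide +kernel

theorem coset_okAt37500 : allFrom data.checkCoset 37500 500 = true := by decide +kernel

theorem coset_okAt38000 : allFrom data.checkCoset 38000 500 = true := by decide +kernel

theorem coset_okAt38500 : allFrom data.checkCoset 38500 500 = true := by decide +kernel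

theorem coset_okAt39000 : allFrom data.checkCoset 39000 500 = true := by decide +kernel

theorem coset_okAt39500 : allFrom data.checkCoset 39500 500 = true := by decide +kernel

end Cfsg.Agent.CosetCert.Fi24Index
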