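import Cfsg.Agent.CosetCert.Fi24Index.Defs

/-! Generated: kernel checks. -/

set_option Elab.async false

namespace Cfsg.Agent.CosetCert.Fi24Index

theorem coset_okAt200000 : allFrom data.checkCoset 200000 500 = true := by decide +kernel

theorem coset_okAt200500 : allFrom data.checkCoset 200500 500 = true := by decide +kernel

theorem coset_okAt201000 : allFrom data.checkCoset 201000 500 = true := by decide +kernel

theorem coset_okAt201500 : allFrom data.checkCoset 201500 500 = true := by decide +kernel

theorem coset_okAt202000 : allFrom data.checkCoset 202000 500 = true := by decide +kernel

theorem coset_okAt202500 : allFrom data.checkCoset 202500 500 = true := by decide +kernel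

theorem coset_okAt203000 : allFrom data.checkCoset 203000 500 = true := by decide +kernel

theorem coset_okAt203500 : allFrom data.checkCoset 203500 500 = true := by decide +kernel

theorem coset_okAt204000 : allFrom data.checkCoset 204000 500 = true := by decide +kernel

theorem coset_okAt204500 : allFrom data.checkCoset 204500 500 = true := by decide +kernel

theorem coset_okAt205000 : allFrom data.checkCoset 205000 500 = true := by decide +kernel

theorem coset_okAt205500 : allFrom data.checkCoset 205500 500 = true := by decide +kernel

theorem coset_okAt206000 : allFrom data.checkCoset 206000 500 = true := by decide +kernel

theorem coset_okAt206500 : allFrom data.checkCoset 206500 500 = true := by decide +kernel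

theorem coset_okAt207000 : allFrom data.checkCoset 207000 500 = true := by decide +kernel

theorem coset_okAt207500 : allFrom data.checkCoset 207500 500 = true := by decide +kernel

theorem coset_okAt208000 : allFrom data.checkCoset 208000 500 = true := by decide +kernel

theorem coset_okAt208500 : allFrom data.checkCoset 208500 500 = true := by decide +kernel

theorem coset_okAt209000 : allFrom data.checkCoset 209000 500 = true := by decide +kernel

theorem coset_okAt209500 : allFrom data.checkCoset 209500 500 = true := by decide +kernel

theorem coset_okAt210000 : allFrom data.checkCoset 210000 500 = true := by decide +kernel

theorem coset_okAt210500 : allFrom data.checkCoset 210500 500 = true := by decide +kernel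

theorem coset_okAt211000 : allFrom data.checkCoset 211000 500 = true := by decide +kernel

theorem coset_okAt211500 : allFrom data.checkCoset 211500 500 = true := by decide +kernel

theorem coset_okAt212000 : allFrom data.checkCoset 212000 500 = true := by decide +kernel

theorem coset_okAt212500 : allFrom data.checkCoset 212500 500 = true := by decide +kernel

theorem coset_okAt213000 : allFrom data.checkCoset 213000 500 = true := by decide +kernel

theorem coset_okAt213500 : allFrom data.checkCoset 213500 500 = true := by decide +kernel

theorem coset_okAt214000 : allFrom data.checkCoset 214000 500 = true := by decide +kernel

theorem coset_okAt214500 : allFrom data.checkCoset 214500 500 = true := by decide +kernel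

theorem coset_okAt215000 : allFrom data.checkCoset 215000 500 = true := by decide +kernel

theorem coset_okAt215500 : allFrom data.checkCoset 215500 500 = true := by decide +kernel

theorem coset_okAt216000 : allFrom data.checkCoset 216000 500 = true := by decide +kernel

theorem coset_okAt216500 : allFrom data.checkCoset 216500 500 = true := by decide +kernel

theorem coset_okAt217000 : allFrom data.checkCoset 217000 500 = true := by decide +kernel

theorem coset_okAt217500 : allFrom data.checkCoset 217500 500 = true := by decide +kernel

theorem coset_okAt218000 : allFrom data.checkCoset 218000 500 = true := by decide +kernel

theorem coset_okAt218500 : allFrom data.checkCoset 218500 500 = true := by decide +kernel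

theorem coset_okAt219000 : allFrom data.checkCoset 219000 500 = true := by decide +kernel

theorem coset_okAt219500 : allFrom data.checkCoset 219500 500 = true := by decide +kernel

end Cfsg.Agent.CosetCert.Fi24Index
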