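import Cfsg.Agent.CosetCert.Fi24Index.Defs

/-! Generated: kernel checks. -/

set_option Elab.async false

namespace Cfsg.Agent.CosetCert.Fi24Index

theorem coset_okAt240000 : allFrom data.checkCoset 240000 500 = true := by decide +kernel

theorem coset_okAt240500 : allFrom data.checkCoset 240500 500 = true := by decide +kernel

theorem coset_okAt241000 : allFrom data.checkCoset 241000 500 = true := by decide +kernel

theorem coset_okAt241500 : allFrom data.checkCoset 241500 500 = true := by decide +kernel

theorem coset_okAt242000 : allFrom data.checkCoset 242000 500 = true := by decide +kernel

theorem coset_okAt242500 : allFrom data.checkCoset 242500 500 = true := by decide +kernel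

theorem coset_okAt243000 : allFrom data.checkCoset 243000 500 = true := by decide +kernel

theorem coset_okAt243500 : allFrom data.checkCoset 243500 500 = true := by decide +kernel

theorem coset_okAt244000 : allFrom data.checkCoset 244000 500 = true := by decide +kernel

theorem coset_okAt244500 : allFrom data.checkCoset 244500 500 = true := by decide +kernel

theorem coset_okAt245000 : allFrom data.checkCoset 245000 500 = true := by decide +kernel

theorem coset_okAt245500 : allFrom data.checkCoset 245500 500 = true := by decide +kernel

theorem coset_okAt246000 : allFrom data.checkCoset 246000 500 = true := by decide +kernel

theorem coset_okAt246500 : allFrom data.checkCoset 246500 500 = true := by decide +kernel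

theorem coset_okAt247000 : allFrom data.checkCoset 247000 500 = true := by decide +kernel

theorem coset_okAt247500 : allFrom data.checkCoset 247500 500 = true := by decide +kernel

theorem coset_okAt248000 : allFrom data.checkCoset 248000 500 = true := by decide +kernel

theorem coset_okAt248500 : allFrom data.checkCoset 248500 500 = true := by decide +kernel

theorem coset_okAt249000 : allFrom data.checkCoset 249000 500 = true := by decide +kernel

theorem coset_okAt249500 : allFrom data.checkCoset 249500 500 = true := by decide +kernel

theorem coset_okAt250000 : allFrom data.checkCoset 250000 500 = true := by decide +kernel

theorem coset_okAt250500 : allFrom data.checkCoset 250500 500 = true := by decide +kernel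

theorem coset_okAt251000 : allFrom data.checkCoset 251000 500 = true := by decide +kernel

theorem coset_okAt251500 : allFrom data.checkCoset 251500 500 = true := by decide +kernel

theorem coset_okAt252000 : allFrom data.checkCoset 252000 500 = true := by decide +kernel

theorem coset_okAt252500 : allFrom data.checkCoset 252500 500 = true := by decide +kernel

theorem coset_okAt253000 : allFrom data.checkCoset 253000 500 = true := by decide +kernel

theorem coset_okAt253500 : allFrom data.checkCoset 253500 500 = true := by decide +kernel

theorem coset_okAt254000 : allFrom data.checkCoset 254000 500 = true := by decide +kernel

theorem coset_okAt254500 : allFrom data.checkCoset 254500 500 = true := by decide +kernel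

theorem coset_okAt255000 : allFrom data.checkCoset 255000 500 = true := by decide +kernel

theorem coset_okAt255500 : allFrom data.checkCoset 255500 500 = true := by decide +kernel

theorem coset_okAt256000 : allFrom data.checkCoset 256000 500 = true := by decide +kernel

theorem coset_okAt256500 : allFrom data.checkCoset 256500 500 = true := by decide +kernel

theorem coset_okAt257000 : allFrom data.checkCoset 257000 500 = true := by decide +kernel

theorem coset_okAt257500 : allFrom data.checkCoset 257500 500 = true := by decide +kernel

theorem coset_okAt258000 : allFrom data.checkCoset 258000 500 = true := by decide +kernel

theorem coset_okAt258500 : allFrom data.checkCoset 258500 500 = true := by decide +kernel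

theorem coset_okAt259000 : allFrom data.checkCoset 259000 500 = true := by decide +kernel

theorem coset_okAt259500 : allFrom data.checkCoset 259500 500 = true := by decide +kernel

end Cfsg.Agent.CosetCert.Fi24Index
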