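import Cfsg.Agent.CosetCert.Fi24Index.Defs

/-! Generated: kernel checks. -/

set_option Elab.async false

namespace Cfsg.Agent.CosetCert.Fi24Index

theorem coset_okAt260000 : allFrom data.checkCoset 260000 500 = true := by decide +kernel

theorem coset_okAt260500 : allFrom data.checkCoset 260500 500 = true := by decide +kernel

theorem coset_okAt261000 : allFrom data.checkCoset 261000 500 = true := by decide +kernel

theorem coset_okAt261500 : allFrom data.checkCoset 261500 500 = true := by decide +kernel

theorem coset_okAt262000 : allFrom data.checkCoset 262000 500 = true := by decide +kernel

theorem coset_okAt262500 : allFrom data.checkCoset 262500 500 = true := by decide +kernel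

theorem coset_okAt263000 : allFrom data.checkCoset 263000 500 = true := by decide +kernel

theorem coset_okAt263500 : allFrom data.checkCoset 263500 500 = true := by decide +kernel

theorem coset_okAt264000 : allFrom data.checkCoset 264000 500 = true := by decide +kernel

theorem coset_okAt264500 : allFrom data.checkCoset 264500 500 = true := by decide +kernel

theorem coset_okAt265000 : allFrom data.checkCoset 265000 500 = true := by decide +kernel

theorem coset_okAt265500 : allFrom data.checkCoset 265500 500 = true := by decide +kernel

theorem coset_okAt266000 : allFrom data.checkCoset 266000 500 = true := by decide +kernel

theorem coset_okAt266500 : allFrom data.checkCoset 266500 500 = true := by decide +kernel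

theorem coset_okAt267000 : allFrom data.checkCoset 267000 500 = true := by decide +kernel

theorem coset_okAt267500 : allFrom data.checkCoset 267500 500 = true := by decide +kernel

theorem coset_okAt268000 : allFrom data.checkCoset 268000 500 = true := by decide +kernel

theorem coset_okAt268500 : allFrom data.checkCoset 268500 500 = true := by decide +kernel

theorem coset_okAt269000 : allFrom data.checkCoset 269000 500 = true := by decide +kernel

theorem coset_okAt269500 : allFrom data.checkCoset 269500 500 = true := by decide +kernel

theorem coset_okAt270000 : allFrom data.checkCoset 270000 500 = true := by decide +kernel

theorem coset_okAt270500 : allFrom data.checkCoset 270500 500 = true := by decide +kernel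

theorem coset_okAt271000 : allFrom data.checkCoset 271000 500 = true := by decide +kernel

theorem coset_okAt271500 : allFrom data.checkCoset 271500 500 = true := by decide +kernel

theorem coset_okAt272000 : allFrom data.checkCoset 272000 500 = true := by decide +kernel

theorem coset_okAt272500 : allFrom data.checkCoset 272500 500 = true := by decide +kernel

theorem coset_okAt273000 : allFrom data.checkCoset 273000 500 = true := by decide +kernel

theorem coset_okAt273500 : allFrom data.checkCoset 273500 500 = true := by decide +kernel

theorem coset_okAt274000 : allFrom data.checkCoset 274000 500 = true := by decide +kernel

theorem coset_okAt274500 : allFrom data.checkCoset 274500 500 = true := by decide +kernel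

theorem coset_okAt275000 : allFrom data.checkCoset 275000 500 = true := by decide +kernel

theorem coset_okAt275500 : allFrom data.checkCoset 275500 500 = true := by decide +kernel

theorem coset_okAt276000 : allFrom data.checkCoset 276000 500 = true := by decide +kernel

theorem coset_okAt276500 : allFrom data.checkCoset 276500 500 = true := by decide +kernel

theorem coset_okAt277000 : allFrom data.checkCoset 277000 500 = true := by decide +kernel

theorem coset_okAt277500 : allFrom data.checkCoset 277500 500 = true := by decide +kernel

theorem coset_okAt278000 : allFrom data.checkCoset 278000 500 = true := by decide +kernel

theorem coset_okAt278500 : allFrom data.checkCoset 278500 500 = true := by decide +kernel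

theorem coset_okAt279000 : allFrom data.checkCoset 279000 500 = true := by decide +kernel

theorem coset_okAt279500 : allFrom data.checkCoset 279500 500 = true := by decide +kernel

end Cfsg.Agent.CosetCert.Fi24Index
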