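import Cfsg.Agent.CosetCert.Fi24Index.Defs

/-! Generated: kernel checks. -/

set_option Elab.async false

namespace Cfsg.Agent.CosetCert.Fi24Index

theorem coset_okAt280000 : allFrom data.checkCoset 280000 500 = true := by decide +kernel

theorem coset_okAt280500 : allFrom data.checkCoset 280500 500 = true := by decide +kernel

theorem coset_okAt281000 : allFrom data.checkCoset 281000 500 = true := by decide +kernel

theorem coset_okAt281500 : allFrom data.checkCoset 281500 500 = true := by decide +kernel

theorem coset_okAt282000 : allFrom data.checkCoset 282000 500 = true := by decide +kernel

theorem coset_okAt282500 : allFrom data.checkCoset 282500 500 = true := by decide +kernel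

theorem coset_okAt283000 : allFrom data.checkCoset 283000 500 = true := by decide +kernel

theorem coset_okAt283500 : allFrom data.checkCoset 283500 500 = true := by decide +kernel

theorem coset_okAt284000 : allFrom data.checkCoset 284000 500 = true := by decide +kernel

theorem coset_okAt284500 : allFrom data.checkCoset 284500 500 = true := by decide +kernel

theorem coset_okAt285000 : allFrom data.checkCoset 285000 500 = true := by decide +kernel

theorem coset_okAt285500 : allFrom data.checkCoset 285500 500 = true := by decide +kernel

theorem coset_okAt286000 : allFrom data.checkCoset 286000 500 = true := by decide +kernel

theorem coset_okAt286500 : allFrom data.checkCoset 286500 500 = true := by decide +kernel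

theorem coset_okAt287000 : allFrom data.checkCoset 287000 500 = true := by decide +kernel

theorem coset_okAt287500 : allFrom data.checkCoset 287500 500 = true := by decide +kernel

theorem coset_okAt288000 : allFrom data.checkCoset 288000 500 = true := by decide +kernel

theorem coset_okAt288500 : allFrom data.checkCoset 288500 500 = true := by decide +kernel

theorem coset_okAt289000 : allFrom data.checkCoset 289000 500 = true := by decide +kernel

theorem coset_okAt289500 : allFrom data.checkCoset 289500 500 = true := by decide +kernel

theorem coset_okAt290000 : allFrom data.checkCoset 290000 500 = true := by decide +kernel

theorem coset_okAt290500 : allFrom data.checkCoset 290500 500 = true := by decide +kernel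

theorem coset_okAt291000 : allFrom data.checkCoset 291000 500 = true := by decide +kernel

theorem coset_okAt291500 : allFrom data.checkCoset 291500 500 = true := by decide +kernel

theorem coset_okAt292000 : allFrom data.checkCoset 292000 500 = true := by decide +kernel

theorem coset_okAt292500 : allFrom data.checkCoset 292500 500 = true := by decide +kernel

theorem coset_okAt293000 : allFrom data.checkCoset 293000 500 = true := by decide +kernel

theorem coset_okAt293500 : allFrom data.checkCoset 293500 500 = true := by decide +kernel

theorem coset_okAt294000 : allFrom data.checkCoset 294000 500 = true := by decide +kernel

theorem coset_okAt294500 : allFrom data.checkCoset 294500 500 = true := by decide +kernel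

theorem coset_okAt295000 : allFrom data.checkCoset 295000 500 = true := by decide +kernel

theorem coset_okAt295500 : allFrom data.checkCoset 295500 500 = true := by decide +kernel

theorem coset_okAt296000 : allFrom data.checkCoset 296000 500 = true := by decide +kernel

theorem coset_okAt296500 : allFrom data.checkCoset 296500 500 = true := by decide +kernel

theorem coset_okAt297000 : allFrom data.checkCoset 297000 500 = true := by decide +kernel

theorem coset_okAt297500 : allFrom data.checkCoset 297500 500 = true := by decide +kernel

theorem coset_okAt298000 : allFrom data.checkCoset 298000 500 = true := by decide +kernel

theorem coset_okAt298500 : allFrom data.checkCoset 298500 500 = true := by decide +kernel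

theorem coset_okAt299000 : allFrom data.checkCoset 299000 500 = true := by decide +kernel

theorem coset_okAt299500 : allFrom data.checkCoset 299500 500 = true := by decide +kernel

end Cfsg.Agent.CosetCert.Fi24Index
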