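import Cfsg.Agent.CosetCert.Fi24Index.Defs

/-! Generated: kernel checks. -/

set_option Elab.async false

namespace Cfsg.Agent.CosetCert.Fi24Index

theorem coset_okAt40000 : allFrom data.checkCoset 40000 500 = true := by decide +kernel

theorem coset_okAt40500 : allFrom data.checkCoset 40500 500 = true := by decide +kernel

theorem coset_okAt41000 : allFrom data.checkCoset 41000 500 = true := by decide +kernel

theorem coset_okAt41500 : allFrom data.checkCoset 41500 500 = true := by decide +kernel

theorem coset_okAt42000 : allFrom data.checkCoset 42000 500 = true := by decide +kernel

theorem coset_okAt42500 : allFrom data.checkCoset 42500 500 = true := by decide +kernel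

theorem coset_okAt43000 : allFrom data.checkCoset 43000 500 = true := by decide +kernel

theorem coset_okAt43500 : allFrom data.checkCoset 43500 500 = true := by decide +kernel

theorem coset_okAt44000 : allFrom data.checkCoset 44000 500 = true := by decide +kernel

theorem coset_okAt44500 : allFrom data.checkCoset 44500 500 = true := by decide +kernel

theorem coset_okAt45000 : allFrom data.checkCoset 45000 500 = true := by decide +kernel

theorem coset_okAt45500 : allFrom data.checkCoset 45500 500 = true := by decide +kernel

theorem coset_okAt46000 : allFrom data.checkCoset 46000 500 = true := by decide +kernel

theorem coset_okAt46500 : allFrom data.checkCoset 46500 500 = true := by decide +kernel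

theorem coset_okAt47000 : allFrom data.checkCoset 47000 500 = true := by decide +kernel

theorem coset_okAt47500 : allFrom data.checkCoset 47500 500 = true := by decide +kernel

theorem coset_okAt48000 : allFrom data.checkCoset 48000 500 = true := by decide +kernel

theorem coset_okAt48500 : allFrom data.checkCoset 48500 500 = true := by decide +kernel

theorem coset_okAt49000 : allFrom data.checkCoset 49000 500 = true := by decide +kernel

theorem coset_okAt49500 : allFrom data.checkCoset 49500 500 = true := by decide +kernel

theorem coset_okAt50000 : allFrom data.checkCoset 50000 500 = true := by decide +kernel

theorem coset_okAt50500 : allFrom data.checkCoset 50500 500 = true := by decide +kernel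

theorem coset_okAt51000 : allFrom data.checkCoset 51000 500 = true := by decide +kernel

theorem coset_okAt51500 : allFrom data.checkCoset 51500 500 = true := by decide +kernel

theorem coset_okAt52000 : allFrom data.checkCoset 52000 500 = true := by decide +kernel

theorem coset_okAt52500 : allFrom data.checkCoset 52500 500 = true := by decide +kernel

theorem coset_okAt53000 : allFrom data.checkCoset 53000 500 = true := by decide +kernel

theorem coset_okAt53500 : allFrom data.checkCoset 53500 500 = true := by decide +kernel

theorem coset_okAt54000 : allFrom data.checkCoset 54000 500 = true := by decide +kernel

theorem coset_okAt54500 : allFrom data.checkCoset 54500 500 = true := by decide +kernel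

theorem coset_okAt55000 : allFrom data.checkCoset 55000 500 = true := by decide +kernel

theorem coset_okAt55500 : allFrom data.checkCoset 55500 500 = true := by decide +kernel

theorem coset_okAt56000 : allFrom data.checkCoset 56000 500 = true := by decide +kernel

theorem coset_okAt56500 : allFrom data.checkCoset 56500 500 = true := by decide +kernel

theorem coset_okAt57000 : allFrom data.checkCoset 57000 500 = true := by decide +kernel

theorem coset_okAt57500 : allFrom data.checkCoset 57500 500 = true := by decide +kernel

theorem coset_okAt58000 : allFrom data.checkCoset 58000 500 = true := by decide +kernel

theorem coset_okAt58500 : allFrom data.checkCoset 58500 500 = true := by decide +kernel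

theorem coset_okAt59000 : allFrom data.checkCoset 59000 500 = true := by decide +kernel

theorem coset_okAt59500 : allFrom data.checkCoset 59500 500 = true := by decide +kernel

end Cfsg.Agent.CosetCert.Fi24Index
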