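import Cfsg.Agent.CosetCert.Fi24Index.Defs

/-! Generated: kernel checks. -/

set_option Elab.async false

namespace Cfsg.Agent.CosetCert.Fi24Index

theorem coset_okAt60000 : allFrom data.checkCoset 60000 500 = true := by decide +kernel

theorem coset_okAt60500 : allFrom data.checkCoset 60500 500 = true := by decide +kernel

theorem coset_okAt61000 : allFrom data.checkCoset 61000 500 = true := by decide +kernel

theorem coset_okAt61500 : allFrom data.checkCoset 61500 500 = true := by decide +kernel

theorem coset_okAt62000 : allFrom data.checkCoset 62000 500 = true := by decide +kernel

theorem coset_okAt62500 : allFrom data.checkCoset 62500 500 = true := by decide +kernel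

theorem coset_okAt63000 : allFrom data.checkCoset 63000 500 = true := by decide +kernel

theorem coset_okAt63500 : allFrom data.checkCoset 63500 500 = true := by decide +kernel

theorem coset_okAt64000 : allFrom data.checkCoset 64000 500 = true := by decide +kernel

theorem coset_okAt64500 : allFrom data.checkCoset 64500 500 = true := by decide +kernel

theorem coset_okAt65000 : allFrom data.checkCoset 65000 500 = true := by decide +kernel

theorem coset_okAt65500 : allFrom data.checkCoset 65500 500 = true := by decide +kernel

theorem coset_okAt66000 : allFrom data.checkCoset 66000 500 = true := by decide +kernel

theorem coset_okAt66500 : allFrom data.checkCoset 66500 500 = true := by decide +kernel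

theorem coset_okAt67000 : allFrom data.checkCoset 67000 500 = true := by decide +kernel

theorem coset_okAt67500 : allFrom data.checkCoset 67500 500 = true := by decide +kernel

theorem coset_okAt68000 : allFrom data.checkCoset 68000 500 = true := by decide +kernel

theorem coset_okAt68500 : allFrom data.checkCoset 68500 500 = true := by decide +kernel

theorem coset_okAt69000 : allFrom data.checkCoset 69000 500 = true := by decide +kernel

theorem coset_okAt69500 : allFrom data.checkCoset 69500 500 = true := by decide +kernel

theorem coset_okAt70000 : allFrom data.checkCoset 70000 500 = true := by decide +kernel

theorem coset_okAt70500 : allFrom data.checkCoset 70500 500 = true := by decide +kernel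

theorem coset_okAt71000 : allFrom data.checkCoset 71000 500 = true := by decide +kernel

theorem coset_okAt71500 : allFrom data.checkCoset 71500 500 = true := by decide +kernel

theorem coset_okAt72000 : allFrom data.checkCoset 72000 500 = true := by decide +kernel

theorem coset_okAt72500 : allFrom data.checkCoset 72500 500 = true := by decide +kernel

theorem coset_okAt73000 : allFrom data.checkCoset 73000 500 = true := by decide +kernel

theorem coset_okAt73500 : allFrom data.checkCoset 73500 500 = true := by decide +kernel

theorem coset_okAt74000 : allFrom data.checkCoset 74000 500 = true := by decide +kernel

theorem coset_okAt74500 : allFrom data.checkCoset 74500 500 = true := by decide +kernel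

theorem coset_okAt75000 : allFrom data.checkCoset 75000 500 = true := by decide +kernel

theorem coset_okAt75500 : allFrom data.checkCoset 75500 500 = true := by decide +kernel

theorem coset_okAt76000 : allFrom data.checkCoset 76000 500 = true := by decide +kernel

theorem coset_okAt76500 : allFrom data.checkCoset 76500 500 = true := by decide +kernel

theorem coset_okAt77000 : allFrom data.checkCoset 77000 500 = true := by decide +kernel

theorem coset_okAt77500 : allFrom data.checkCoset 77500 500 = true := by decide +kernel

theorem coset_okAt78000 : allFrom data.checkCoset 78000 500 = true := by decide +kernel

theorem coset_okAt78500 : allFrom data.checkCoset 78500 500 = true := by decide +kernel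

theorem coset_okAt79000 : allFrom data.checkCoset 79000 500 = true := by decide +kernel

theorem coset_okAt79500 : allFrom data.checkCoset 79500 500 = true := by decide +kernel

end Cfsg.Agent.CosetCert.Fi24Index
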