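import Cfsg.Agent.CosetCert.Fi24Index.Defs

/-! Generated: kernel checks. -/

set_option Elab.async false

namespace Cfsg.Agent.CosetCert.Fi24Index

theorem coset_okAt80000 : allFrom data.checkCoset 80000 500 = true := by decide +kernel

theorem coset_okAt80500 : allFrom data.checkCoset 80500 500 = true := by decide +kernel

theorem coset_okAt81000 : allFrom data.checkCoset 81000 500 = true := by decide +kernel

theorem coset_okAt81500 : allFrom data.checkCoset 81500 500 = true := by decide +kernel

theorem coset_okAt82000 : allFrom data.checkCoset 82000 500 = true := by decide +kernel

theorem coset_okAt82500 : allFrom data.checkCoset 82500 500 = true := by decide +kernel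

theorem coset_okAt83000 : allFrom data.checkCoset 83000 500 = true := by decide +kernel

theorem coset_okAt83500 : allFrom data.checkCoset 83500 500 = true := by decide +kernel

theorem coset_okAt84000 : allFrom data.checkCoset 84000 500 = true := by decide +kernel

theorem coset_okAt84500 : allFrom data.checkCoset 84500 500 = true := by decide +kernel

theorem coset_okAt85000 : allFrom data.checkCoset 85000 500 = true := by decide +kernel

theorem coset_okAt85500 : allFrom data.checkCoset 85500 500 = true := by decide +kernel

theorem coset_okAt86000 : allFrom data.checkCoset 86000 500 = true := by decide +kernel

theorem coset_okAt86500 : allFrom data.checkCoset 86500 500 = true := by decide +kernel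

theorem coset_okAt87000 : allFrom data.checkCoset 87000 500 = true := by decide +kernel

theorem coset_okAt87500 : allFrom data.checkCoset 87500 500 = true := by decide +kernel

theorem coset_okAt88000 : allFrom data.checkCoset 88000 500 = true := by decide +kernel

theorem coset_okAt88500 : allFrom data.checkCoset 88500 500 = true := by decide +kernel

theorem coset_okAt89000 : allFrom data.checkCoset 89000 500 = true := by decide +kernel

theorem coset_okAt89500 : allFrom data.checkCoset 89500 500 = true := by decide +kernel

theorem coset_okAt90000 : allFrom data.checkCoset 90000 500 = true := by decide +kernel

theorem coset_okAt90500 : allFrom data.checkCoset 90500 500 = true := by decide +kernel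

theorem coset_okAt91000 : allFrom data.checkCoset 91000 500 = true := by decide +kernel

theorem coset_okAt91500 : allFrom data.checkCoset 91500 500 = true := by decide +kernel

theorem coset_okAt92000 : allFrom data.checkCoset 92000 500 = true := by decide +kernel

theorem coset_okAt92500 : allFrom data.checkCoset 92500 500 = true := by decide +kernel

theorem coset_okAt93000 : allFrom data.checkCoset 93000 500 = true := by decide +kernel

theorem coset_okAt93500 : allFrom data.checkCoset 93500 500 = true := by decide +kernel

theorem coset_okAt94000 : allFrom data.checkCoset 94000 500 = true := by decide +kernel

theorem coset_okAt94500 : allFrom data.checkCoset 94500 500 = true := by decide +kernel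

theorem coset_okAt95000 : allFrom data.checkCoset 95000 500 = true := by decide +kernel

theorem coset_okAt95500 : allFrom data.checkCoset 95500 500 = true := by decide +kernel

theorem coset_okAt96000 : allFrom data.checkCoset 96000 500 = true := by decide +kernel

theorem coset_okAt96500 : allFrom data.checkCoset 96500 500 = true := by decide +kernel

theorem coset_okAt97000 : allFrom data.checkCoset 97000 500 = true := by decide +kernel

theorem coset_okAt97500 : allFrom data.checkCoset 97500 500 = true := by decide +kernel

theorem coset_okAt98000 : allFrom data.checkCoset 98000 500 = true := by decide +kernel

theorem coset_okAt98500 : allFrom data.checkCoset 98500 500 = true := by decide +kernel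

theorem coset_okAt99000 : allFrom data.checkCoset 99000 500 = true := by decide +kernel

theorem coset_okAt99500 : allFrom data.checkCoset 99500 500 = true := by decide +kernel

end Cfsg.Agent.CosetCert.Fi24Index
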