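import Cfsg.Agent.CosetCert.Fi24Index.Defs

/-! Generated: kernel checks. -/

set_option Elab.async false

namespace Cfsg.Agent.CosetCert.Fi24Index

theorem coset_okAt100000 : allFrom data.checkCoset 100000 500 = true := by decide +kernel

theorem coset_okAt100500 : allFrom data.checkCoset 100500 500 = true := by decide +kernel

theorem coset_okAt101000 : allFrom data.checkCoset 101000 500 = true := by decide +kernel

theorem coset_okAt101500 : allFrom data.checkCoset 101500 500 = true := by decide +kernel

theorem coset_okAt102000 : allFrom data.checkCoset 102000 500 = true := by decide +kernel

theorem coset_okAt102500 : allFrom data.checkCoset 102500 500 = true := by decide +kernel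

theorem coset_okAt103000 : allFrom data.checkCoset 103000 500 = true := by decide +kernel

theorem coset_okAt103500 : allFrom data.checkCoset 103500 500 = true := by decide +kernel

theorem coset_okAt104000 : allFrom data.checkCoset 104000 500 = true := by decide +kernel

theorem coset_okAt104500 : allFrom data.checkCoset 104500 500 = true := by decide +kernel

theorem coset_okAt105000 : allFrom data.checkCoset 105000 500 = true := by decide +kernel

theorem coset_okAt105500 : allFrom data.checkCoset 105500 500 = true := by decide +kernel

theorem coset_okAt106000 : allFrom data.checkCoset 106000 500 = true := by decide +kernel

theorem coset_okAt106500 : allFrom data.checkCoset 106500 500 = true := by decide +kernel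

theorem coset_okAt107000 : allFrom data.checkCoset 107000 500 = true := by decide +kernel

theorem coset_okAt107500 : allFrom data.checkCoset 107500 500 = true := by decide +kernel

theorem coset_okAt108000 : allFrom data.checkCoset 108000 500 = true := by decide +kernel

theorem coset_okAt108500 : allFrom data.checkCoset 108500 500 = true := by decide +kernel

theorem coset_okAt109000 : allFrom data.checkCoset 109000 500 = true := by decide +kernel

theorem coset_okAt109500 : allFrom data.checkCoset 109500 500 = true := by decide +kernel

theorem coset_okAt110000 : allFrom data.checkCoset 110000 500 = true := by decide +kernel

theorem coset_okAt110500 : allFrom data.checkCoset 110500 500 = true := by decide +kernel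

theorem coset_okAt111000 : allFrom data.checkCoset 111000 500 = true := by decide +kernel

theorem coset_okAt111500 : allFrom data.checkCoset 111500 500 = true := by decide +kernel

theorem coset_okAt112000 : allFrom data.checkCoset 112000 500 = true := by decide +kernel

theorem coset_okAt112500 : allFrom data.checkCoset 112500 500 = true := by decide +kernel

theorem coset_okAt113000 : allFrom data.checkCoset 113000 500 = true := by decide +kernel

theorem coset_okAt113500 : allFrom data.checkCoset 113500 500 = true := by decide +kernel

theorem coset_okAt114000 : allFrom data.checkCoset 114000 500 = true := by decide +kernel

theorem coset_okAt114500 : allFrom data.checkCoset 114500 500 = true := by decide +kernel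

theorem coset_okAt115000 : allFrom data.checkCoset 115000 500 = true := by decide +kernel

theorem coset_okAt115500 : allFrom data.checkCoset 115500 500 = true := by decide +kernel

theorem coset_okAt116000 : allFrom data.checkCoset 116000 500 = true := by decide +kernel

theorem coset_okAt116500 : allFrom data.checkCoset 116500 500 = true := by decide +kernel

theorem coset_okAt117000 : allFrom data.checkCoset 117000 500 = true := by decide +kernel

theorem coset_okAt117500 : allFrom data.checkCoset 117500 500 = true := by decide +kernel

theorem coset_okAt118000 : allFrom data.checkCoset 118000 500 = true := by decide +kernel

theorem coset_okAt118500 : allFrom data.checkCoset 118500 500 = true := by decide +kernel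

theorem coset_okAt119000 : allFrom data.checkCoset 119000 500 = true := by decide +kernel

theorem coset_okAt119500 : allFrom data.checkCoset 119500 500 = true := by decide +kernel

end Cfsg.Agent.CosetCert.Fi24Index
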