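import Cfsg.Agent.CosetCert.Fi24Index.Defs

/-! Generated: kernel checks. -/

set_option Elab.async false

namespace Cfsg.Agent.CosetCert.Fi24Index

theorem coset_okAt120000 : allFrom data.checkCoset 120000 500 = true := by decide +kernel

theorem coset_okAt120500 : allFrom data.checkCoset 120500 500 = true := by decide +kernel

theorem coset_okAt121000 : allFrom data.checkCoset 121000 500 = true := by decide +kernel

theorem coset_okAt121500 : allFrom data.checkCoset 121500 500 = true := by decide +kernel

theorem coset_okAt122000 : allFrom data.checkCoset 122000 500 = true := by decide +kernel

theorem coset_okAt122500 : allFrom data.checkCoset 122500 500 = true := by decide +kernel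

theorem coset_okAt123000 : allFrom data.checkCoset 123000 500 = true := by decide +kernel

theorem coset_okAt123500 : allFrom data.checkCoset 123500 500 = true := by decide +kernel

theorem coset_okAt124000 : allFrom data.checkCoset 124000 500 = true := by decide +kernel

theorem coset_okAt124500 : allFrom data.checkCoset 124500 500 = true := by decide +kernel

theorem coset_okAt125000 : allFrom data.checkCoset 125000 500 = true := by decide +kernel

theorem coset_okAt125500 : allFrom data.checkCoset 125500 500 = true := by decide +kernel

theorem coset_okAt126000 : allFrom data.checkCoset 126000 500 = true := by decide +kernel

theorem coset_okAt126500 : allFrom data.checkCoset 126500 500 = true := by decide +kernel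

theorem coset_okAt127000 : allFrom data.checkCoset 127000 500 = true := by decide +kernel

theorem coset_okAt127500 : allFrom data.checkCoset 127500 500 = true := by decide +kernel

theorem coset_okAt128000 : allFrom data.checkCoset 128000 500 = true := by decide +kernel

theorem coset_okAt128500 : allFrom data.checkCoset 128500 500 = true := by decide +kernel

theorem coset_okAt129000 : allFrom data.checkCoset 129000 500 = true := by decide +kernel

theorem coset_okAt129500 : allFrom data.checkCoset 129500 500 = true := by decide +kernel

theorem coset_okAt130000 : allFrom data.checkCoset 130000 500 = true := by decide +kernel

theorem coset_okAt130500 : allFrom data.checkCoset 130500 500 = true := by decide +kernel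

theorem coset_okAt131000 : allFrom data.checkCoset 131000 500 = true := by decide +kernel

theorem coset_okAt131500 : allFrom data.checkCoset 131500 500 = true := by decide +kernel

theorem coset_okAt132000 : allFrom data.checkCoset 132000 500 = true := by decide +kernel

theorem coset_okAt132500 : allFrom data.checkCoset 132500 500 = true := by decide +kernel

theorem coset_okAt133000 : allFrom data.checkCoset 133000 500 = true := by decide +kernel

theorem coset_okAt133500 : allFrom data.checkCoset 133500 500 = true := by decide +kernel

theorem coset_okAt134000 : allFrom data.checkCoset 134000 500 = true := by decide +kernel

theorem coset_okAt134500 : allFrom data.checkCoset 134500 500 = true := by decide +kernel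

theorem coset_okAt135000 : allFrom data.checkCoset 135000 500 = true := by decide +kernel

theorem coset_okAt135500 : allFrom data.checkCoset 135500 500 = true := by decide +kernel

theorem coset_okAt136000 : allFrom data.checkCoset 136000 500 = true := by decide +kernel

theorem coset_okAt136500 : allFrom data.checkCoset 136500 500 = true := by decide +kernel

theorem coset_okAt137000 : allFrom data.checkCoset 137000 500 = true := by decide +kernel

theorem coset_okAt137500 : allFrom data.checkCoset 137500 500 = true := by decide +kernel

theorem coset_okAt138000 : allFrom data.checkCoset 138000 500 = true := by decide +kernel

theorem coset_okAt138500 : allFrom data.checkCoset 138500 500 = true := by decide +kernel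

theorem coset_okAt139000 : allFrom data.checkCoset 139000 500 = true := by decide +kernel

theorem coset_okAt139500 : allFrom data.checkCoset 139500 500 = true := by decide +kernel

end Cfsg.Agent.CosetCert.Fi24Index
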