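import Cfsg.Agent.CosetCert.Fi24Index.Defs

/-! Generated: kernel checks. -/

set_option Elab.async false

namespace Cfsg.Agent.CosetCert.Fi24Index

theorem coset_okAt140000 : allFrom data.checkCoset 140000 500 = true := by decide +kernel

theorem coset_okAt140500 : allFrom data.checkCoset 140500 500 = true := by decide +kernel

theorem coset_okAt141000 : allFrom data.checkCoset 141000 500 = true := by decide +kernel

theorem coset_okAt141500 : allFrom data.checkCoset 141500 500 = true := by decide +kernel

theorem coset_okAt142000 : allFrom data.checkCoset 142000 500 = true := by decide +kernel

theorem coset_okAt142500 : allFrom data.checkCoset 142500 500 = true := by decide +kernel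

theorem coset_okAt143000 : allFrom data.checkCoset 143000 500 = true := by decide +kernel

theorem coset_okAt143500 : allFrom data.checkCoset 143500 500 = true := by decide +kernel

theorem coset_okAt144000 : allFrom data.checkCoset 144000 500 = true := by decide +kernel

theorem coset_okAt144500 : allFrom data.checkCoset 144500 500 = true := by decide +kernel

theorem coset_okAt145000 : allFrom data.checkCoset 145000 500 = true := by decide +kernel

theorem coset_okAt145500 : allFrom data.checkCoset 145500 500 = true := by decide +kernel

theorem coset_okAt146000 : allFrom data.checkCoset 146000 500 = true := by decide +kernel

theorem coset_okAt146500 : allFrom data.checkCoset 146500 500 = true := by decide +kernel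

theorem coset_okAt147000 : allFrom data.checkCoset 147000 500 = true := by decide +kernel

theorem coset_okAt147500 : allFrom data.checkCoset 147500 500 = true := by decide +kernel

theorem coset_okAt148000 : allFrom data.checkCoset 148000 500 = true := by decide +kernel

theorem coset_okAt148500 : allFrom data.checkCoset 148500 500 = true := by decide +kernel

theorem coset_okAt149000 : allFrom data.checkCoset 149000 500 = true := by decide +kernel

theorem coset_okAt149500 : allFrom data.checkCoset 149500 500 = true := by decide +kernel

theorem coset_okAt150000 : allFrom data.checkCoset 150000 500 = true := by decide +kernel

theorem coset_okAt150500 : allFrom data.checkCoset 150500 500 = true := by decide +kernel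

theorem coset_okAt151000 : allFrom data.checkCoset 151000 500 = true := by decide +kernel

theorem coset_okAt151500 : allFrom data.checkCoset 151500 500 = true := by decide +kernel

theorem coset_okAt152000 : allFrom data.checkCoset 152000 500 = true := by decide +kernel

theorem coset_okAt152500 : allFrom data.checkCoset 152500 500 = true := by decide +kernel

theorem coset_okAt153000 : allFrom data.checkCoset 153000 500 = true := by decide +kernel

theorem coset_okAt153500 : allFrom data.checkCoset 153500 500 = true := by decide +kernel

theorem coset_okAt154000 : allFrom data.checkCoset 154000 500 = true := by decide +kernel

theorem coset_okAt154500 : allFrom data.checkCoset 154500 500 = true := by decide +kernel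

theorem coset_okAt155000 : allFrom data.checkCoset 155000 500 = true := by decide +kernel

theorem coset_okAt155500 : allFrom data.checkCoset 155500 500 = true := by decide +kernel

theorem coset_okAt156000 : allFrom data.checkCoset 156000 500 = true := by decide +kernel

theorem coset_okAt156500 : allFrom data.checkCoset 156500 500 = true := by decide +kernel

theorem coset_okAt157000 : allFrom data.checkCoset 157000 500 = true := by decide +kernel

theorem coset_okAt157500 : allFrom data.checkCoset 157500 500 = true := by decide +kernel

theorem coset_okAt158000 : allFrom data.checkCoset 158000 500 = true := by decide +kernel

theorem coset_okAt158500 : allFrom data.checkCoset 158500 500 = true := by decide +kernel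

theorem coset_okAt159000 : allFrom data.checkCoset 159000 500 = true := by decide +kernel

theorem coset_okAt159500 : allFrom data.checkCoset 159500 500 = true := by decide +kernel

end Cfsg.Agent.CosetCert.Fi24Index
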