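import Cfsg.Agent.CosetCert.Fi24Index.Defs

/-! Generated: kernel checks. -/

set_option Elab.async false

namespace Cfsg.Agent.CosetCert.Fi24Index

theorem coset_okAt160000 : allFrom data.checkCoset 160000 500 = true := by decide +kernel

theorem coset_okAt160500 : allFrom data.checkCoset 160500 500 = true := by decide +kernel

theorem coset_okAt161000 : allFrom data.checkCoset 161000 500 = true := by decide +kernel

theorem coset_okAt161500 : allFrom data.checkCoset 161500 500 = true := by decide +kernel

theorem coset_okAt162000 : allFrom data.checkCoset 162000 500 = true := by decide +kernel

theorem coset_okAt162500 : allFrom data.checkCoset 162500 500 = true := by decide +kernel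

theorem coset_okAt163000 : allFrom data.checkCoset 163000 500 = true := by decide +kernel

theorem coset_okAt163500 : allFrom data.checkCoset 163500 500 = true := by decide +kernel

theorem coset_okAt164000 : allFrom data.checkCoset 164000 500 = true := by decide +kernel

theorem coset_okAt164500 : allFrom data.checkCoset 164500 500 = true := by decide +kernel

theorem coset_okAt165000 : allFrom data.checkCoset 165000 500 = true := by decide +kernel

theorem coset_okAt165500 : allFrom data.checkCoset 165500 500 = true := by decide +kernel

theorem coset_okAt166000 : allFrom data.checkCoset 166000 500 = true := by decide +kernel

theorem coset_okAt166500 : allFrom data.checkCoset 166500 500 = true := by decide +kernel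

theorem coset_okAt167000 : allFrom data.checkCoset 167000 500 = true := by decide +kernel

theorem coset_okAt167500 : allFrom data.checkCoset 167500 500 = true := by decide +kernel

theorem coset_okAt168000 : allFrom data.checkCoset 168000 500 = true := by decide +kernel

theorem coset_okAt168500 : allFrom data.checkCoset 168500 500 = true := by decide +kernel

theorem coset_okAt169000 : allFrom data.checkCoset 169000 500 = true := by decide +kernel

theorem coset_okAt169500 : allFrom data.checkCoset 169500 500 = true := by decide +kernel

theorem coset_okAt170000 : allFrom data.checkCoset 170000 500 = true := by decide +kernel

theorem coset_okAt170500 : allFrom data.checkCoset 170500 500 = true := by decide +kernel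

theorem coset_okAt171000 : allFrom data.checkCoset 171000 500 = true := by decide +kernel

theorem coset_okAt171500 : allFrom data.checkCoset 171500 500 = true := by decide +kernel

theorem coset_okAt172000 : allFrom data.checkCoset 172000 500 = true := by decide +kernel

theorem coset_okAt172500 : allFrom data.checkCoset 172500 500 = true := by decide +kernel

theorem coset_okAt173000 : allFrom data.checkCoset 173000 500 = true := by decide +kernel

theorem coset_okAt173500 : allFrom data.checkCoset 173500 500 = true := by decide +kernel

theorem coset_okAt174000 : allFrom data.checkCoset 174000 500 = true := by decide +kernel

theorem coset_okAt174500 : allFrom data.checkCoset 174500 500 = true := by decide +kernel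

theorem coset_okAt175000 : allFrom data.checkCoset 175000 500 = true := by decide +kernel

theorem coset_okAt175500 : allFrom data.checkCoset 175500 500 = true := by decide +kernel

theorem coset_okAt176000 : allFrom data.checkCoset 176000 500 = true := by decide +kernel

theorem coset_okAt176500 : allFrom data.checkCoset 176500 500 = true := by decide +kernel

theorem coset_okAt177000 : allFrom data.checkCoset 177000 500 = true := by decide +kernel

theorem coset_okAt177500 : allFrom data.checkCoset 177500 500 = true := by decide +kernel

theorem coset_okAt178000 : allFrom data.checkCoset 178000 500 = true := by decide +kernel

theorem coset_okAt178500 : allFrom data.checkCoset 178500 500 = true := by decide +kernel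

theorem coset_okAt179000 : allFrom data.checkCoset 179000 500 = true := by decide +kernel

theorem coset_okAt179500 : allFrom data.checkCoset 179500 500 = true := by decide +kernel

end Cfsg.Agent.CosetCert.Fi24Index
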