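import Cfsg.Agent.CosetCert.Fi24Index.Defs

/-! Generated: kernel checks. -/

set_option Elab.async false

namespace Cfsg.Agent.CosetCert.Fi24Index

theorem coset_okAt180000 : allFrom data.checkCoset 180000 500 = true := by decide +kernel

theorem coset_okAt180500 : allFrom data.checkCoset 180500 500 = true := by decide +kernel

theorem coset_okAt181000 : allFrom data.checkCoset 181000 500 = true := by decide +kernel

theorem coset_okAt181500 : allFrom data.checkCoset 181500 500 = true := by decide +kernel

theorem coset_okAt182000 : allFrom data.checkCoset 182000 500 = true := by decide +kernel

theorem coset_okAt182500 : allFrom data.checkCoset 182500 500 = true := by decide +kernel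

theorem coset_okAt183000 : allFrom data.checkCoset 183000 500 = true := by decide +kernel

theorem coset_okAt183500 : allFrom data.checkCoset 183500 500 = true := by decide +kernel

theorem coset_okAt184000 : allFrom data.checkCoset 184000 500 = true := by decide +kernel

theorem coset_okAt184500 : allFrom data.checkCoset 184500 500 = true := by decide +kernel

theorem coset_okAt185000 : allFrom data.checkCoset 185000 500 = true := by decide +kernel

theorem coset_okAt185500 : allFrom data.checkCoset 185500 500 = true := by decide +kernel

theorem coset_okAt186000 : allFrom data.checkCoset 186000 500 = true := by decide +kernel

theorem coset_okAt186500 : allFrom data.checkCoset 186500 500 = true := by decide +kernel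

theorem coset_okAt187000 : allFrom data.checkCoset 187000 500 = true := by decide +kernel

theorem coset_okAt187500 : allFrom data.checkCoset 187500 500 = true := by decide +kernel

theorem coset_okAt188000 : allFrom data.checkCoset 188000 500 = true := by decide +kernel

theorem coset_okAt188500 : allFrom data.checkCoset 188500 500 = true := by decide +kernel

theorem coset_okAt189000 : allFrom data.checkCoset 189000 500 = true := by decide +kernel

theorem coset_okAt189500 : allFrom data.checkCoset 189500 500 = true := by decide +kernel

theorem coset_okAt190000 : allFrom data.checkCoset 190000 500 = true := by decide +kernel

theorem coset_okAt190500 : allFrom data.checkCoset 190500 500 = true := by decide +kernel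

theorem coset_okAt191000 : allFrom data.checkCoset 191000 500 = true := by decide +kernel

theorem coset_okAt191500 : allFrom data.checkCoset 191500 500 = true := by decide +kernel

theorem coset_okAt192000 : allFrom data.checkCoset 192000 500 = true := by decide +kernel

theorem coset_okAt192500 : allFrom data.checkCoset 192500 500 = true := by decide +kernel

theorem coset_okAt193000 : allFrom data.checkCoset 193000 500 = true := by decide +kernel

theorem coset_okAt193500 : allFrom data.checkCoset 193500 500 = true := by decide +kernel

theorem coset_okAt194000 : allFrom data.checkCoset 194000 500 = true := by decide +kernel

theorem coset_okAt194500 : allFrom data.checkCoset 194500 500 = true := by decide +kernel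

theorem coset_okAt195000 : allFrom data.checkCoset 195000 500 = true := by decide +kernel

theorem coset_okAt195500 : allFrom data.checkCoset 195500 500 = true := by decide +kernel

theorem coset_okAt196000 : allFrom data.checkCoset 196000 500 = true := by decide +kernel

theorem coset_okAt196500 : allFrom data.checkCoset 196500 500 = true := by decide +kernel

theorem coset_okAt197000 : allFrom data.checkCoset 197000 500 = true := by decide +kernel

theorem coset_okAt197500 : allFrom data.checkCoset 197500 500 = true := by decide +kernel

theorem coset_okAt198000 : allFrom data.checkCoset 198000 500 = true := by decide +kernel

theorem coset_okAt198500 : allFrom data.checkCoset 198500 500 = true := by decide +kernel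

theorem coset_okAt199000 : allFrom data.checkCoset 199000 500 = true := by decide +kernel

theorem coset_okAt199500 : allFrom data.checkCoset 199500 500 = true := by decide +kernel

end Cfsg.Agent.CosetCert.Fi24Index
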