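import Cfsg.Agent.CosetCert.Fi24Index.Defs

/-! Generated: kernel checks. -/

set_option Elab.async false

namespace Cfsg.Agent.CosetCert.Fi24Index

theorem tail_okAt32000 : allFrom (data.checkTail coxeter (get48 coxeterStore) 9 11) 32000 1000 = true := by decide +kernel

theorem tail_okAt33000 : allFrom (data.checkTail coxeter (get48 coxeterStore) 9 11) 33000 1000 = true := by decide +kernel

theorem tail_okAt34000 : allFrom (data.checkTail coxeter (get48 coxeterStore) 9 11) 34000 1000 = true := by decide +kernel

theorem tail_okAt35000 : allFrom (data.checkTail coxeter (get48 coxeterStore) 9 11) 35000 1000 = true := by decide +kernel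

theorem tail_okAt36000 : allFrom (data.checkTail coxeter (get48 coxeterStore) 9 11) 36000 1000 = true := by decide +kernel

theorem tail_okAt37000 : allFrom (data.checkTail coxeter (get48 coxeterStore) 9 11) 37000 1000 = true := by decide +kernel

theorem tail_okAt38000 : allFrom (data.checkTail coxeter (get48 coxeterStore) 9 11) 38000 1000 = true := by decide +kernel

theorem tail_okAt39000 : allFrom (data.checkTail coxeter (get48 coxeterStore) 9 11) 39000 1000 = true := by decide +kernel

theorem tail_okAt40000 : allFrom (data.checkTail coxeter (get48 coxeterStore) 9 11) 40000 1000 = true := by decide +kernel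

theorem tail_okAt41000 : allFrom (data.checkTail coxeter (get48 coxeterStore) 9 11) 41000 1000 = true := by decide +kernel

theorem tail_okAt42000 : allFrom (data.checkTail coxeter (get48 coxeterStore) 9 11) 42000 1000 = true := by decide +kernel

theorem tail_okAt43000 : allFrom (data.checkTail coxeter (get48 coxeterStore) 9 11) 43000 1000 = true := by decide +kernel

theorem tail_okAt44000 : allFrom (data.checkTail coxeter (get48 coxeterStore) 9 11) 44000 1000 = true := by decide +kernel

theorem tail_okAt45000 : allFrom (data.checkTail coxeter (get48 coxeterStore) 9 11) 45000 1000 = true := by decide +kernel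

theorem tail_okAt46000 : allFrom (data.checkTail coxeter (get48 coxeterStore) 9 11) 46000 1000 = true := by decide +kernel

theorem tail_okAt47000 : allFrom (data.checkTail coxeter (get48 coxeterStore) 9 11) 47000 1000 = true := by decide +kernel

theorem tail_okAt48000 : allFrom (data.checkTail coxeter (get48 coxeterStore) 9 11) 48000 1000 = true := by decide +kernel

theorem tail_okAt49000 : allFrom (data.checkTail coxeter (get48 coxeterStore) 9 11) 49000 1000 = true := by decide +kernel

theorem tail_okAt50000 : allFrom (data.checkTail coxeter (get48 coxeterStore) 9 11) 50000 1000 = true := by decide +kernel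

theorem tail_okAt51000 : allFrom (data.checkTail coxeter (get48 coxeterStore) 9 11) 51000 1000 = true := by decide +kernel

theorem tail_okAt52000 : allFrom (data.checkTail coxeter (get48 coxeterStore) 9 11) 52000 1000 = true := by decide +kernel

theorem tail_okAt53000 : allFrom (data.checkTail coxeter (get48 coxeterStore) 9 11) 53000 1000 = true := by decide +kernel

theorem tail_okAt54000 : allFrom (data.checkTail coxeter (get48 coxeterStore) 9 11) 54000 1000 = true := by decide +kernel

theorem tail_okAt55000 : allFrom (data.checkTail coxeter (get48 coxeterStore) 9 11) 55000 1000 = true := by decide +kernel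

theorem tail_okAt56000 : allFrom (data.checkTail coxeter (get48 coxeterStore) 9 11) 56000 1000 = true := by decide +kernel

theorem tail_okAt57000 : allFrom (data.checkTail coxeter (get48 coxeterStore) 9 11) 57000 1000 = true := by decide +kernel

theorem tail_okAt58000 : allFrom (data.checkTail coxeter (get48 coxeterStore) 9 11) 58000 1000 = true := by decide +kernel

theorem tail_okAt59000 : allFrom (data.checkTail coxeter (get48 coxeterStore) 9 11) 59000 1000 = true := by decide +kernel

theorem tail_okAt60000 : allFrom (data.checkTail coxeter (get48 coxeterStore) 9 11) 60000 1000 = true := by decide +kernel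

theorem tail_okAt61000 : allFrom (data.checkTail coxeter (get48 coxeterStore) 9 11) 61000 1000 = true := by decide +kernel

theorem tail_okAt62000 : allFrom (data.checkTail coxeter (get48 coxeterStore) 9 11) 62000 1000 = true := by decide +kernel

theorem tail_okAt63000 : allFrom (data.checkTail coxeter (get48 coxeterStore) 9 11) 63000 1000 = true := by decide +kernel

end Cfsg.Agent.CosetCert.Fi24Index
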