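import Cfsg.Agent.CosetCert.Fi24Index.Defs

/-! Generated: kernel checks. -/

set_option Elab.async false

namespace Cfsg.Agent.CosetCert.Fi24Index

theorem tail_okAt64000 : allFrom (data.checkTail coxeter (get48 coxeterStore) 9 11) 64000 1000 = true := by decide +kernel

theorem tail_okAt65000 : allFrom (data.checkTail coxeter (get48 coxeterStore) 9 11) 65000 1000 = true := by decide +kernel

theorem tail_okAt66000 : allFrom (data.checkTail coxeter (get48 coxeterStore) 9 11) 66000 1000 = true := by decide +kernel

theorem tail_okAt67000 : allFrom (data.checkTail coxeter (get48 coxeterStore) 9 11) 67000 1000 = true := by decide +kernel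

theorem tail_okAt68000 : allFrom (data.checkTail coxeter (get48 coxeterStore) 9 11) 68000 1000 = true := by decide +kernel

theorem tail_okAt69000 : allFrom (data.checkTail coxeter (get48 coxeterStore) 9 11) 69000 1000 = true := by decide +kernel

theorem tail_okAt70000 : allFrom (data.checkTail coxeter (get48 coxeterStore) 9 11) 70000 1000 = true := by decide +kernel

theorem tail_okAt71000 : allFrom (data.checkTail coxeter (get48 coxeterStore) 9 11) 71000 1000 = true := by decide +kernel

theorem tail_okAt72000 : allFrom (data.checkTail coxeter (get48 coxeterStore) 9 11) 72000 1000 = true := by decide +kernel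

theorem tail_okAt73000 : allFrom (data.checkTail coxeter (get48 coxeterStore) 9 11) 73000 1000 = true := by decide +kernel

theorem tail_okAt74000 : allFrom (data.checkTail coxeter (get48 coxeterStore) 9 11) 74000 1000 = true := by decide +kernel

theorem tail_okAt75000 : allFrom (data.checkTail coxeter (get48 coxeterStore) 9 11) 75000 1000 = true := by decide +kernel

theorem tail_okAt76000 : allFrom (data.checkTail coxeter (get48 coxeterStore) 9 11) 76000 1000 = true := by decide +kernel

theorem tail_okAt77000 : allFrom (data.checkTail coxeter (get48 coxeterStore) 9 11) 77000 1000 = true := by decide +kernel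

theorem tail_okAt78000 : allFrom (data.checkTail coxeter (get48 coxeterStore) 9 11) 78000 1000 = true := by decide +kernel

theorem tail_okAt79000 : allFrom (data.checkTail coxeter (get48 coxeterStore) 9 11) 79000 1000 = true := by decide +kernel

theorem tail_okAt80000 : allFrom (data.checkTail coxeter (get48 coxeterStore) 9 11) 80000 1000 = true := by decide +kernel

theorem tail_okAt81000 : allFrom (data.checkTail coxeter (get48 coxeterStore) 9 11) 81000 1000 = true := by decide +kernel

theorem tail_okAt82000 : allFrom (data.checkTail coxeter (get48 coxeterStore) 9 11) 82000 1000 = true := by decide +kernel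

theorem tail_okAt83000 : allFrom (data.checkTail coxeter (get48 coxeterStore) 9 11) 83000 1000 = true := by decide +kernel

theorem tail_okAt84000 : allFrom (data.checkTail coxeter (get48 coxeterStore) 9 11) 84000 1000 = true := by decide +kernel

theorem tail_okAt85000 : allFrom (data.checkTail coxeter (get48 coxeterStore) 9 11) 85000 1000 = true := by decide +kernel

theorem tail_okAt86000 : allFrom (data.checkTail coxeter (get48 coxeterStore) 9 11) 86000 1000 = true := by decide +kernel

theorem tail_okAt87000 : allFrom (data.checkTail coxeter (get48 coxeterStore) 9 11) 87000 1000 = true := by decide +kernel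

theorem tail_okAt88000 : allFrom (data.checkTail coxeter (get48 coxeterStore) 9 11) 88000 1000 = true := by decide +kernel

theorem tail_okAt89000 : allFrom (data.checkTail coxeter (get48 coxeterStore) 9 11) 89000 1000 = true := by decide +kernel

theorem tail_okAt90000 : allFrom (data.checkTail coxeter (get48 coxeterStore) 9 11) 90000 1000 = true := by decide +kernel

theorem tail_okAt91000 : allFrom (data.checkTail coxeter (get48 coxeterStore) 9 11) 91000 1000 = true := by decide +kernel

theorem tail_okAt92000 : allFrom (data.checkTail coxeter (get48 coxeterStore) 9 11) 92000 1000 = true := by decide +kernel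

theorem tail_okAt93000 : allFrom (data.checkTail coxeter (get48 coxeterStore) 9 11) 93000 1000 = true := by decide +kernel

theorem tail_okAt94000 : allFrom (data.checkTail coxeter (get48 coxeterStore) 9 11) 94000 1000 = true := by decide +kernel

theorem tail_okAt95000 : allFrom (data.checkTail coxeter (get48 coxeterStore) 9 11) 95000 1000 = true := by decide +kernel

end Cfsg.Agent.CosetCert.Fi24Index
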