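import Cfsg.Agent.CosetCert.Fi24Index.Defs

/-! Generated: kernel checks. -/

set_option Elab.async false

namespace Cfsg.Agent.CosetCert.Fi24Index

theorem tail_okAt128000 : allFrom (data.checkTail coxeter (get48 coxeterStore) 9 11) 128000 1000 = true := by decide +kernel

theorem tail_okAt129000 : allFrom (data.checkTail coxeter (get48 coxeterStore) 9 11) 129000 1000 = true := by decide +kernel

theorem tail_okAt130000 : allFrom (data.checkTail coxeter (get48 coxeterStore) 9 11) 130000 1000 = true := by decide +kernel

theorem tail_okAt131000 : allFrom (data.checkTail coxeter (get48 coxeterStore) 9 11) 131000 1000 = true := by decide +kernel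

theorem tail_okAt132000 : allFrom (data.checkTail coxeter (get48 coxeterStore) 9 11) 132000 1000 = true := by decide +kernel

theorem tail_okAt133000 : allFrom (data.checkTail coxeter (get48 coxeterStore) 9 11) 133000 1000 = true := by decide +kernel

theorem tail_okAt134000 : allFrom (data.checkTail coxeter (get48 coxeterStore) 9 11) 134000 1000 = true := by decide +kernel

theorem tail_okAt135000 : allFrom (data.checkTail coxeter (get48 coxeterStore) 9 11) 135000 1000 = true := by decide +kernel

theorem tail_okAt136000 : allFrom (data.checkTail coxeter (get48 coxeterStore) 9 11) 136000 1000 = true := by decide +kernel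

theorem tail_okAt137000 : allFrom (data.checkTail coxeter (get48 coxeterStore) 9 11) 137000 1000 = true := by decide +kernel

theorem tail_okAt138000 : allFrom (data.checkTail coxeter (get48 coxeterStore) 9 11) 138000 1000 = true := by decide +kernel

theorem tail_okAt139000 : allFrom (data.checkTail coxeter (get48 coxeterStore) 9 11) 139000 1000 = true := by decide +kernel

theorem tail_okAt140000 : allFrom (data.checkTail coxeter (get48 coxeterStore) 9 11) 140000 1000 = true := by decide +kernel

theorem tail_okAt141000 : allFrom (data.checkTail coxeter (get48 coxeterStore) 9 11) 141000 1000 = true := by decide +kernel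

theorem tail_okAt142000 : allFrom (data.checkTail coxeter (get48 coxeterStore) 9 11) 142000 1000 = true := by decide +kernel

theorem tail_okAt143000 : allFrom (data.checkTail coxeter (get48 coxeterStore) 9 11) 143000 1000 = true := by decide +kernel

theorem tail_okAt144000 : allFrom (data.checkTail coxeter (get48 coxeterStore) 9 11) 144000 1000 = true := by decide +kernel

theorem tail_okAt145000 : allFrom (data.checkTail coxeter (get48 coxeterStore) 9 11) 145000 1000 = true := by decide +kernel

theorem tail_okAt146000 : allFrom (data.checkTail coxeter (get48 coxeterStore) 9 11) 146000 1000 = true := by decide +kernel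

theorem tail_okAt147000 : allFrom (data.checkTail coxeter (get48 coxeterStore) 9 11) 147000 1000 = true := by decide +kernel

theorem tail_okAt148000 : allFrom (data.checkTail coxeter (get48 coxeterStore) 9 11) 148000 1000 = true := by decide +kernel

theorem tail_okAt149000 : allFrom (data.checkTail coxeter (get48 coxeterStore) 9 11) 149000 1000 = true := by decide +kernel

theorem tail_okAt150000 : allFrom (data.checkTail coxeter (get48 coxeterStore) 9 11) 150000 1000 = true := by decide +kernel

theorem tail_okAt151000 : allFrom (data.checkTail coxeter (get48 coxeterStore) 9 11) 151000 1000 = true := by decide +kernel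

theorem tail_okAt152000 : allFrom (data.checkTail coxeter (get48 coxeterStore) 9 11) 152000 1000 = true := by decide +kernel

theorem tail_okAt153000 : allFrom (data.checkTail coxeter (get48 coxeterStore) 9 11) 153000 1000 = true := by decide +kernel

theorem tail_okAt154000 : allFrom (data.checkTail coxeter (get48 coxeterStore) 9 11) 154000 1000 = true := by decide +kernel

theorem tail_okAt155000 : allFrom (data.checkTail coxeter (get48 coxeterStore) 9 11) 155000 1000 = true := by decide +kernel

theorem tail_okAt156000 : allFrom (data.checkTail coxeter (get48 coxeterStore) 9 11) 156000 1000 = true := by decide +kernel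

theorem tail_okAt157000 : allFrom (data.checkTail coxeter (get48 coxeterStore) 9 11) 157000 1000 = true := by decide +kernel

theorem tail_okAt158000 : allFrom (data.checkTail coxeter (get48 coxeterStore) 9 11) 158000 1000 = true := by decide +kernel

theorem tail_okAt159000 : allFrom (data.checkTail coxeter (get48 coxeterStore) 9 11) 159000 1000 = true := by decide +kernel

end Cfsg.Agent.CosetCert.Fi24Index
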