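import Cfsg.Agent.CosetCert.Fi24Index.Defs

/-! Generated: kernel checks. -/

set_option Elab.async false

namespace Cfsg.Agent.CosetCert.Fi24Index

theorem tail_okAt160000 : allFrom (data.checkTail coxeter (get48 coxeterStore) 9 11) 160000 1000 = true := by decide +kernel

theorem tail_okAt161000 : allFrom (data.checkTail coxeter (get48 coxeterStore) 9 11) 161000 1000 = true := by decide +kernel

theorem tail_okAt162000 : allFrom (data.checkTail coxeter (get48 coxeterStore) 9 11) 162000 1000 = true := by decide +kernel

theorem tail_okAt163000 : allFrom (data.checkTail coxeter (get48 coxeterStore) 9 11) 163000 1000 = true := by decide +kernel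

theorem tail_okAt164000 : allFrom (data.checkTail coxeter (get48 coxeterStore) 9 11) 164000 1000 = true := by decide +kernel

theorem tail_okAt165000 : allFrom (data.checkTail coxeter (get48 coxeterStore) 9 11) 165000 1000 = true := by decide +kernel

theorem tail_okAt166000 : allFrom (data.checkTail coxeter (get48 coxeterStore) 9 11) 166000 1000 = true := by decide +kernel

theorem tail_okAt167000 : allFrom (data.checkTail coxeter (get48 coxeterStore) 9 11) 167000 1000 = true := by decide +kernel

theorem tail_okAt168000 : allFrom (data.checkTail coxeter (get48 coxeterStore) 9 11) 168000 1000 = true := by decide +kernel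

theorem tail_okAt169000 : allFrom (data.checkTail coxeter (get48 coxeterStore) 9 11) 169000 1000 = true := by decide +kernel

theorem tail_okAt170000 : allFrom (data.checkTail coxeter (get48 coxeterStore) 9 11) 170000 1000 = true := by decide +kernel

theorem tail_okAt171000 : allFrom (data.checkTail coxeter (get48 coxeterStore) 9 11) 171000 1000 = true := by decide +kernel

theorem tail_okAt172000 : allFrom (data.checkTail coxeter (get48 coxeterStore) 9 11) 172000 1000 = true := by decide +kernel

theorem tail_okAt173000 : allFrom (data.checkTail coxeter (get48 coxeterStore) 9 11) 173000 1000 = true := by decide +kernel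

theorem tail_okAt174000 : allFrom (data.checkTail coxeter (get48 coxeterStore) 9 11) 174000 1000 = true := by decide +kernel

theorem tail_okAt175000 : allFrom (data.checkTail coxeter (get48 coxeterStore) 9 11) 175000 1000 = true := by decide +kernel

theorem tail_okAt176000 : allFrom (data.checkTail coxeter (get48 coxeterStore) 9 11) 176000 1000 = true := by decide +kernel

theorem tail_okAt177000 : allFrom (data.checkTail coxeter (get48 coxeterStore) 9 11) 177000 1000 = true := by decide +kernel

theorem tail_okAt178000 : allFrom (data.checkTail coxeter (get48 coxeterStore) 9 11) 178000 1000 = true := by decide +kernel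

theorem tail_okAt179000 : allFrom (data.checkTail coxeter (get48 coxeterStore) 9 11) 179000 1000 = true := by decide +kernel

theorem tail_okAt180000 : allFrom (data.checkTail coxeter (get48 coxeterStore) 9 11) 180000 1000 = true := by decide +kernel

theorem tail_okAt181000 : allFrom (data.checkTail coxeter (get48 coxeterStore) 9 11) 181000 1000 = true := by decide +kernel

theorem tail_okAt182000 : allFrom (data.checkTail coxeter (get48 coxeterStore) 9 11) 182000 1000 = true := by decide +kernel

theorem tail_okAt183000 : allFrom (data.checkTail coxeter (get48 coxeterStore) 9 11) 183000 1000 = true := by decide +kernel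

theorem tail_okAt184000 : allFrom (data.checkTail coxeter (get48 coxeterStore) 9 11) 184000 1000 = true := by decide +kernel

theorem tail_okAt185000 : allFrom (data.checkTail coxeter (get48 coxeterStore) 9 11) 185000 1000 = true := by decide +kernel

theorem tail_okAt186000 : allFrom (data.checkTail coxeter (get48 coxeterStore) 9 11) 186000 1000 = true := by decide +kernel

theorem tail_okAt187000 : allFrom (data.checkTail coxeter (get48 coxeterStore) 9 11) 187000 1000 = true := by decide +kernel

theorem tail_okAt188000 : allFrom (data.checkTail coxeter (get48 coxeterStore) 9 11) 188000 1000 = true := by decide +kernel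

theorem tail_okAt189000 : allFrom (data.checkTail coxeter (get48 coxeterStore) 9 11) 189000 1000 = true := by decide +kernel

theorem tail_okAt190000 : allFrom (data.checkTail coxeter (get48 coxeterStore) 9 11) 190000 1000 = true := by decide +kernel

theorem tail_okAt191000 : allFrom (data.checkTail coxeter (get48 coxeterStore) 9 11) 191000 1000 = true := by decide +kernel

end Cfsg.Agent.CosetCert.Fi24Index
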