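import Cfsg.Agent.CosetCert.Fi24Index.Defs

/-! Generated: kernel checks. -/

set_option Elab.async false

namespace Cfsg.Agent.CosetCert.Fi24Index

theorem tail_okAt192000 : allFrom (data.checkTail coxeter (get48 coxeterStore) 9 11) 192000 1000 = true := by decide +kernel

theorem tail_okAt193000 : allFrom (data.checkTail coxeter (get48 coxeterStore) 9 11) 193000 1000 = true := by decide +kernel

theorem tail_okAt194000 : allFrom (data.checkTail coxeter (get48 coxeterStore) 9 11) 194000 1000 = true := by decide +kernel

theorem tail_okAt195000 : allFrom (data.checkTail coxeter (get48 coxeterStore) 9 11) 195000 1000 = true := by decide +kernel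

theorem tail_okAt196000 : allFrom (data.checkTail coxeter (get48 coxeterStore) 9 11) 196000 1000 = true := by decide +kernel

theorem tail_okAt197000 : allFrom (data.checkTail coxeter (get48 coxeterStore) 9 11) 197000 1000 = true := by decide +kernel

theorem tail_okAt198000 : allFrom (data.checkTail coxeter (get48 coxeterStore) 9 11) 198000 1000 = true := by decide +kernel

theorem tail_okAt199000 : allFrom (data.checkTail coxeter (get48 coxeterStore) 9 11) 199000 1000 = true := by decide +kernel

theorem tail_okAt200000 : allFrom (data.checkTail coxeter (get48 coxeterStore) 9 11) 200000 1000 = true := by decide +kernel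

theorem tail_okAt201000 : allFrom (data.checkTail coxeter (get48 coxeterStore) 9 11) 201000 1000 = true := by decide +kernel

theorem tail_okAt202000 : allFrom (data.checkTail coxeter (get48 coxeterStore) 9 11) 202000 1000 = true := by decide +kernel

theorem tail_okAt203000 : allFrom (data.checkTail coxeter (get48 coxeterStore) 9 11) 203000 1000 = true := by decide +kernel

theorem tail_okAt204000 : allFrom (data.checkTail coxeter (get48 coxeterStore) 9 11) 204000 1000 = true := by decide +kernel

theorem tail_okAt205000 : allFrom (data.checkTail coxeter (get48 coxeterStore) 9 11) 205000 1000 = true := by decide +kernel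

theorem tail_okAt206000 : allFrom (data.checkTail coxeter (get48 coxeterStore) 9 11) 206000 1000 = true := by decide +kernel

theorem tail_okAt207000 : allFrom (data.checkTail coxeter (get48 coxeterStore) 9 11) 207000 1000 = true := by decide +kernel

theorem tail_okAt208000 : allFrom (data.checkTail coxeter (get48 coxeterStore) 9 11) 208000 1000 = true := by decide +kernel

theorem tail_okAt209000 : allFrom (data.checkTail coxeter (get48 coxeterStore) 9 11) 209000 1000 = true := by decide +kernel

theorem tail_okAt210000 : allFrom (data.checkTail coxeter (get48 coxeterStore) 9 11) 210000 1000 = true := by decide +kernel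

theorem tail_okAt211000 : allFrom (data.checkTail coxeter (get48 coxeterStore) 9 11) 211000 1000 = true := by decide +kernel

theorem tail_okAt212000 : allFrom (data.checkTail coxeter (get48 coxeterStore) 9 11) 212000 1000 = true := by decide +kernel

theorem tail_okAt213000 : allFrom (data.checkTail coxeter (get48 coxeterStore) 9 11) 213000 1000 = true := by decide +kernel

theorem tail_okAt214000 : allFrom (data.checkTail coxeter (get48 coxeterStore) 9 11) 214000 1000 = true := by decide +kernel

theorem tail_okAt215000 : allFrom (data.checkTail coxeter (get48 coxeterStore) 9 11) 215000 1000 = true := by decide +kernel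

theorem tail_okAt216000 : allFrom (data.checkTail coxeter (get48 coxeterStore) 9 11) 216000 1000 = true := by decide +kernel

theorem tail_okAt217000 : allFrom (data.checkTail coxeter (get48 coxeterStore) 9 11) 217000 1000 = true := by decide +kernel

theorem tail_okAt218000 : allFrom (data.checkTail coxeter (get48 coxeterStore) 9 11) 218000 1000 = true := by decide +kernel

theorem tail_okAt219000 : allFrom (data.checkTail coxeter (get48 coxeterStore) 9 11) 219000 1000 = true := by decide +kernel

theorem tail_okAt220000 : allFrom (data.checkTail coxeter (get48 coxeterStore) 9 11) 220000 1000 = true := by decide +kernel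

theorem tail_okAt221000 : allFrom (data.checkTail coxeter (get48 coxeterStore) 9 11) 221000 1000 = true := by decide +kernel

theorem tail_okAt222000 : allFrom (data.checkTail coxeter (get48 coxeterStore) 9 11) 222000 1000 = true := by decide +kernel

theorem tail_okAt223000 : allFrom (data.checkTail coxeter (get48 coxeterStore) 9 11) 223000 1000 = true := by decide +kernel

end Cfsg.Agent.CosetCert.Fi24Index
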