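import Cfsg.Agent.CosetCert.Fi24Index.Defs

/-! Generated: kernel checks. -/

set_option Elab.async false

namespace Cfsg.Agent.CosetCert.Fi24Index

theorem tail_okAt224000 : allFrom (data.checkTail coxeter (get48 coxeterStore) 9 11) 224000 1000 = true := by decide +kernel

theorem tail_okAt225000 : allFrom (data.checkTail coxeter (get48 coxeterStore) 9 11) 225000 1000 = true := by decide +kernel

theorem tail_okAt226000 : allFrom (data.checkTail coxeter (get48 coxeterStore) 9 11) 226000 1000 = true := by decide +kernel

theorem tail_okAt227000 : allFrom (data.checkTail coxeter (get48 coxeterStore) 9 11) 227000 1000 = true := by decide +kernel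

theorem tail_okAt228000 : allFrom (data.checkTail coxeter (get48 coxeterStore) 9 11) 228000 1000 = true := by decide +kernel

theorem tail_okAt229000 : allFrom (data.checkTail coxeter (get48 coxeterStore) 9 11) 229000 1000 = true := by decide +kernel

theorem tail_okAt230000 : allFrom (data.checkTail coxeter (get48 coxeterStore) 9 11) 230000 1000 = true := by decide +kernel

theorem tail_okAt231000 : allFrom (data.checkTail coxeter (get48 coxeterStore) 9 11) 231000 1000 = true := by decide +kernel

theorem tail_okAt232000 : allFrom (data.checkTail coxeter (get48 coxeterStore) 9 11) 232000 1000 = true := by decide +kernel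

theorem tail_okAt233000 : allFrom (data.checkTail coxeter (get48 coxeterStore) 9 11) 233000 1000 = true := by decide +kernel

theorem tail_okAt234000 : allFrom (data.checkTail coxeter (get48 coxeterStore) 9 11) 234000 1000 = true := by decide +kernel

theorem tail_okAt235000 : allFrom (data.checkTail coxeter (get48 coxeterStore) 9 11) 235000 1000 = true := by decide +kernel

theorem tail_okAt236000 : allFrom (data.checkTail coxeter (get48 coxeterStore) 9 11) 236000 1000 = true := by decide +kernel

theorem tail_okAt237000 : allFrom (data.checkTail coxeter (get48 coxeterStore) 9 11) 237000 1000 = true := by decide +kernel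

theorem tail_okAt238000 : allFrom (data.checkTail coxeter (get48 coxeterStore) 9 11) 238000 1000 = true := by decide +kernel

theorem tail_okAt239000 : allFrom (data.checkTail coxeter (get48 coxeterStore) 9 11) 239000 1000 = true := by decide +kernel

theorem tail_okAt240000 : allFrom (data.checkTail coxeter (get48 coxeterStore) 9 11) 240000 1000 = true := by decide +kernel

theorem tail_okAt241000 : allFrom (data.checkTail coxeter (get48 coxeterStore) 9 11) 241000 1000 = true := by decide +kernel

theorem tail_okAt242000 : allFrom (data.checkTail coxeter (get48 coxeterStore) 9 11) 242000 1000 = true := by decide +kernel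

theorem tail_okAt243000 : allFrom (data.checkTail coxeter (get48 coxeterStore) 9 11) 243000 1000 = true := by decide +kernel

theorem tail_okAt244000 : allFrom (data.checkTail coxeter (get48 coxeterStore) 9 11) 244000 1000 = true := by decide +kernel

theorem tail_okAt245000 : allFrom (data.checkTail coxeter (get48 coxeterStore) 9 11) 245000 1000 = true := by decide +kernel

theorem tail_okAt246000 : allFrom (data.checkTail coxeter (get48 coxeterStore) 9 11) 246000 1000 = true := by decide +kernel

theorem tail_okAt247000 : allFrom (data.checkTail coxeter (get48 coxeterStore) 9 11) 247000 1000 = true := by decide +kernel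

theorem tail_okAt248000 : allFrom (data.checkTail coxeter (get48 coxeterStore) 9 11) 248000 1000 = true := by decide +kernel

theorem tail_okAt249000 : allFrom (data.checkTail coxeter (get48 coxeterStore) 9 11) 249000 1000 = true := by decide +kernel

theorem tail_okAt250000 : allFrom (data.checkTail coxeter (get48 coxeterStore) 9 11) 250000 1000 = true := by decide +kernel

theorem tail_okAt251000 : allFrom (data.checkTail coxeter (get48 coxeterStore) 9 11) 251000 1000 = true := by decide +kernel

theorem tail_okAt252000 : allFrom (data.checkTail coxeter (get48 coxeterStore) 9 11) 252000 1000 = true := by decide +kernel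

theorem tail_okAt253000 : allFrom (data.checkTail coxeter (get48 coxeterStore) 9 11) 253000 1000 = true := by decide +kernel

theorem tail_okAt254000 : allFrom (data.checkTail coxeter (get48 coxeterStore) 9 11) 254000 1000 = true := by decide +kernel

theorem tail_okAt255000 : allFrom (data.checkTail coxeter (get48 coxeterStore) 9 11) 255000 1000 = true := by decide +kernel

end Cfsg.Agent.CosetCert.Fi24Index
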