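import Cfsg.Agent.CosetCert.Fi24Index.Defs

/-! Generated: kernel checks. -/

set_option Elab.async false

namespace Cfsg.Agent.CosetCert.Fi24Index

theorem tail_okAt256000 : allFrom (data.checkTail coxeter (get48 coxeterStore) 9 11) 256000 1000 = true := by decide +kernel

theorem tail_okAt257000 : allFrom (data.checkTail coxeter (get48 coxeterStore) 9 11) 257000 1000 = true := by decide +kernel

theorem tail_okAt258000 : allFrom (data.checkTail coxeter (get48 coxeterStore) 9 11) 258000 1000 = true := by decide +kernel

theorem tail_okAt259000 : allFrom (data.checkTail coxeter (get48 coxeterStore) 9 11) 259000 1000 = true := by decide +kernel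

theorem tail_okAt260000 : allFrom (data.checkTail coxeter (get48 coxeterStore) 9 11) 260000 1000 = true := by decide +kernel

theorem tail_okAt261000 : allFrom (data.checkTail coxeter (get48 coxeterStore) 9 11) 261000 1000 = true := by decide +kernel

theorem tail_okAt262000 : allFrom (data.checkTail coxeter (get48 coxeterStore) 9 11) 262000 1000 = true := by decide +kernel

theorem tail_okAt263000 : allFrom (data.checkTail coxeter (get48 coxeterStore) 9 11) 263000 1000 = true := by decide +kernel

theorem tail_okAt264000 : allFrom (data.checkTail coxeter (get48 coxeterStore) 9 11) 264000 1000 = true := by decide +kernel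

theorem tail_okAt265000 : allFrom (data.checkTail coxeter (get48 coxeterStore) 9 11) 265000 1000 = true := by decide +kernel

theorem tail_okAt266000 : allFrom (data.checkTail coxeter (get48 coxeterStore) 9 11) 266000 1000 = true := by decide +kernel

theorem tail_okAt267000 : allFrom (data.checkTail coxeter (get48 coxeterStore) 9 11) 267000 1000 = true := by decide +kernel

theorem tail_okAt268000 : allFrom (data.checkTail coxeter (get48 coxeterStore) 9 11) 268000 1000 = true := by decide +kernel

theorem tail_okAt269000 : allFrom (data.checkTail coxeter (get48 coxeterStore) 9 11) 269000 1000 = true := by decide +kernel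

theorem tail_okAt270000 : allFrom (data.checkTail coxeter (get48 coxeterStore) 9 11) 270000 1000 = true := by decide +kernel

theorem tail_okAt271000 : allFrom (data.checkTail coxeter (get48 coxeterStore) 9 11) 271000 1000 = true := by decide +kernel

theorem tail_okAt272000 : allFrom (data.checkTail coxeter (get48 coxeterStore) 9 11) 272000 1000 = true := by decide +kernel

theorem tail_okAt273000 : allFrom (data.checkTail coxeter (get48 coxeterStore) 9 11) 273000 1000 = true := by decide +kernel

theorem tail_okAt274000 : allFrom (data.checkTail coxeter (get48 coxeterStore) 9 11) 274000 1000 = true := by decide +kernel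

theorem tail_okAt275000 : allFrom (data.checkTail coxeter (get48 coxeterStore) 9 11) 275000 1000 = true := by decide +kernel

theorem tail_okAt276000 : allFrom (data.checkTail coxeter (get48 coxeterStore) 9 11) 276000 1000 = true := by decide +kernel

theorem tail_okAt277000 : allFrom (data.checkTail coxeter (get48 coxeterStore) 9 11) 277000 1000 = true := by decide +kernel

theorem tail_okAt278000 : allFrom (data.checkTail coxeter (get48 coxeterStore) 9 11) 278000 1000 = true := by decide +kernel

theorem tail_okAt279000 : allFrom (data.checkTail coxeter (get48 coxeterStore) 9 11) 279000 1000 = true := by decide +kernel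

theorem tail_okAt280000 : allFrom (data.checkTail coxeter (get48 coxeterStore) 9 11) 280000 1000 = true := by decide +kernel

theorem tail_okAt281000 : allFrom (data.checkTail coxeter (get48 coxeterStore) 9 11) 281000 1000 = true := by decide +kernel

theorem tail_okAt282000 : allFrom (data.checkTail coxeter (get48 coxeterStore) 9 11) 282000 1000 = true := by decide +kernel

theorem tail_okAt283000 : allFrom (data.checkTail coxeter (get48 coxeterStore) 9 11) 283000 1000 = true := by decide +kernel

theorem tail_okAt284000 : allFrom (data.checkTail coxeter (get48 coxeterStore) 9 11) 284000 1000 = true := by decide +kernel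

theorem tail_okAt285000 : allFrom (data.checkTail coxeter (get48 coxeterStore) 9 11) 285000 1000 = true := by decide +kernel

theorem tail_okAt286000 : allFrom (data.checkTail coxeter (get48 coxeterStore) 9 11) 286000 1000 = true := by decide +kernel

theorem tail_okAt287000 : allFrom (data.checkTail coxeter (get48 coxeterStore) 9 11) 287000 1000 = true := by decide +kernel

end Cfsg.Agent.CosetCert.Fi24Index
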