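import Cfsg.Agent.CosetCert.Fi24Index.Defs

/-! Generated: kernel checks. -/

set_option Elab.async false

namespace Cfsg.Agent.CosetCert.Fi24Index

theorem tail_okAt288000 : allFrom (data.checkTail coxeter (get48 coxeterStore) 9 11) 288000 1000 = true := by decide +kernel

theorem tail_okAt289000 : allFrom (data.checkTail coxeter (get48 coxeterStore) 9 11) 289000 1000 = true := by decide +kernel

theorem tail_okAt290000 : allFrom (data.checkTail coxeter (get48 coxeterStore) 9 11) 290000 1000 = true := by decide +kernel

theorem tail_okAt291000 : allFrom (data.checkTail coxeter (get48 coxeterStore) 9 11) 291000 1000 = true := by decide +kernel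

theorem tail_okAt292000 : allFrom (data.checkTail coxeter (get48 coxeterStore) 9 11) 292000 1000 = true := by decide +kernel

theorem tail_okAt293000 : allFrom (data.checkTail coxeter (get48 coxeterStore) 9 11) 293000 1000 = true := by decide +kernel

theorem tail_okAt294000 : allFrom (data.checkTail coxeter (get48 coxeterStore) 9 11) 294000 1000 = true := by decide +kernel

theorem tail_okAt295000 : allFrom (data.checkTail coxeter (get48 coxeterStore) 9 11) 295000 1000 = true := by decide +kernel

theorem tail_okAt296000 : allFrom (data.checkTail coxeter (get48 coxeterStore) 9 11) 296000 1000 = true := by decide +kernel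

theorem tail_okAt297000 : allFrom (data.checkTail coxeter (get48 coxeterStore) 9 11) 297000 1000 = true := by decide +kernel

theorem tail_okAt298000 : allFrom (data.checkTail coxeter (get48 coxeterStore) 9 11) 298000 1000 = true := by decide +kernel

theorem tail_okAt299000 : allFrom (data.checkTail coxeter (get48 coxeterStore) 9 11) 299000 1000 = true := by decide +kernel

theorem tail_okAt300000 : allFrom (data.checkTail coxeter (get48 coxeterStore) 9 11) 300000 1000 = true := by decide +kernel

theorem tail_okAt301000 : allFrom (data.checkTail coxeter (get48 coxeterStore) 9 11) 301000 1000 = true := by decide +kernel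

theorem tail_okAt302000 : allFrom (data.checkTail coxeter (get48 coxeterStore) 9 11) 302000 1000 = true := by decide +kernel

theorem tail_okAt303000 : allFrom (data.checkTail coxeter (get48 coxeterStore) 9 11) 303000 1000 = true := by decide +kernel

theorem tail_okAt304000 : allFrom (data.checkTail coxeter (get48 coxeterStore) 9 11) 304000 1000 = true := by decide +kernel

theorem tail_okAt305000 : allFrom (data.checkTail coxeter (get48 coxeterStore) 9 11) 305000 1000 = true := by decide +kernel

theorem tail_okAt306000 : allFrom (data.checkTail coxeter (get48 coxeterStore) 9 11) 306000 936 = true := by decide +kernel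

end Cfsg.Agent.CosetCert.Fi24Index
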