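import Cfsg.Agent.CosetCert.Fi24Index.CheckTail0
import Cfsg.Agent.CosetCert.Fi24Index.CheckTail1
import Cfsg.Agent.CosetCert.Fi24Index.CheckTail2
import Cfsg.Agent.CosetCert.Fi24Index.CheckTail3
import Cfsg.Agent.CosetCert.Fi24Index.CheckTail4
import Cfsg.Agent.CosetCert.Fi24Index.CheckTail5
import Cfsg.Agent.CosetCert.Fi24Index.CheckTail6
import Cfsg.Agent.CosetCert.Fi24Index.CheckTail7
import Cfsg.Agent.CosetCert.Fi24Index.CheckTail8
import Cfsg.Agent.CosetCert.Fi24Index.CheckTail9

/-! Generated: kernel checks combined. -/

set_option maxRecDepth 100000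

namespace Cfsg.Agent.CosetCert.Fi24Index

theorem tail_ok : ∀ i, i < 306936 → (data.checkTail coxeter (get48 coxeterStore) 9 11) i = true := by
  have h0 : ∀ i, i < 0 → (data.checkTail coxeter (get48 coxeterStore) 9 11) i = true := forall_lt_zero
  have h1 := forall_lt_step (b := 1000) h0 tail_okAt0 rfl
  have h2 := forall_lt_step (b := 2000) h1 tail_okAt1000 rfl
  have h3 := forall_lt_step (b := 3000) h2 tail_okAt2000 rfl
  have h4 := forall_lt_step (b := 4000) h3 tail_okAt3000 rfl
  have h5 := forall_lt_step (b := 5000) h4 tail_okAt4000 rfl
  have h6 := forall_lt_step (b := 6000) h5 tail_okAt5000 rfl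
  have h7 := forall_lt_step (b := 7000) h6 tail_okAt6000 rfl
  have h8 := forall_lt_step (b := 8000) h7 tail_okAt7000 rfl
  have h9 := forall_lt_step (b := 9000) h8 tail_okAt8000 rfl
  have h10 := forall_lt_step (b := 10000) h9 tail_okAt9000 rfl
  have h11 := forall_lt_step (b := 11000) h10 tail_okAt10000 rfl
  have h12 := forall_lt_step (b := 12000) h11 tail_okAt11000 rfl
  have h13 := forall_lt_step (b := 13000) h12 tail_okAt12000 rfl
  have h14 := forall_lt_step (b := 14000) h13 tail_okAt13000 rfl
  have h15 := forall_lt_step (b := 15000) h14 tail_okAt14000 rfl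
  have h16 := forall_lt_step (b := 16000) h15 tail_okAt15000 rfl
  have h17 := forall_lt_step (b := 17000) h16 tail_okAt16000 rfl
  have h18 := forall_lt_step (b := 18000) h17 tail_okAt17000 rfl
  have h19 := forall_lt_step (b := 19000) h18 tail_okAt18000 rfl
  have h20 := forall_lt_step (b := 20000) h19 tail_okAt19000 rfl
  have h21 := forall_lt_step (b := 21000) h20 tail_okAt20000 rfl
  have h22 := forall_lt_step (b := 22000) h21 tail_okAt21000 rfl
  have h23 := forall_lt_step (b := 23000) h22 tail_okAt22000 rfl
  have h24 := forall_lt_step (b := 24000) h23 tail_okAt23000 rfl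
  have h25 := forall_lt_step (b := 25000) h24 tail_okAt24000 rfl
  have h26 := forall_lt_step (b := 26000) h25 tail_okAt25000 rfl
  have h27 := forall_lt_step (b := 27000) h26 tail_okAt26000 rfl
  have h28 := forall_lt_step (b := 28000) h27 tail_okAt27000 rfl
  have h29 := forall_lt_step (b := 29000) h28 tail_okAt28000 rfl
  have h30 := forall_lt_step (b := 30000) h29 tail_okAt29000 rfl
  have h31 := forall_lt_step (b := 31000) h30 tail_okAt30000 rfl
  have h32 := forall_lt_step (b := 32000) h31 tail_okAt31000 rfl
  have h33 := forall_lt_step (b := 33000) h32 tail_okAt32000 rfl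
  have h34 := forall_lt_step (b := 34000) h33 tail_okAt33000 rfl
  have h35 := forall_lt_step (b := 35000) h34 tail_okAt34000 rfl
  have h36 := forall_lt_step (b := 36000) h35 tail_okAt35000 rfl
  have h37 := forall_lt_step (b := 37000) h36 tail_okAt36000 rfl
  have h38 := forall_lt_step (b := 38000) h37 tail_okAt37000 rfl
  have h39 := forall_lt_step (b := 39000) h38 tail_okAt38000 rfl
  have h40 := forall_lt_step (b := 40000) h39 tail_okAt39000 rfl
  have h41 := forall_lt_step (b := 41000) h40 tail_okAt40000 rfl
  have h42 := forall_lt_step (b := 42000) h41 tail_okAt41000 rfl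
  have h43 := forall_lt_step (b := 43000) h42 tail_okAt42000 rfl
  have h44 := forall_lt_step (b := 44000) h43 tail_okAt43000 rfl
  have h45 := forall_lt_step (b := 45000) h44 tail_okAt44000 rfl
  have h46 := forall_lt_step (b := 46000) h45 tail_okAt45000 rfl
  have h47 := forall_lt_step (b := 47000) h46 tail_okAt46000 rfl
  have h48 := forall_lt_step (b := 48000) h47 tail_okAt47000 rfl
  have h49 := forall_lt_step (b := 49000) h48 tail_okAt48000 rfl
  have h50 := forall_lt_step (b := 50000) h49 tail_okAt49000 rfl
  have h51 := forall_lt_step (b := 51000) h50 tail_okAt50000 rfl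
  have h52 := forall_lt_step (b := 52000) h51 tail_okAt51000 rfl
  have h53 := forall_lt_step (b := 53000) h52 tail_okAt52000 rfl
  have h54 := forall_lt_step (b := 54000) h53 tail_okAt53000 rfl
  have h55 := forall_lt_step (b := 55000) h54 tail_okAt54000 rfl
  have h56 := forall_lt_step (b := 56000) h55 tail_okAt55000 rfl
  have h57 := forall_lt_step (b := 57000) h56 tail_okAt56000 rfl
  have h58 := forall_lt_step (b := 58000) h57 tail_okAt57000 rfl
  have h59 := forall_lt_step (b := 59000) h58 tail_okAt58000 rfl
  have h60 := forall_lt_step (b := 60000) h59 tail_okAt59000 rfl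
  have h61 := forall_lt_step (b := 61000) h60 tail_okAt60000 rfl
  have h62 := forall_lt_step (b := 62000) h61 tail_okAt61000 rfl
  have h63 := forall_lt_step (b := 63000) h62 tail_okAt62000 rfl
  have h64 := forall_lt_step (b := 64000) h63 tail_okAt63000 rfl
  have h65 := forall_lt_step (b := 65000) h64 tail_okAt64000 rfl
  have h66 := forall_lt_step (b := 66000) h65 tail_okAt65000 rfl
  have h67 := forall_lt_step (b := 67000) h66 tail_okAt66000 rfl
  have h68 := forall_lt_step (b := 68000) h67 tail_okAt67000 rfl
  have h69 := forall_lt_step (b := 69000) h68 tail_okAt68000 rfl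
  have h70 := forall_lt_step (b := 70000) h69 tail_okAt69000 rfl
  have h71 := forall_lt_step (b := 71000) h70 tail_okAt70000 rfl
  have h72 := forall_lt_step (b := 72000) h71 tail_okAt71000 rfl
  have h73 := forall_lt_step (b := 73000) h72 tail_okAt72000 rfl
  have h74 := forall_lt_step (b := 74000) h73 tail_okAt73000 rfl
  have h75 := forall_lt_step (b := 75000) h74 tail_okAt74000 rfl
  have h76 := forall_lt_step (b := 76000) h75 tail_okAt75000 rfl
  have h77 := forall_lt_step (b := 77000) h76 tail_okAt76000 rfl
  have h78 := forall_lt_step (b := 78000) h77 tail_okAt77000 rfl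
  have h79 := forall_lt_step (b := 79000) h78 tail_okAt78000 rfl
  have h80 := forall_lt_step (b := 80000) h79 tail_okAt79000 rfl
  have h81 := forall_lt_step (b := 81000) h80 tail_okAt80000 rfl
  have h82 := forall_lt_step (b := 82000) h81 tail_okAt81000 rfl
  have h83 := forall_lt_step (b := 83000) h82 tail_okAt82000 rfl
  have h84 := forall_lt_step (b := 84000) h83 tail_okAt83000 rfl
  have h85 := forall_lt_step (b := 85000) h84 tail_okAt84000 rfl
  have h86 := forall_lt_step (b := 86000) h85 tail_okAt85000 rfl
  have h87 := forall_lt_step (b := 87000) h86 tail_okAt86000 rfl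
  have h88 := forall_lt_step (b := 88000) h87 tail_okAt87000 rfl
  have h89 := forall_lt_step (b := 89000) h88 tail_okAt88000 rfl
  have h90 := forall_lt_step (b := 90000) h89 tail_okAt89000 rfl
  have h91 := forall_lt_step (b := 91000) h90 tail_okAt90000 rfl
  have h92 := forall_lt_step (b := 92000) h91 tail_okAt91000 rfl
  have h93 := forall_lt_step (b := 93000) h92 tail_okAt92000 rfl
  have h94 := forall_lt_step (b := 94000) h93 tail_okAt93000 rfl
  have h95 := forall_lt_step (b := 95000) h94 tail_okAt94000 rfl
  have h96 := forall_lt_step (b := 96000) h95 tail_okAt95000 rfl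
  have h97 := forall_lt_step (b := 97000) h96 tail_okAt96000 rfl
  have h98 := forall_lt_step (b := 98000) h97 tail_okAt97000 rfl
  have h99 := forall_lt_step (b := 99000) h98 tail_okAt98000 rfl
  have h100 := forall_lt_step (b := 100000) h99 tail_okAt99000 rfl
  have h101 := forall_lt_step (b := 101000) h100 tail_okAt100000 rfl
  have h102 := forall_lt_step (b := 102000) h101 tail_okAt101000 rfl
  have h103 := forall_lt_step (b := 103000) h102 tail_okAt102000 rfl
  have h104 := forall_lt_step (b := 104000) h103 tail_okAt103000 rfl
  have h105 := forall_lt_step (b := 105000) h104 tail_okAt104000 rfl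
  have h106 := forall_lt_step (b := 106000) h105 tail_okAt105000 rfl
  have h107 := forall_lt_step (b := 107000) h106 tail_okAt106000 rfl
  have h108 := forall_lt_step (b := 108000) h107 tail_okAt107000 rfl
  have h109 := forall_lt_step (b := 109000) h108 tail_okAt108000 rfl
  have h110 := forall_lt_step (b := 110000) h109 tail_okAt109000 rfl
  have h111 := forall_lt_step (b := 111000) h110 tail_okAt110000 rfl
  have h112 := forall_lt_step (b := 112000) h111 tail_okAt111000 rfl
  have h113 := forall_lt_step (b := 113000) h112 tail_okAt112000 rfl
  have h114 := forall_lt_step (b := 114000) h113 tail_okAt113000 rfl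
  have h115 := forall_lt_step (b := 115000) h114 tail_okAt114000 rfl
  have h116 := forall_lt_step (b := 116000) h115 tail_okAt115000 rfl
  have h117 := forall_lt_step (b := 117000) h116 tail_okAt116000 rfl
  have h118 := forall_lt_step (b := 118000) h117 tail_okAt117000 rfl
  have h119 := forall_lt_step (b := 119000) h118 tail_okAt118000 rfl
  have h120 := forall_lt_step (b := 120000) h119 tail_okAt119000 rfl
  have h121 := forall_lt_step (b := 121000) h120 tail_okAt120000 rfl
  have h122 := forall_lt_step (b := 122000) h121 tail_okAt121000 rfl
  have h123 := forall_lt_step (b := 123000) h122 tail_okAt122000 rfl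
  have h124 := forall_lt_step (b := 124000) h123 tail_okAt123000 rfl
  have h125 := forall_lt_step (b := 125000) h124 tail_okAt124000 rfl
  have h126 := forall_lt_step (b := 126000) h125 tail_okAt125000 rfl
  have h127 := forall_lt_step (b := 127000) h126 tail_okAt126000 rfl
  have h128 := forall_lt_step (b := 128000) h127 tail_okAt127000 rfl
  have h129 := forall_lt_step (b := 129000) h128 tail_okAt128000 rfl
  have h130 := forall_lt_step (b := 130000) h129 tail_okAt129000 rfl
  have h131 := forall_lt_step (b := 131000) h130 tail_okAt130000 rfl
  have h132 := forall_lt_step (b := 132000) h131 tail_okAt131000 rfl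
  have h133 := forall_lt_step (b := 133000) h132 tail_okAt132000 rfl
  have h134 := forall_lt_step (b := 134000) h133 tail_okAt133000 rfl
  have h135 := forall_lt_step (b := 135000) h134 tail_okAt134000 rfl
  have h136 := forall_lt_step (b := 136000) h135 tail_okAt135000 rfl
  have h137 := forall_lt_step (b := 137000) h136 tail_okAt136000 rfl
  have h138 := forall_lt_step (b := 138000) h137 tail_okAt137000 rfl
  have h139 := forall_lt_step (b := 139000) h138 tail_okAt138000 rfl
  have h140 := forall_lt_step (b := 140000) h139 tail_okAt139000 rfl
  have h141 := forall_lt_step (b := 141000) h140 tail_okAt140000 rfl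
  have h142 := forall_lt_step (b := 142000) h141 tail_okAt141000 rfl
  have h143 := forall_lt_step (b := 143000) h142 tail_okAt142000 rfl
  have h144 := forall_lt_step (b := 144000) h143 tail_okAt143000 rfl
  have h145 := forall_lt_step (b := 145000) h144 tail_okAt144000 rfl
  have h146 := forall_lt_step (b := 146000) h145 tail_okAt145000 rfl
  have h147 := forall_lt_step (b := 147000) h146 tail_okAt146000 rfl
  have h148 := forall_lt_step (b := 148000) h147 tail_okAt147000 rfl
  have h149 := forall_lt_step (b := 149000) h148 tail_okAt148000 rfl
  have h150 := forall_lt_step (b := 150000) h149 tail_okAt149000 rfl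
  have h151 := forall_lt_step (b := 151000) h150 tail_okAt150000 rfl
  have h152 := forall_lt_step (b := 152000) h151 tail_okAt151000 rfl
  have h153 := forall_lt_step (b := 153000) h152 tail_okAt152000 rfl
  have h154 := forall_lt_step (b := 154000) h153 tail_okAt153000 rfl
  have h155 := forall_lt_step (b := 155000) h154 tail_okAt154000 rfl
  have h156 := forall_lt_step (b := 156000) h155 tail_okAt155000 rfl
  have h157 := forall_lt_step (b := 157000) h156 tail_okAt156000 rfl
  have h158 := forall_lt_step (b := 158000) h157 tail_okAt157000 rfl
  have h159 := forall_lt_step (b := 159000) h158 tail_okAt158000 rfl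
  have h160 := forall_lt_step (b := 160000) h159 tail_okAt159000 rfl
  have h161 := forall_lt_step (b := 161000) h160 tail_okAt160000 rfl
  have h162 := forall_lt_step (b := 162000) h161 tail_okAt161000 rfl
  have h163 := forall_lt_step (b := 163000) h162 tail_okAt162000 rfl
  have h164 := forall_lt_step (b := 164000) h163 tail_okAt163000 rfl
  have h165 := forall_lt_step (b := 165000) h164 tail_okAt164000 rfl
  have h166 := forall_lt_step (b := 166000) h165 tail_okAt165000 rfl
  have h167 := forall_lt_step (b := 167000) h166 tail_okAt166000 rfl
  have h168 := forall_lt_step (b := 168000) h167 tail_okAt167000 rfl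
  have h169 := forall_lt_step (b := 169000) h168 tail_okAt168000 rfl
  have h170 := forall_lt_step (b := 170000) h169 tail_okAt169000 rfl
  have h171 := forall_lt_step (b := 171000) h170 tail_okAt170000 rfl
  have h172 := forall_lt_step (b := 172000) h171 tail_okAt171000 rfl
  have h173 := forall_lt_step (b := 173000) h172 tail_okAt172000 rfl
  have h174 := forall_lt_step (b := 174000) h173 tail_okAt173000 rfl
  have h175 := forall_lt_step (b := 175000) h174 tail_okAt174000 rfl
  have h176 := forall_lt_step (b := 176000) h175 tail_okAt175000 rfl
  have h177 := forall_lt_step (b := 177000) h176 tail_okAt176000 rfl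
  have h178 := forall_lt_step (b := 178000) h177 tail_okAt177000 rfl
  have h179 := forall_lt_step (b := 179000) h178 tail_okAt178000 rfl
  have h180 := forall_lt_step (b := 180000) h179 tail_okAt179000 rfl
  have h181 := forall_lt_step (b := 181000) h180 tail_okAt180000 rfl
  have h182 := forall_lt_step (b := 182000) h181 tail_okAt181000 rfl
  have h183 := forall_lt_step (b := 183000) h182 tail_okAt182000 rfl
  have h184 := forall_lt_step (b := 184000) h183 tail_okAt183000 rfl
  have h185 := forall_lt_step (b := 185000) h184 tail_okAt184000 rfl
  have h186 := forall_lt_step (b := 186000) h185 tail_okAt185000 rfl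
  have h187 := forall_lt_step (b := 187000) h186 tail_okAt186000 rfl
  have h188 := forall_lt_step (b := 188000) h187 tail_okAt187000 rfl
  have h189 := forall_lt_step (b := 189000) h188 tail_okAt188000 rfl
  have h190 := forall_lt_step (b := 190000) h189 tail_okAt189000 rfl
  have h191 := forall_lt_step (b := 191000) h190 tail_okAt190000 rfl
  have h192 := forall_lt_step (b := 192000) h191 tail_okAt191000 rfl
  have h193 := forall_lt_step (b := 193000) h192 tail_okAt192000 rfl
  have h194 := forall_lt_step (b := 194000) h193 tail_okAt193000 rfl
  have h195 := forall_lt_step (b := 195000) h194 tail_okAt194000 rfl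
  have h196 := forall_lt_step (b := 196000) h195 tail_okAt195000 rfl
  have h197 := forall_lt_step (b := 197000) h196 tail_okAt196000 rfl
  have h198 := forall_lt_step (b := 198000) h197 tail_okAt197000 rfl
  have h199 := forall_lt_step (b := 199000) h198 tail_okAt198000 rfl
  have h200 := forall_lt_step (b := 200000) h199 tail_okAt199000 rfl
  have h201 := forall_lt_step (b := 201000) h200 tail_okAt200000 rfl
  have h202 := forall_lt_step (b := 202000) h201 tail_okAt201000 rfl
  have h203 := forall_lt_step (b := 203000) h202 tail_okAt202000 rfl
  have h204 := forall_lt_step (b := 204000) h203 tail_okAt203000 rfl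
  have h205 := forall_lt_step (b := 205000) h204 tail_okAt204000 rfl
  have h206 := forall_lt_step (b := 206000) h205 tail_okAt205000 rfl
  have h207 := forall_lt_step (b := 207000) h206 tail_okAt206000 rfl
  have h208 := forall_lt_step (b := 208000) h207 tail_okAt207000 rfl
  have h209 := forall_lt_step (b := 209000) h208 tail_okAt208000 rfl
  have h210 := forall_lt_step (b := 210000) h209 tail_okAt209000 rfl
  have h211 := forall_lt_step (b := 211000) h210 tail_okAt210000 rfl
  have h212 := forall_lt_step (b := 212000) h211 tail_okAt211000 rfl
  have h213 := forall_lt_step (b := 213000) h212 tail_okAt212000 rfl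
  have h214 := forall_lt_step (b := 214000) h213 tail_okAt213000 rfl
  have h215 := forall_lt_step (b := 215000) h214 tail_okAt214000 rfl
  have h216 := forall_lt_step (b := 216000) h215 tail_okAt215000 rfl
  have h217 := forall_lt_step (b := 217000) h216 tail_okAt216000 rfl
  have h218 := forall_lt_step (b := 218000) h217 tail_okAt217000 rfl
  have h219 := forall_lt_step (b := 219000) h218 tail_okAt218000 rfl
  have h220 := forall_lt_step (b := 220000) h219 tail_okAt219000 rfl
  have h221 := forall_lt_step (b := 221000) h220 tail_okAt220000 rfl
  have h222 := forall_lt_step (b := 222000) h221 tail_okAt221000 rfl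
  have h223 := forall_lt_step (b := 223000) h222 tail_okAt222000 rfl
  have h224 := forall_lt_step (b := 224000) h223 tail_okAt223000 rfl
  have h225 := forall_lt_step (b := 225000) h224 tail_okAt224000 rfl
  have h226 := forall_lt_step (b := 226000) h225 tail_okAt225000 rfl
  have h227 := forall_lt_step (b := 227000) h226 tail_okAt226000 rfl
  have h228 := forall_lt_step (b := 228000) h227 tail_okAt227000 rfl
  have h229 := forall_lt_step (b := 229000) h228 tail_okAt228000 rfl
  have h230 := forall_lt_step (b := 230000) h229 tail_okAt229000 rfl
  have h231 := forall_lt_step (b := 231000) h230 tail_okAt230000 rfl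
  have h232 := forall_lt_step (b := 232000) h231 tail_okAt231000 rfl
  have h233 := forall_lt_step (b := 233000) h232 tail_okAt232000 rfl
  have h234 := forall_lt_step (b := 234000) h233 tail_okAt233000 rfl
  have h235 := forall_lt_step (b := 235000) h234 tail_okAt234000 rfl
  have h236 := forall_lt_step (b := 236000) h235 tail_okAt235000 rfl
  have h237 := forall_lt_step (b := 237000) h236 tail_okAt236000 rfl
  have h238 := forall_lt_step (b := 238000) h237 tail_okAt237000 rfl
  have h239 := forall_lt_step (b := 239000) h238 tail_okAt238000 rfl
  have h240 := forall_lt_step (b := 240000) h239 tail_okAt239000 rfl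
  have h241 := forall_lt_step (b := 241000) h240 tail_okAt240000 rfl
  have h242 := forall_lt_step (b := 242000) h241 tail_okAt241000 rfl
  have h243 := forall_lt_step (b := 243000) h242 tail_okAt242000 rfl
  have h244 := forall_lt_step (b := 244000) h243 tail_okAt243000 rfl
  have h245 := forall_lt_step (b := 245000) h244 tail_okAt244000 rfl
  have h246 := forall_lt_step (b := 246000) h245 tail_okAt245000 rfl
  have h247 := forall_lt_step (b := 247000) h246 tail_okAt246000 rfl
  have h248 := forall_lt_step (b := 248000) h247 tail_okAt247000 rfl
  have h249 := forall_lt_step (b := 249000) h248 tail_okAt248000 rfl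
  have h250 := forall_lt_step (b := 250000) h249 tail_okAt249000 rfl
  have h251 := forall_lt_step (b := 251000) h250 tail_okAt250000 rfl
  have h252 := forall_lt_step (b := 252000) h251 tail_okAt251000 rfl
  have h253 := forall_lt_step (b := 253000) h252 tail_okAt252000 rfl
  have h254 := forall_lt_step (b := 254000) h253 tail_okAt253000 rfl
  have h255 := forall_lt_step (b := 255000) h254 tail_okAt254000 rfl
  have h256 := forall_lt_step (b := 256000) h255 tail_okAt255000 rfl
  have h257 := forall_lt_step (b := 257000) h256 tail_okAt256000 rfl
  have h258 := forall_lt_step (b := 258000) h257 tail_okAt257000 rfl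
  have h259 := forall_lt_step (b := 259000) h258 tail_okAt258000 rfl
  have h260 := forall_lt_step (b := 260000) h259 tail_okAt259000 rfl
  have h261 := forall_lt_step (b := 261000) h260 tail_okAt260000 rfl
  have h262 := forall_lt_step (b := 262000) h261 tail_okAt261000 rfl
  have h263 := forall_lt_step (b := 263000) h262 tail_okAt262000 rfl
  have h264 := forall_lt_step (b := 264000) h263 tail_okAt263000 rfl
  have h265 := forall_lt_step (b := 265000) h264 tail_okAt264000 rfl
  have h266 := forall_lt_step (b := 266000) h265 tail_okAt265000 rfl
  have h267 := forall_lt_step (b := 267000) h266 tail_okAt266000 rfl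
  have h268 := forall_lt_step (b := 268000) h267 tail_okAt267000 rfl
  have h269 := forall_lt_step (b := 269000) h268 tail_okAt268000 rfl
  have h270 := forall_lt_step (b := 270000) h269 tail_okAt269000 rfl
  have h271 := forall_lt_step (b := 271000) h270 tail_okAt270000 rfl
  have h272 := forall_lt_step (b := 272000) h271 tail_okAt271000 rfl
  have h273 := forall_lt_step (b := 273000) h272 tail_okAt272000 rfl
  have h274 := forall_lt_step (b := 274000) h273 tail_okAt273000 rfl
  have h275 := forall_lt_step (b := 275000) h274 tail_okAt274000 rfl
  have h276 := forall_lt_step (b := 276000) h275 tail_okAt275000 rfl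
  have h277 := forall_lt_step (b := 277000) h276 tail_okAt276000 rfl
  have h278 := forall_lt_step (b := 278000) h277 tail_okAt277000 rfl
  have h279 := forall_lt_step (b := 279000) h278 tail_okAt278000 rfl
  have h280 := forall_lt_step (b := 280000) h279 tail_okAt279000 rfl
  have h281 := forall_lt_step (b := 281000) h280 tail_okAt280000 rfl
  have h282 := forall_lt_step (b := 282000) h281 tail_okAt281000 rfl
  have h283 := forall_lt_step (b := 283000) h282 tail_okAt282000 rfl
  have h284 := forall_lt_step (b := 284000) h283 tail_okAt283000 rfl
  have h285 := forall_lt_step (b := 285000) h284 tail_okAt284000 rfl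
  have h286 := forall_lt_step (b := 286000) h285 tail_okAt285000 rfl
  have h287 := forall_lt_step (b := 287000) h286 tail_okAt286000 rfl
  have h288 := forall_lt_step (b := 288000) h287 tail_okAt287000 rfl
  have h289 := forall_lt_step (b := 289000) h288 tail_okAt288000 rfl
  have h290 := forall_lt_step (b := 290000) h289 tail_okAt289000 rfl
  have h291 := forall_lt_step (b := 291000) h290 tail_okAt290000 rfl
  have h292 := forall_lt_step (b := 292000) h291 tail_okAt291000 rfl
  have h293 := forall_lt_step (b := 293000) h292 tail_okAt292000 rfl
  have h294 := forall_lt_step (b := 294000) h293 tail_okAt293000 rfl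
  have h295 := forall_lt_step (b := 295000) h294 tail_okAt294000 rfl
  have h296 := forall_lt_step (b := 296000) h295 tail_okAt295000 rfl
  have h297 := forall_lt_step (b := 297000) h296 tail_okAt296000 rfl
  have h298 := forall_lt_step (b := 298000) h297 tail_okAt297000 rfl
  have h299 := forall_lt_step (b := 299000) h298 tail_okAt298000 rfl
  have h300 := forall_lt_step (b := 300000) h299 tail_okAt299000 rfl
  have h301 := forall_lt_step (b := 301000) h300 tail_okAt300000 rfl
  have h302 := forall_lt_step (b := 302000) h301 tail_okAt301000 rfl
  have h303 := forall_lt_step (b := 303000) h302 tail_okAt302000 rfl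
  have h304 := forall_lt_step (b := 304000) h303 tail_okAt303000 rfl
  have h305 := forall_lt_step (b := 305000) h304 tail_okAt304000 rfl
  have h306 := forall_lt_step (b := 306000) h305 tail_okAt305000 rfl
  have h307 := forall_lt_step (b := 306936) h306 tail_okAt306000 rfl
  exact h307

end Cfsg.Agent.CosetCert.Fi24Index
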