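import Cfsg.Agent.CosetCert.Fi24Index.CheckLog
import Cfsg.Agent.CosetCert.Fi24Index.CheckTable
import Cfsg.Agent.CosetCert.Fi24Index.CheckPairs
import Cfsg.Agent.CosetCert.Fi24Index.CheckSpider
import Cfsg.Agent.CosetCert.Fi24Index.CheckTail

/-! Generated: validity of the certificate. -/

set_option maxRecDepth 100000

namespace Cfsg.Agent.CosetCert.Fi24Index

theorem T_row (c x : Nat) (hx : x < data.K) : data.T c x = tgt (row c) x :=
  Data.T_rowEdge row rfl c x hx

theorem rels_ok : ∀ c, c < data.n → data.checkRels c = true := by
  refine Data.rels_of_rows row braids T_row (fun c x hc hx => ?_) pairs_ok ?_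
  · have h1 := (Bool.and_eq_true_iff.1 (coset_ok c hc)).1
    have h2 := (allFrom_iff _ _ _).1 h1 x (Nat.zero_le _) (by omega)
    simp only [Data.checkEdge, force_eq, gate_eq, Nat.add_eq, Nat.mul_eq] at h2
    change ((_ && ((Nat.blt (data.T c x) data.n) && _)) = true) at h2
    simp only [Bool.and_eq_true] at h2
    exact ⟨Nat.ble_eq.mp h2.2.1, Nat.eq_of_beq_eq_true h2.2.2.1⟩
  · have hall : data.powers.all (fun p => data.covered braids p ||
        (decide (p = (spider, 17)) || decide (p = (11 :: (List.replicate 9 coxeter).flatten, 1))))
          = true := by decide +kernel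
    intro p hp
    have h := List.all_eq_true.1 hall p hp
    rcases Bool.or_eq_true_iff.1 h with h | h
    · exact Or.inl h
    refine Or.inr fun c hc => ?_
    rcases Bool.or_eq_true_iff.1 h with h | h
    · obtain rfl := of_decide_eq_true h
      rw [← Data.fwd_replicate]
      exact fwd_power data spider _ 17 spider_ok c hc
    · obtain rfl := of_decide_eq_true h
      rw [Function.iterate_one]
      exact Data.fwd_tail coxeter _ 9 11 tail_ok c hc

theorem valid : data.Valid where
  n_pos := by decide +kernel
  root := by decide +kernel
  log := log_ok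
  coset := coset_ok
  rels := rels_ok
  powers_eq := by decide +kernel
  pw := by decide +kernel
  letters := by decide +kernel
  K_small := by decide +kernel
  nR_le := by decide +kernel
  subs := by decide +kernel
  iv_iv := fun x hx => ⟨rfl, hx⟩
  iv_big := fun _ _ => rfl

end Cfsg.Agent.CosetCert.Fi24Index
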