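import Cfsg.Agent.CosetCert.Fi24Index.Defs

/-! Generated: kernel checks. -/

set_option Elab.async false

namespace Cfsg.Agent.CosetCert.Fi24Index

theorem log_okAt600000 : allFrom data.checkLog 600000 2500 = true := by decide +kernel

theorem log_okAt602500 : allFrom data.checkLog 602500 2500 = true := by decide +kernel

theorem log_okAt605000 : allFrom data.checkLog 605000 2500 = true := by decide +kernel

theorem log_okAt607500 : allFrom data.checkLog 607500 2500 = true := by decide +kernel

theorem log_okAt610000 : allFrom data.checkLog 610000 2500 = true := by decide +kernel

theorem log_okAt612500 : allFrom data.checkLog 612500 2500 = true := by decide +kernel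

theorem log_okAt615000 : allFrom data.checkLog 615000 2500 = true := by decide +kernel

theorem log_okAt617500 : allFrom data.checkLog 617500 2500 = true := by decide +kernel

theorem log_okAt620000 : allFrom data.checkLog 620000 2500 = true := by decide +kernel

theorem log_okAt622500 : allFrom data.checkLog 622500 2500 = true := by decide +kernel

theorem log_okAt625000 : allFrom data.checkLog 625000 2500 = true := by decide +kernel

theorem log_okAt627500 : allFrom data.checkLog 627500 2500 = true := by decide +kernel

theorem log_okAt630000 : allFrom data.checkLog 630000 2500 = true := by decide +kernel

theorem log_okAt632500 : allFrom data.checkLog 632500 2500 = true := by decide +kernel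

theorem log_okAt635000 : allFrom data.checkLog 635000 2500 = true := by decide +kernel

theorem log_okAt637500 : allFrom data.checkLog 637500 2500 = true := by decide +kernel

theorem log_okAt640000 : allFrom data.checkLog 640000 2500 = true := by decide +kernel

theorem log_okAt642500 : allFrom data.checkLog 642500 2500 = true := by decide +kernel

theorem log_okAt645000 : allFrom data.checkLog 645000 2500 = true := by decide +kernel

theorem log_okAt647500 : allFrom data.checkLog 647500 2500 = true := by decide +kernel

theorem log_okAt650000 : allFrom data.checkLog 650000 2500 = true := by decide +kernel

theorem log_okAt652500 : allFrom data.checkLog 652500 2500 = true := by decide +kernel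

theorem log_okAt655000 : allFrom data.checkLog 655000 2500 = true := by decide +kernel

theorem log_okAt657500 : allFrom data.checkLog 657500 2500 = true := by decide +kernel

end Cfsg.Agent.CosetCert.Fi24Index
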