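import Cfsg.Agent.CosetCert.Fi24Index.Defs

/-! Generated: kernel checks. -/

set_option Elab.async false

namespace Cfsg.Agent.CosetCert.Fi24Index

theorem log_okAt720000 : allFrom data.checkLog 720000 2500 = true := by decide +kernel

theorem log_okAt722500 : allFrom data.checkLog 722500 2500 = true := by decide +kernel

theorem log_okAt725000 : allFrom data.checkLog 725000 2500 = true := by decide +kernel

theorem log_okAt727500 : allFrom data.checkLog 727500 2500 = true := by decide +kernel

theorem log_okAt730000 : allFrom data.checkLog 730000 2500 = true := by decide +kernel

theorem log_okAt732500 : allFrom data.checkLog 732500 2500 = true := by decide +kernel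

theorem log_okAt735000 : allFrom data.checkLog 735000 2500 = true := by decide +kernel

theorem log_okAt737500 : allFrom data.checkLog 737500 2500 = true := by decide +kernel

theorem log_okAt740000 : allFrom data.checkLog 740000 2500 = true := by decide +kernel

theorem log_okAt742500 : allFrom data.checkLog 742500 2500 = true := by decide +kernel

theorem log_okAt745000 : allFrom data.checkLog 745000 2500 = true := by decide +kernel

theorem log_okAt747500 : allFrom data.checkLog 747500 2500 = true := by decide +kernel

theorem log_okAt750000 : allFrom data.checkLog 750000 2500 = true := by decide +kernel

theorem log_okAt752500 : allFrom data.checkLog 752500 2500 = true := by decide +kernel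

theorem log_okAt755000 : allFrom data.checkLog 755000 2500 = true := by decide +kernel

theorem log_okAt757500 : allFrom data.checkLog 757500 2500 = true := by decide +kernel

theorem log_okAt760000 : allFrom data.checkLog 760000 2500 = true := by decide +kernel

theorem log_okAt762500 : allFrom data.checkLog 762500 2500 = true := by decide +kernel

theorem log_okAt765000 : allFrom data.checkLog 765000 2500 = true := by decide +kernel

theorem log_okAt767500 : allFrom data.checkLog 767500 2500 = true := by decide +kernel

theorem log_okAt770000 : allFrom data.checkLog 770000 2500 = true := by decide +kernel

theorem log_okAt772500 : allFrom data.checkLog 772500 2500 = true := by decide +kernel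

theorem log_okAt775000 : allFrom data.checkLog 775000 2500 = true := by decide +kernel

theorem log_okAt777500 : allFrom data.checkLog 777500 2500 = true := by decide +kernel

end Cfsg.Agent.CosetCert.Fi24Index
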