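import Cfsg.Agent.CosetCert.Fi24Index.Defs

/-! Generated: kernel checks. -/

set_option Elab.async false

namespace Cfsg.Agent.CosetCert.Fi24Index

theorem log_okAt780000 : allFrom data.checkLog 780000 2500 = true := by decide +kernel

theorem log_okAt782500 : allFrom data.checkLog 782500 2500 = true := by decide +kernel

theorem log_okAt785000 : allFrom data.checkLog 785000 2500 = true := by decide +kernel

theorem log_okAt787500 : allFrom data.checkLog 787500 2500 = true := by decide +kernel

theorem log_okAt790000 : allFrom data.checkLog 790000 2500 = true := by decide +kernel

theorem log_okAt792500 : allFrom data.checkLog 792500 2500 = true := by decide +kernel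

theorem log_okAt795000 : allFrom data.checkLog 795000 2500 = true := by decide +kernel

theorem log_okAt797500 : allFrom data.checkLog 797500 2500 = true := by decide +kernel

theorem log_okAt800000 : allFrom data.checkLog 800000 2500 = true := by decide +kernel

theorem log_okAt802500 : allFrom data.checkLog 802500 2500 = true := by decide +kernel

theorem log_okAt805000 : allFrom data.checkLog 805000 2500 = true := by decide +kernel

theorem log_okAt807500 : allFrom data.checkLog 807500 2500 = true := by decide +kernel

theorem log_okAt810000 : allFrom data.checkLog 810000 2500 = true := by decide +kernel

theorem log_okAt812500 : allFrom data.checkLog 812500 2500 = true := by decide +kernel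

theorem log_okAt815000 : allFrom data.checkLog 815000 2500 = true := by decide +kernel

theorem log_okAt817500 : allFrom data.checkLog 817500 2500 = true := by decide +kernel

theorem log_okAt820000 : allFrom data.checkLog 820000 2500 = true := by decide +kernel

theorem log_okAt822500 : allFrom data.checkLog 822500 2500 = true := by decide +kernel

theorem log_okAt825000 : allFrom data.checkLog 825000 2500 = true := by decide +kernel

theorem log_okAt827500 : allFrom data.checkLog 827500 2500 = true := by decide +kernel

theorem log_okAt830000 : allFrom data.checkLog 830000 2500 = true := by decide +kernel

theorem log_okAt832500 : allFrom data.checkLog 832500 2500 = true := by decide +kernel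

theorem log_okAt835000 : allFrom data.checkLog 835000 2500 = true := by decide +kernel

theorem log_okAt837500 : allFrom data.checkLog 837500 2500 = true := by decide +kernel

end Cfsg.Agent.CosetCert.Fi24Index
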