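import Cfsg.Agent.CosetCert.Fi24Index.Defs

/-! Generated: kernel checks. -/

set_option Elab.async false

namespace Cfsg.Agent.CosetCert.Fi24Index

theorem log_okAt840000 : allFrom data.checkLog 840000 2500 = true := by decide +kernel

theorem log_okAt842500 : allFrom data.checkLog 842500 2500 = true := by decide +kernel

theorem log_okAt845000 : allFrom data.checkLog 845000 2500 = true := by decide +kernel

theorem log_okAt847500 : allFrom data.checkLog 847500 2500 = true := by decide +kernel

theorem log_okAt850000 : allFrom data.checkLog 850000 2500 = true := by decide +kernel

theorem log_okAt852500 : allFrom data.checkLog 852500 2500 = true := by decide +kernel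

theorem log_okAt855000 : allFrom data.checkLog 855000 2500 = true := by decide +kernel

theorem log_okAt857500 : allFrom data.checkLog 857500 2500 = true := by decide +kernel

theorem log_okAt860000 : allFrom data.checkLog 860000 2500 = true := by decide +kernel

theorem log_okAt862500 : allFrom data.checkLog 862500 2500 = true := by decide +kernel

theorem log_okAt865000 : allFrom data.checkLog 865000 2500 = true := by decide +kernel

theorem log_okAt867500 : allFrom data.checkLog 867500 2500 = true := by decide +kernel

theorem log_okAt870000 : allFrom data.checkLog 870000 2500 = true := by decide +kernel

theorem log_okAt872500 : allFrom data.checkLog 872500 2500 = true := by decide +kernel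

theorem log_okAt875000 : allFrom data.checkLog 875000 2500 = true := by decide +kernel

theorem log_okAt877500 : allFrom data.checkLog 877500 2500 = true := by decide +kernel

theorem log_okAt880000 : allFrom data.checkLog 880000 2500 = true := by decide +kernel

theorem log_okAt882500 : allFrom data.checkLog 882500 2500 = true := by decide +kernel

theorem log_okAt885000 : allFrom data.checkLog 885000 2500 = true := by decide +kernel

theorem log_okAt887500 : allFrom data.checkLog 887500 2500 = true := by decide +kernel

theorem log_okAt890000 : allFrom data.checkLog 890000 2500 = true := by decide +kernel

theorem log_okAt892500 : allFrom data.checkLog 892500 2500 = true := by decide +kernel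

theorem log_okAt895000 : allFrom data.checkLog 895000 2500 = true := by decide +kernel

theorem log_okAt897500 : allFrom data.checkLog 897500 2500 = true := by decide +kernel

end Cfsg.Agent.CosetCert.Fi24Index
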