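import Cfsg.Agent.CosetCert.Fi24Index.Defs

/-! Generated: kernel checks. -/

set_option Elab.async false

namespace Cfsg.Agent.CosetCert.Fi24Index

theorem log_okAt900000 : allFrom data.checkLog 900000 2500 = true := by decide +kernel

theorem log_okAt902500 : allFrom data.checkLog 902500 2500 = true := by decide +kernel

theorem log_okAt905000 : allFrom data.checkLog 905000 2500 = true := by decide +kernel

theorem log_okAt907500 : allFrom data.checkLog 907500 2500 = true := by decide +kernel

theorem log_okAt910000 : allFrom data.checkLog 910000 2500 = true := by decide +kernel

theorem log_okAt912500 : allFrom data.checkLog 912500 2500 = true := by decide +kernel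

theorem log_okAt915000 : allFrom data.checkLog 915000 2500 = true := by decide +kernel

theorem log_okAt917500 : allFrom data.checkLog 917500 2500 = true := by decide +kernel

theorem log_okAt920000 : allFrom data.checkLog 920000 2500 = true := by decide +kernel

theorem log_okAt922500 : allFrom data.checkLog 922500 2500 = true := by decide +kernel

theorem log_okAt925000 : allFrom data.checkLog 925000 2500 = true := by decide +kernel

theorem log_okAt927500 : allFrom data.checkLog 927500 2500 = true := by decide +kernel

theorem log_okAt930000 : allFrom data.checkLog 930000 2500 = true := by decide +kernel

theorem log_okAt932500 : allFrom data.checkLog 932500 2500 = true := by decide +kernel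

theorem log_okAt935000 : allFrom data.checkLog 935000 2500 = true := by decide +kernel

theorem log_okAt937500 : allFrom data.checkLog 937500 2500 = true := by decide +kernel

theorem log_okAt940000 : allFrom data.checkLog 940000 2500 = true := by decide +kernel

theorem log_okAt942500 : allFrom data.checkLog 942500 2500 = true := by decide +kernel

theorem log_okAt945000 : allFrom data.checkLog 945000 2500 = true := by decide +kernel

theorem log_okAt947500 : allFrom data.checkLog 947500 2500 = true := by decide +kernel

theorem log_okAt950000 : allFrom data.checkLog 950000 2500 = true := by decide +kernel

theorem log_okAt952500 : allFrom data.checkLog 952500 2500 = true := by decide +kernel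

theorem log_okAt955000 : allFrom data.checkLog 955000 2500 = true := by decide +kernel

theorem log_okAt957500 : allFrom data.checkLog 957500 2500 = true := by decide +kernel

end Cfsg.Agent.CosetCert.Fi24Index
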