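import Cfsg.Agent.CosetCert.Fi24Index.Defs

/-! Generated: kernel checks. -/

set_option Elab.async false

namespace Cfsg.Agent.CosetCert.Fi24Index

theorem log_okAt960000 : allFrom data.checkLog 960000 2500 = true := by decide +kernel

theorem log_okAt962500 : allFrom data.checkLog 962500 2500 = true := by decide +kernel

theorem log_okAt965000 : allFrom data.checkLog 965000 2500 = true := by decide +kernel

theorem log_okAt967500 : allFrom data.checkLog 967500 2500 = true := by decide +kernel

theorem log_okAt970000 : allFrom data.checkLog 970000 2500 = true := by decide +kernel

theorem log_okAt972500 : allFrom data.checkLog 972500 2500 = true := by decide +kernel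

theorem log_okAt975000 : allFrom data.checkLog 975000 2500 = true := by decide +kernel

theorem log_okAt977500 : allFrom data.checkLog 977500 2500 = true := by decide +kernel

theorem log_okAt980000 : allFrom data.checkLog 980000 2500 = true := by decide +kernel

theorem log_okAt982500 : allFrom data.checkLog 982500 2500 = true := by decide +kernel

theorem log_okAt985000 : allFrom data.checkLog 985000 2500 = true := by decide +kernel

theorem log_okAt987500 : allFrom data.checkLog 987500 2500 = true := by decide +kernel

theorem log_okAt990000 : allFrom data.checkLog 990000 2500 = true := by decide +kernel

theorem log_okAt992500 : allFrom data.checkLog 992500 2500 = true := by decide +kernel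

theorem log_okAt995000 : allFrom data.checkLog 995000 2500 = true := by decide +kernel

theorem log_okAt997500 : allFrom data.checkLog 997500 2500 = true := by decide +kernel

theorem log_okAt1000000 : allFrom data.checkLog 1000000 2500 = true := by decide +kernel

theorem log_okAt1002500 : allFrom data.checkLog 1002500 2500 = true := by decide +kernel

theorem log_okAt1005000 : allFrom data.checkLog 1005000 2500 = true := by decide +kernel

theorem log_okAt1007500 : allFrom data.checkLog 1007500 2500 = true := by decide +kernel

theorem log_okAt1010000 : allFrom data.checkLog 1010000 2500 = true := by decide +kernel

theorem log_okAt1012500 : allFrom data.checkLog 1012500 2500 = true := by decide +kernel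

theorem log_okAt1015000 : allFrom data.checkLog 1015000 2500 = true := by decide +kernel

theorem log_okAt1017500 : allFrom data.checkLog 1017500 2500 = true := by decide +kernel

end Cfsg.Agent.CosetCert.Fi24Index
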