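import Cfsg.Agent.CosetCert.Fi24Index.Defs

/-! Generated: kernel checks. -/

set_option Elab.async false

namespace Cfsg.Agent.CosetCert.Fi24Index

theorem log_okAt1020000 : allFrom data.checkLog 1020000 2500 = true := by decide +kernel

theorem log_okAt1022500 : allFrom data.checkLog 1022500 2500 = true := by decide +kernel

theorem log_okAt1025000 : allFrom data.checkLog 1025000 2500 = true := by decide +kernel

theorem log_okAt1027500 : allFrom data.checkLog 1027500 2500 = true := by decide +kernel

theorem log_okAt1030000 : allFrom data.checkLog 1030000 2500 = true := by decide +kernel

theorem log_okAt1032500 : allFrom data.checkLog 1032500 2500 = true := by decide +kernel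

theorem log_okAt1035000 : allFrom data.checkLog 1035000 2500 = true := by decide +kernel

theorem log_okAt1037500 : allFrom data.checkLog 1037500 2500 = true := by decide +kernel

theorem log_okAt1040000 : allFrom data.checkLog 1040000 2500 = true := by decide +kernel

theorem log_okAt1042500 : allFrom data.checkLog 1042500 2500 = true := by decide +kernel

theorem log_okAt1045000 : allFrom data.checkLog 1045000 2500 = true := by decide +kernel

theorem log_okAt1047500 : allFrom data.checkLog 1047500 2500 = true := by decide +kernel

theorem log_okAt1050000 : allFrom data.checkLog 1050000 2500 = true := by decide +kernel

theorem log_okAt1052500 : allFrom data.checkLog 1052500 2500 = true := by decide +kernel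

theorem log_okAt1055000 : allFrom data.checkLog 1055000 2500 = true := by decide +kernel

theorem log_okAt1057500 : allFrom data.checkLog 1057500 2500 = true := by decide +kernel

theorem log_okAt1060000 : allFrom data.checkLog 1060000 2500 = true := by decide +kernel

theorem log_okAt1062500 : allFrom data.checkLog 1062500 2500 = true := by decide +kernel

theorem log_okAt1065000 : allFrom data.checkLog 1065000 2500 = true := by decide +kernel

theorem log_okAt1067500 : allFrom data.checkLog 1067500 2500 = true := by decide +kernel

theorem log_okAt1070000 : allFrom data.checkLog 1070000 2500 = true := by decide +kernel

theorem log_okAt1072500 : allFrom data.checkLog 1072500 2500 = true := by decide +kernel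

theorem log_okAt1075000 : allFrom data.checkLog 1075000 2500 = true := by decide +kernel

theorem log_okAt1077500 : allFrom data.checkLog 1077500 2500 = true := by decide +kernel

end Cfsg.Agent.CosetCert.Fi24Index
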