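import Cfsg.Agent.CosetCert.Fi24Index.Defs

/-! Generated: kernel checks. -/

set_option Elab.async false

namespace Cfsg.Agent.CosetCert.Fi24Index

theorem log_okAt1080000 : allFrom data.checkLog 1080000 2500 = true := by decide +kernel

theorem log_okAt1082500 : allFrom data.checkLog 1082500 2500 = true := by decide +kernel

theorem log_okAt1085000 : allFrom data.checkLog 1085000 2500 = true := by decide +kernel

theorem log_okAt1087500 : allFrom data.checkLog 1087500 2500 = true := by decide +kernel

theorem log_okAt1090000 : allFrom data.checkLog 1090000 2500 = true := by decide +kernel

theorem log_okAt1092500 : allFrom data.checkLog 1092500 2500 = true := by decide +kernel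

theorem log_okAt1095000 : allFrom data.checkLog 1095000 2500 = true := by decide +kernel

theorem log_okAt1097500 : allFrom data.checkLog 1097500 2500 = true := by decide +kernel

theorem log_okAt1100000 : allFrom data.checkLog 1100000 2500 = true := by decide +kernel

theorem log_okAt1102500 : allFrom data.checkLog 1102500 2500 = true := by decide +kernel

theorem log_okAt1105000 : allFrom data.checkLog 1105000 2500 = true := by decide +kernel

theorem log_okAt1107500 : allFrom data.checkLog 1107500 2500 = true := by decide +kernel

theorem log_okAt1110000 : allFrom data.checkLog 1110000 2500 = true := by decide +kernel

theorem log_okAt1112500 : allFrom data.checkLog 1112500 2500 = true := by decide +kernel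

theorem log_okAt1115000 : allFrom data.checkLog 1115000 2500 = true := by decide +kernel

theorem log_okAt1117500 : allFrom data.checkLog 1117500 2500 = true := by decide +kernel

theorem log_okAt1120000 : allFrom data.checkLog 1120000 2500 = true := by decide +kernel

theorem log_okAt1122500 : allFrom data.checkLog 1122500 2500 = true := by decide +kernel

theorem log_okAt1125000 : allFrom data.checkLog 1125000 2500 = true := by decide +kernel

theorem log_okAt1127500 : allFrom data.checkLog 1127500 2500 = true := by decide +kernel

theorem log_okAt1130000 : allFrom data.checkLog 1130000 2500 = true := by decide +kernel

theorem log_okAt1132500 : allFrom data.checkLog 1132500 2500 = true := by decide +kernel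

theorem log_okAt1135000 : allFrom data.checkLog 1135000 2500 = true := by decide +kernel

theorem log_okAt1137500 : allFrom data.checkLog 1137500 2500 = true := by decide +kernel

end Cfsg.Agent.CosetCert.Fi24Index
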