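import Cfsg.Agent.CosetCert.Fi24Index.Defs

/-! Generated: kernel checks. -/

set_option Elab.async false

namespace Cfsg.Agent.CosetCert.Fi24Index

theorem log_okAt1140000 : allFrom data.checkLog 1140000 2500 = true := by decide +kernel

theorem log_okAt1142500 : allFrom data.checkLog 1142500 2500 = true := by decide +kernel

theorem log_okAt1145000 : allFrom data.checkLog 1145000 2500 = true := by decide +kernel

theorem log_okAt1147500 : allFrom data.checkLog 1147500 2500 = true := by decide +kernel

theorem log_okAt1150000 : allFrom data.checkLog 1150000 2500 = true := by decide +kernel

theorem log_okAt1152500 : allFrom data.checkLog 1152500 2500 = true := by decide +kernel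

theorem log_okAt1155000 : allFrom data.checkLog 1155000 2500 = true := by decide +kernel

theorem log_okAt1157500 : allFrom data.checkLog 1157500 2500 = true := by decide +kernel

theorem log_okAt1160000 : allFrom data.checkLog 1160000 2500 = true := by decide +kernel

theorem log_okAt1162500 : allFrom data.checkLog 1162500 2500 = true := by decide +kernel

theorem log_okAt1165000 : allFrom data.checkLog 1165000 2500 = true := by decide +kernel

theorem log_okAt1167500 : allFrom data.checkLog 1167500 2500 = true := by decide +kernel

theorem log_okAt1170000 : allFrom data.checkLog 1170000 2500 = true := by decide +kernel

theorem log_okAt1172500 : allFrom data.checkLog 1172500 2500 = true := by decide +kernel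

theorem log_okAt1175000 : allFrom data.checkLog 1175000 2500 = true := by decide +kernel

theorem log_okAt1177500 : allFrom data.checkLog 1177500 2500 = true := by decide +kernel

theorem log_okAt1180000 : allFrom data.checkLog 1180000 2500 = true := by decide +kernel

theorem log_okAt1182500 : allFrom data.checkLog 1182500 2500 = true := by decide +kernel

theorem log_okAt1185000 : allFrom data.checkLog 1185000 2500 = true := by decide +kernel

theorem log_okAt1187500 : allFrom data.checkLog 1187500 2500 = true := by decide +kernel

theorem log_okAt1190000 : allFrom data.checkLog 1190000 2500 = true := by decide +kernel

theorem log_okAt1192500 : allFrom data.checkLog 1192500 2500 = true := by decide +kernel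

theorem log_okAt1195000 : allFrom data.checkLog 1195000 2500 = true := by decide +kernel

theorem log_okAt1197500 : allFrom data.checkLog 1197500 2500 = true := by decide +kernel

end Cfsg.Agent.CosetCert.Fi24Index
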