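import Cfsg.Agent.CosetCert.Fi24Index.Defs

/-! Generated: kernel checks. -/

set_option Elab.async false

namespace Cfsg.Agent.CosetCert.Fi24Index

theorem log_okAt1200000 : allFrom data.checkLog 1200000 2500 = true := by decide +kernel

theorem log_okAt1202500 : allFrom data.checkLog 1202500 2500 = true := by decide +kernel

theorem log_okAt1205000 : allFrom data.checkLog 1205000 2500 = true := by decide +kernel

theorem log_okAt1207500 : allFrom data.checkLog 1207500 2500 = true := by decide +kernel

theorem log_okAt1210000 : allFrom data.checkLog 1210000 2500 = true := by decide +kernel

theorem log_okAt1212500 : allFrom data.checkLog 1212500 2500 = true := by decide +kernel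

theorem log_okAt1215000 : allFrom data.checkLog 1215000 2500 = true := by decide +kernel

theorem log_okAt1217500 : allFrom data.checkLog 1217500 2500 = true := by decide +kernel

theorem log_okAt1220000 : allFrom data.checkLog 1220000 2500 = true := by decide +kernel

theorem log_okAt1222500 : allFrom data.checkLog 1222500 2500 = true := by decide +kernel

theorem log_okAt1225000 : allFrom data.checkLog 1225000 2500 = true := by decide +kernel

theorem log_okAt1227500 : allFrom data.checkLog 1227500 2500 = true := by decide +kernel

theorem log_okAt1230000 : allFrom data.checkLog 1230000 2500 = true := by decide +kernel

theorem log_okAt1232500 : allFrom data.checkLog 1232500 2500 = true := by decide +kernel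

theorem log_okAt1235000 : allFrom data.checkLog 1235000 2500 = true := by decide +kernel

theorem log_okAt1237500 : allFrom data.checkLog 1237500 2500 = true := by decide +kernel

theorem log_okAt1240000 : allFrom data.checkLog 1240000 2500 = true := by decide +kernel

theorem log_okAt1242500 : allFrom data.checkLog 1242500 2500 = true := by decide +kernel

theorem log_okAt1245000 : allFrom data.checkLog 1245000 2500 = true := by decide +kernel

theorem log_okAt1247500 : allFrom data.checkLog 1247500 2500 = true := by decide +kernel

theorem log_okAt1250000 : allFrom data.checkLog 1250000 2500 = true := by decide +kernel

theorem log_okAt1252500 : allFrom data.checkLog 1252500 2500 = true := by decide +kernel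

theorem log_okAt1255000 : allFrom data.checkLog 1255000 2500 = true := by decide +kernel

theorem log_okAt1257500 : allFrom data.checkLog 1257500 2500 = true := by decide +kernel

end Cfsg.Agent.CosetCert.Fi24Index
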