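import Cfsg.Agent.CosetCert.Fi24Index.Defs

/-! Generated: kernel checks. -/

set_option Elab.async false

namespace Cfsg.Agent.CosetCert.Fi24Index

theorem log_okAt1260000 : allFrom data.checkLog 1260000 2500 = true := by decide +kernel

theorem log_okAt1262500 : allFrom data.checkLog 1262500 2500 = true := by decide +kernel

theorem log_okAt1265000 : allFrom data.checkLog 1265000 2500 = true := by decide +kernel

theorem log_okAt1267500 : allFrom data.checkLog 1267500 2500 = true := by decide +kernel

theorem log_okAt1270000 : allFrom data.checkLog 1270000 2500 = true := by decide +kernel

theorem log_okAt1272500 : allFrom data.checkLog 1272500 2500 = true := by decide +kernel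

theorem log_okAt1275000 : allFrom data.checkLog 1275000 2500 = true := by decide +kernel

theorem log_okAt1277500 : allFrom data.checkLog 1277500 2500 = true := by decide +kernel

theorem log_okAt1280000 : allFrom data.checkLog 1280000 2500 = true := by decide +kernel

theorem log_okAt1282500 : allFrom data.checkLog 1282500 2500 = true := by decide +kernel

theorem log_okAt1285000 : allFrom data.checkLog 1285000 2500 = true := by decide +kernel

theorem log_okAt1287500 : allFrom data.checkLog 1287500 2500 = true := by decide +kernel

theorem log_okAt1290000 : allFrom data.checkLog 1290000 2500 = true := by decide +kernel

theorem log_okAt1292500 : allFrom data.checkLog 1292500 2500 = true := by decide +kernel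

theorem log_okAt1295000 : allFrom data.checkLog 1295000 2500 = true := by decide +kernel

theorem log_okAt1297500 : allFrom data.checkLog 1297500 2500 = true := by decide +kernel

theorem log_okAt1300000 : allFrom data.checkLog 1300000 2500 = true := by decide +kernel

theorem log_okAt1302500 : allFrom data.checkLog 1302500 2500 = true := by decide +kernel

theorem log_okAt1305000 : allFrom data.checkLog 1305000 2500 = true := by decide +kernel

theorem log_okAt1307500 : allFrom data.checkLog 1307500 2500 = true := by decide +kernel

theorem log_okAt1310000 : allFrom data.checkLog 1310000 2500 = true := by decide +kernel

theorem log_okAt1312500 : allFrom data.checkLog 1312500 2500 = true := by decide +kernel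

theorem log_okAt1315000 : allFrom data.checkLog 1315000 2500 = true := by decide +kernel

theorem log_okAt1317500 : allFrom data.checkLog 1317500 2500 = true := by decide +kernel

end Cfsg.Agent.CosetCert.Fi24Index
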