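import Cfsg.Agent.CosetCert.Fi24Index.Defs

/-! Generated: kernel checks. -/

set_option Elab.async false

namespace Cfsg.Agent.CosetCert.Fi24Index

theorem log_okAt1320000 : allFrom data.checkLog 1320000 2500 = true := by decide +kernel

theorem log_okAt1322500 : allFrom data.checkLog 1322500 2500 = true := by decide +kernel

theorem log_okAt1325000 : allFrom data.checkLog 1325000 2500 = true := by decide +kernel

theorem log_okAt1327500 : allFrom data.checkLog 1327500 2500 = true := by decide +kernel

theorem log_okAt1330000 : allFrom data.checkLog 1330000 2500 = true := by decide +kernel

theorem log_okAt1332500 : allFrom data.checkLog 1332500 2500 = true := by decide +kernel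

theorem log_okAt1335000 : allFrom data.checkLog 1335000 2500 = true := by decide +kernel

theorem log_okAt1337500 : allFrom data.checkLog 1337500 2500 = true := by decide +kernel

theorem log_okAt1340000 : allFrom data.checkLog 1340000 2500 = true := by decide +kernel

theorem log_okAt1342500 : allFrom data.checkLog 1342500 2500 = true := by decide +kernel

theorem log_okAt1345000 : allFrom data.checkLog 1345000 2500 = true := by decide +kernel

theorem log_okAt1347500 : allFrom data.checkLog 1347500 2500 = true := by decide +kernel

theorem log_okAt1350000 : allFrom data.checkLog 1350000 2500 = true := by decide +kernel

theorem log_okAt1352500 : allFrom data.checkLog 1352500 2500 = true := by decide +kernel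

theorem log_okAt1355000 : allFrom data.checkLog 1355000 2500 = true := by decide +kernel

theorem log_okAt1357500 : allFrom data.checkLog 1357500 2500 = true := by decide +kernel

theorem log_okAt1360000 : allFrom data.checkLog 1360000 2500 = true := by decide +kernel

theorem log_okAt1362500 : allFrom data.checkLog 1362500 2500 = true := by decide +kernel

theorem log_okAt1365000 : allFrom data.checkLog 1365000 2500 = true := by decide +kernel

theorem log_okAt1367500 : allFrom data.checkLog 1367500 2500 = true := by decide +kernel

theorem log_okAt1370000 : allFrom data.checkLog 1370000 2500 = true := by decide +kernel

theorem log_okAt1372500 : allFrom data.checkLog 1372500 2500 = true := by decide +kernel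

theorem log_okAt1375000 : allFrom data.checkLog 1375000 2500 = true := by decide +kernel

theorem log_okAt1377500 : allFrom data.checkLog 1377500 2500 = true := by decide +kernel

end Cfsg.Agent.CosetCert.Fi24Index
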