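import Cfsg.Agent.CosetCert.Fi24Index.Defs

/-! Generated: kernel checks. -/

set_option Elab.async false

namespace Cfsg.Agent.CosetCert.Fi24Index

theorem log_okAt1440000 : allFrom data.checkLog 1440000 2500 = true := by decide +kernel

theorem log_okAt1442500 : allFrom data.checkLog 1442500 2500 = true := by decide +kernel

theorem log_okAt1445000 : allFrom data.checkLog 1445000 2500 = true := by decide +kernel

theorem log_okAt1447500 : allFrom data.checkLog 1447500 2500 = true := by decide +kernel

theorem log_okAt1450000 : allFrom data.checkLog 1450000 2500 = true := by decide +kernel

theorem log_okAt1452500 : allFrom data.checkLog 1452500 2500 = true := by decide +kernel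

theorem log_okAt1455000 : allFrom data.checkLog 1455000 2500 = true := by decide +kernel

theorem log_okAt1457500 : allFrom data.checkLog 1457500 2500 = true := by decide +kernel

theorem log_okAt1460000 : allFrom data.checkLog 1460000 2500 = true := by decide +kernel

theorem log_okAt1462500 : allFrom data.checkLog 1462500 2500 = true := by decide +kernel

theorem log_okAt1465000 : allFrom data.checkLog 1465000 2500 = true := by decide +kernel

theorem log_okAt1467500 : allFrom data.checkLog 1467500 2500 = true := by decide +kernel

theorem log_okAt1470000 : allFrom data.checkLog 1470000 2500 = true := by decide +kernel

theorem log_okAt1472500 : allFrom data.checkLog 1472500 2500 = true := by decide +kernel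

theorem log_okAt1475000 : allFrom data.checkLog 1475000 2500 = true := by decide +kernel

theorem log_okAt1477500 : allFrom data.checkLog 1477500 2500 = true := by decide +kernel

theorem log_okAt1480000 : allFrom data.checkLog 1480000 2500 = true := by decide +kernel

theorem log_okAt1482500 : allFrom data.checkLog 1482500 2500 = true := by decide +kernel

theorem log_okAt1485000 : allFrom data.checkLog 1485000 2500 = true := by decide +kernel

theorem log_okAt1487500 : allFrom data.checkLog 1487500 2500 = true := by decide +kernel

theorem log_okAt1490000 : allFrom data.checkLog 1490000 2500 = true := by decide +kernel

theorem log_okAt1492500 : allFrom data.checkLog 1492500 2500 = true := by decide +kernel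

theorem log_okAt1495000 : allFrom data.checkLog 1495000 2500 = true := by decide +kernel

theorem log_okAt1497500 : allFrom data.checkLog 1497500 2500 = true := by decide +kernel

end Cfsg.Agent.CosetCert.Fi24Index
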