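import Cfsg.Agent.CosetCert.Fi24Index.Defs

/-! Generated: kernel checks. -/

set_option Elab.async false

namespace Cfsg.Agent.CosetCert.Fi24Index

theorem log_okAt1500000 : allFrom data.checkLog 1500000 2500 = true := by decide +kernel

theorem log_okAt1502500 : allFrom data.checkLog 1502500 2500 = true := by decide +kernel

theorem log_okAt1505000 : allFrom data.checkLog 1505000 2500 = true := by decide +kernel

theorem log_okAt1507500 : allFrom data.checkLog 1507500 2500 = true := by decide +kernel

theorem log_okAt1510000 : allFrom data.checkLog 1510000 2500 = true := by decide +kernel

theorem log_okAt1512500 : allFrom data.checkLog 1512500 2500 = true := by decide +kernel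

theorem log_okAt1515000 : allFrom data.checkLog 1515000 2500 = true := by decide +kernel

theorem log_okAt1517500 : allFrom data.checkLog 1517500 2500 = true := by decide +kernel

theorem log_okAt1520000 : allFrom data.checkLog 1520000 2500 = true := by decide +kernel

theorem log_okAt1522500 : allFrom data.checkLog 1522500 2500 = true := by decide +kernel

theorem log_okAt1525000 : allFrom data.checkLog 1525000 2500 = true := by decide +kernel

theorem log_okAt1527500 : allFrom data.checkLog 1527500 2500 = true := by decide +kernel

theorem log_okAt1530000 : allFrom data.checkLog 1530000 2500 = true := by decide +kernel

theorem log_okAt1532500 : allFrom data.checkLog 1532500 2500 = true := by decide +kernel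

theorem log_okAt1535000 : allFrom data.checkLog 1535000 2500 = true := by decide +kernel

theorem log_okAt1537500 : allFrom data.checkLog 1537500 2500 = true := by decide +kernel

theorem log_okAt1540000 : allFrom data.checkLog 1540000 2500 = true := by decide +kernel

theorem log_okAt1542500 : allFrom data.checkLog 1542500 2500 = true := by decide +kernel

theorem log_okAt1545000 : allFrom data.checkLog 1545000 2500 = true := by decide +kernel

theorem log_okAt1547500 : allFrom data.checkLog 1547500 2500 = true := by decide +kernel

theorem log_okAt1550000 : allFrom data.checkLog 1550000 2500 = true := by decide +kernel

theorem log_okAt1552500 : allFrom data.checkLog 1552500 2500 = true := by decide +kernel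

theorem log_okAt1555000 : allFrom data.checkLog 1555000 2500 = true := by decide +kernel

theorem log_okAt1557500 : allFrom data.checkLog 1557500 2500 = true := by decide +kernel

end Cfsg.Agent.CosetCert.Fi24Index
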