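import Cfsg.Agent.CosetCert.Fi24Index.Defs

/-! Generated: kernel checks. -/

set_option Elab.async false

namespace Cfsg.Agent.CosetCert.Fi24Index

theorem log_okAt1560000 : allFrom data.checkLog 1560000 2500 = true := by decide +kernel

theorem log_okAt1562500 : allFrom data.checkLog 1562500 2500 = true := by decide +kernel

theorem log_okAt1565000 : allFrom data.checkLog 1565000 2500 = true := by decide +kernel

theorem log_okAt1567500 : allFrom data.checkLog 1567500 2500 = true := by decide +kernel

theorem log_okAt1570000 : allFrom data.checkLog 1570000 2500 = true := by decide +kernel

theorem log_okAt1572500 : allFrom data.checkLog 1572500 2500 = true := by decide +kernel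

theorem log_okAt1575000 : allFrom data.checkLog 1575000 2500 = true := by decide +kernel

theorem log_okAt1577500 : allFrom data.checkLog 1577500 2500 = true := by decide +kernel

theorem log_okAt1580000 : allFrom data.checkLog 1580000 2500 = true := by decide +kernel

theorem log_okAt1582500 : allFrom data.checkLog 1582500 2500 = true := by decide +kernel

theorem log_okAt1585000 : allFrom data.checkLog 1585000 2500 = true := by decide +kernel

theorem log_okAt1587500 : allFrom data.checkLog 1587500 2500 = true := by decide +kernel

theorem log_okAt1590000 : allFrom data.checkLog 1590000 2500 = true := by decide +kernel

theorem log_okAt1592500 : allFrom data.checkLog 1592500 2500 = true := by decide +kernel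

theorem log_okAt1595000 : allFrom data.checkLog 1595000 2500 = true := by decide +kernel

theorem log_okAt1597500 : allFrom data.checkLog 1597500 2500 = true := by decide +kernel

theorem log_okAt1600000 : allFrom data.checkLog 1600000 2500 = true := by decide +kernel

theorem log_okAt1602500 : allFrom data.checkLog 1602500 2500 = true := by decide +kernel

theorem log_okAt1605000 : allFrom data.checkLog 1605000 2500 = true := by decide +kernel

theorem log_okAt1607500 : allFrom data.checkLog 1607500 2500 = true := by decide +kernel

theorem log_okAt1610000 : allFrom data.checkLog 1610000 2500 = true := by decide +kernel

theorem log_okAt1612500 : allFrom data.checkLog 1612500 2500 = true := by decide +kernel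

theorem log_okAt1615000 : allFrom data.checkLog 1615000 2500 = true := by decide +kernel

theorem log_okAt1617500 : allFrom data.checkLog 1617500 2500 = true := by decide +kernel

end Cfsg.Agent.CosetCert.Fi24Index
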