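import Cfsg.Agent.CosetCert.Fi24Index.Defs

/-! Generated: kernel checks. -/

set_option Elab.async false

namespace Cfsg.Agent.CosetCert.Fi24Index

theorem log_okAt1620000 : allFrom data.checkLog 1620000 2500 = true := by decide +kernel

theorem log_okAt1622500 : allFrom data.checkLog 1622500 2500 = true := by decide +kernel

theorem log_okAt1625000 : allFrom data.checkLog 1625000 2500 = true := by decide +kernel

theorem log_okAt1627500 : allFrom data.checkLog 1627500 2500 = true := by decide +kernel

theorem log_okAt1630000 : allFrom data.checkLog 1630000 2500 = true := by decide +kernel

theorem log_okAt1632500 : allFrom data.checkLog 1632500 2500 = true := by decide +kernel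

theorem log_okAt1635000 : allFrom data.checkLog 1635000 2500 = true := by decide +kernel

theorem log_okAt1637500 : allFrom data.checkLog 1637500 2500 = true := by decide +kernel

theorem log_okAt1640000 : allFrom data.checkLog 1640000 2500 = true := by decide +kernel

theorem log_okAt1642500 : allFrom data.checkLog 1642500 2500 = true := by decide +kernel

theorem log_okAt1645000 : allFrom data.checkLog 1645000 2500 = true := by decide +kernel

theorem log_okAt1647500 : allFrom data.checkLog 1647500 2500 = true := by decide +kernel

theorem log_okAt1650000 : allFrom data.checkLog 1650000 2500 = true := by decide +kernel

theorem log_okAt1652500 : allFrom data.checkLog 1652500 2500 = true := by decide +kernel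

theorem log_okAt1655000 : allFrom data.checkLog 1655000 2500 = true := by decide +kernel

theorem log_okAt1657500 : allFrom data.checkLog 1657500 2500 = true := by decide +kernel

theorem log_okAt1660000 : allFrom data.checkLog 1660000 2500 = true := by decide +kernel

theorem log_okAt1662500 : allFrom data.checkLog 1662500 2500 = true := by decide +kernel

theorem log_okAt1665000 : allFrom data.checkLog 1665000 2500 = true := by decide +kernel

theorem log_okAt1667500 : allFrom data.checkLog 1667500 2500 = true := by decide +kernel

theorem log_okAt1670000 : allFrom data.checkLog 1670000 2500 = true := by decide +kernel

theorem log_okAt1672500 : allFrom data.checkLog 1672500 2500 = true := by decide +kernel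

theorem log_okAt1675000 : allFrom data.checkLog 1675000 2500 = true := by decide +kernel

theorem log_okAt1677500 : allFrom data.checkLog 1677500 2500 = true := by decide +kernel

end Cfsg.Agent.CosetCert.Fi24Index
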