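import Cfsg.Agent.CosetCert.Fi24Index.Defs

/-! Generated: kernel checks. -/

set_option Elab.async false

namespace Cfsg.Agent.CosetCert.Fi24Index

theorem log_okAt1680000 : allFrom data.checkLog 1680000 2500 = true := by decide +kernel

theorem log_okAt1682500 : allFrom data.checkLog 1682500 2500 = true := by decide +kernel

theorem log_okAt1685000 : allFrom data.checkLog 1685000 2500 = true := by decide +kernel

theorem log_okAt1687500 : allFrom data.checkLog 1687500 2500 = true := by decide +kernel

theorem log_okAt1690000 : allFrom data.checkLog 1690000 2500 = true := by decide +kernel

theorem log_okAt1692500 : allFrom data.checkLog 1692500 2500 = true := by decide +kernel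

theorem log_okAt1695000 : allFrom data.checkLog 1695000 2500 = true := by decide +kernel

theorem log_okAt1697500 : allFrom data.checkLog 1697500 2500 = true := by decide +kernel

theorem log_okAt1700000 : allFrom data.checkLog 1700000 2500 = true := by decide +kernel

theorem log_okAt1702500 : allFrom data.checkLog 1702500 2500 = true := by decide +kernel

theorem log_okAt1705000 : allFrom data.checkLog 1705000 2500 = true := by decide +kernel

theorem log_okAt1707500 : allFrom data.checkLog 1707500 2500 = true := by decide +kernel

theorem log_okAt1710000 : allFrom data.checkLog 1710000 2500 = true := by decide +kernel

theorem log_okAt1712500 : allFrom data.checkLog 1712500 2500 = true := by decide +kernel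

theorem log_okAt1715000 : allFrom data.checkLog 1715000 2500 = true := by decide +kernel

theorem log_okAt1717500 : allFrom data.checkLog 1717500 2500 = true := by decide +kernel

theorem log_okAt1720000 : allFrom data.checkLog 1720000 2500 = true := by decide +kernel

theorem log_okAt1722500 : allFrom data.checkLog 1722500 2500 = true := by decide +kernel

theorem log_okAt1725000 : allFrom data.checkLog 1725000 2500 = true := by decide +kernel

theorem log_okAt1727500 : allFrom data.checkLog 1727500 2500 = true := by decide +kernel

theorem log_okAt1730000 : allFrom data.checkLog 1730000 2500 = true := by decide +kernel

theorem log_okAt1732500 : allFrom data.checkLog 1732500 2500 = true := by decide +kernel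

theorem log_okAt1735000 : allFrom data.checkLog 1735000 2500 = true := by decide +kernel

theorem log_okAt1737500 : allFrom data.checkLog 1737500 2500 = true := by decide +kernel

end Cfsg.Agent.CosetCert.Fi24Index
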