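import Cfsg.Agent.CosetCert.Fi24Index.Defs

/-! Generated: kernel checks. -/

set_option Elab.async false

namespace Cfsg.Agent.CosetCert.Fi24Index

theorem log_okAt1740000 : allFrom data.checkLog 1740000 2500 = true := by decide +kernel

theorem log_okAt1742500 : allFrom data.checkLog 1742500 2500 = true := by decide +kernel

theorem log_okAt1745000 : allFrom data.checkLog 1745000 2500 = true := by decide +kernel

theorem log_okAt1747500 : allFrom data.checkLog 1747500 2500 = true := by decide +kernel

theorem log_okAt1750000 : allFrom data.checkLog 1750000 2500 = true := by decide +kernel

theorem log_okAt1752500 : allFrom data.checkLog 1752500 2500 = true := by decide +kernel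

theorem log_okAt1755000 : allFrom data.checkLog 1755000 2500 = true := by decide +kernel

theorem log_okAt1757500 : allFrom data.checkLog 1757500 2500 = true := by decide +kernel

theorem log_okAt1760000 : allFrom data.checkLog 1760000 2500 = true := by decide +kernel

theorem log_okAt1762500 : allFrom data.checkLog 1762500 2500 = true := by decide +kernel

theorem log_okAt1765000 : allFrom data.checkLog 1765000 2500 = true := by decide +kernel

theorem log_okAt1767500 : allFrom data.checkLog 1767500 2500 = true := by decide +kernel

theorem log_okAt1770000 : allFrom data.checkLog 1770000 2500 = true := by decide +kernel

theorem log_okAt1772500 : allFrom data.checkLog 1772500 2500 = true := by decide +kernel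

theorem log_okAt1775000 : allFrom data.checkLog 1775000 2500 = true := by decide +kernel

theorem log_okAt1777500 : allFrom data.checkLog 1777500 2500 = true := by decide +kernel

theorem log_okAt1780000 : allFrom data.checkLog 1780000 2500 = true := by decide +kernel

theorem log_okAt1782500 : allFrom data.checkLog 1782500 2500 = true := by decide +kernel

theorem log_okAt1785000 : allFrom data.checkLog 1785000 2500 = true := by decide +kernel

theorem log_okAt1787500 : allFrom data.checkLog 1787500 2500 = true := by decide +kernel

theorem log_okAt1790000 : allFrom data.checkLog 1790000 2500 = true := by decide +kernel

theorem log_okAt1792500 : allFrom data.checkLog 1792500 2500 = true := by decide +kernel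

theorem log_okAt1795000 : allFrom data.checkLog 1795000 2500 = true := by decide +kernel

theorem log_okAt1797500 : allFrom data.checkLog 1797500 2500 = true := by decide +kernel

end Cfsg.Agent.CosetCert.Fi24Index
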