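import Cfsg.Agent.CosetCert.Fi24Index.Defs

/-! Generated: kernel checks. -/

set_option Elab.async false

namespace Cfsg.Agent.CosetCert.Fi24Index

theorem log_okAt1800000 : allFrom data.checkLog 1800000 2500 = true := by decide +kernel

theorem log_okAt1802500 : allFrom data.checkLog 1802500 2500 = true := by decide +kernel

theorem log_okAt1805000 : allFrom data.checkLog 1805000 2500 = true := by decide +kernel

theorem log_okAt1807500 : allFrom data.checkLog 1807500 2500 = true := by decide +kernel

theorem log_okAt1810000 : allFrom data.checkLog 1810000 2500 = true := by decide +kernel

theorem log_okAt1812500 : allFrom data.checkLog 1812500 2500 = true := by decide +kernel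

theorem log_okAt1815000 : allFrom data.checkLog 1815000 2500 = true := by decide +kernel

theorem log_okAt1817500 : allFrom data.checkLog 1817500 2500 = true := by decide +kernel

theorem log_okAt1820000 : allFrom data.checkLog 1820000 2500 = true := by decide +kernel

theorem log_okAt1822500 : allFrom data.checkLog 1822500 2500 = true := by decide +kernel

theorem log_okAt1825000 : allFrom data.checkLog 1825000 2500 = true := by decide +kernel

theorem log_okAt1827500 : allFrom data.checkLog 1827500 2500 = true := by decide +kernel

theorem log_okAt1830000 : allFrom data.checkLog 1830000 2500 = true := by decide +kernel

theorem log_okAt1832500 : allFrom data.checkLog 1832500 2500 = true := by decide +kernel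

theorem log_okAt1835000 : allFrom data.checkLog 1835000 2500 = true := by decide +kernel

theorem log_okAt1837500 : allFrom data.checkLog 1837500 2500 = true := by decide +kernel

theorem log_okAt1840000 : allFrom data.checkLog 1840000 2500 = true := by decide +kernel

theorem log_okAt1842500 : allFrom data.checkLog 1842500 2500 = true := by decide +kernel

theorem log_okAt1845000 : allFrom data.checkLog 1845000 2500 = true := by decide +kernel

theorem log_okAt1847500 : allFrom data.checkLog 1847500 2500 = true := by decide +kernel

theorem log_okAt1850000 : allFrom data.checkLog 1850000 2500 = true := by decide +kernel

theorem log_okAt1852500 : allFrom data.checkLog 1852500 2500 = true := by decide +kernel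

theorem log_okAt1855000 : allFrom data.checkLog 1855000 2500 = true := by decide +kernel

theorem log_okAt1857500 : allFrom data.checkLog 1857500 2500 = true := by decide +kernel

end Cfsg.Agent.CosetCert.Fi24Index
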