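import Cfsg.Agent.CosetCert.Fi24Index.Defs

/-! Generated: kernel checks. -/

set_option Elab.async false

namespace Cfsg.Agent.CosetCert.Fi24Index

theorem log_okAt1860000 : allFrom data.checkLog 1860000 2500 = true := by decide +kernel

theorem log_okAt1862500 : allFrom data.checkLog 1862500 2500 = true := by decide +kernel

theorem log_okAt1865000 : allFrom data.checkLog 1865000 2500 = true := by decide +kernel

theorem log_okAt1867500 : allFrom data.checkLog 1867500 2500 = true := by decide +kernel

theorem log_okAt1870000 : allFrom data.checkLog 1870000 2500 = true := by decide +kernel

theorem log_okAt1872500 : allFrom data.checkLog 1872500 2500 = true := by decide +kernel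

theorem log_okAt1875000 : allFrom data.checkLog 1875000 2500 = true := by decide +kernel

theorem log_okAt1877500 : allFrom data.checkLog 1877500 2500 = true := by decide +kernel

theorem log_okAt1880000 : allFrom data.checkLog 1880000 2500 = true := by decide +kernel

theorem log_okAt1882500 : allFrom data.checkLog 1882500 2500 = true := by decide +kernel

theorem log_okAt1885000 : allFrom data.checkLog 1885000 2500 = true := by decide +kernel

theorem log_okAt1887500 : allFrom data.checkLog 1887500 2500 = true := by decide +kernel

theorem log_okAt1890000 : allFrom data.checkLog 1890000 2500 = true := by decide +kernel

theorem log_okAt1892500 : allFrom data.checkLog 1892500 2500 = true := by decide +kernel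

theorem log_okAt1895000 : allFrom data.checkLog 1895000 2500 = true := by decide +kernel

theorem log_okAt1897500 : allFrom data.checkLog 1897500 2500 = true := by decide +kernel

theorem log_okAt1900000 : allFrom data.checkLog 1900000 2500 = true := by decide +kernel

theorem log_okAt1902500 : allFrom data.checkLog 1902500 2500 = true := by decide +kernel

theorem log_okAt1905000 : allFrom data.checkLog 1905000 2500 = true := by decide +kernel

theorem log_okAt1907500 : allFrom data.checkLog 1907500 2500 = true := by decide +kernel

theorem log_okAt1910000 : allFrom data.checkLog 1910000 2500 = true := by decide +kernel

theorem log_okAt1912500 : allFrom data.checkLog 1912500 2500 = true := by decide +kernel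

theorem log_okAt1915000 : allFrom data.checkLog 1915000 2500 = true := by decide +kernel

theorem log_okAt1917500 : allFrom data.checkLog 1917500 2500 = true := by decide +kernel

end Cfsg.Agent.CosetCert.Fi24Index
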