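import Cfsg.Agent.CosetCert.Fi24Index.Defs

/-! Generated: kernel checks. -/

set_option Elab.async false

namespace Cfsg.Agent.CosetCert.Fi24Index

theorem log_okAt1920000 : allFrom data.checkLog 1920000 2500 = true := by decide +kernel

theorem log_okAt1922500 : allFrom data.checkLog 1922500 2500 = true := by decide +kernel

theorem log_okAt1925000 : allFrom data.checkLog 1925000 2500 = true := by decide +kernel

theorem log_okAt1927500 : allFrom data.checkLog 1927500 2500 = true := by decide +kernel

theorem log_okAt1930000 : allFrom data.checkLog 1930000 2500 = true := by decide +kernel

theorem log_okAt1932500 : allFrom data.checkLog 1932500 2500 = true := by decide +kernel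

theorem log_okAt1935000 : allFrom data.checkLog 1935000 2500 = true := by decide +kernel

theorem log_okAt1937500 : allFrom data.checkLog 1937500 2500 = true := by decide +kernel

theorem log_okAt1940000 : allFrom data.checkLog 1940000 2500 = true := by decide +kernel

theorem log_okAt1942500 : allFrom data.checkLog 1942500 2500 = true := by decide +kernel

theorem log_okAt1945000 : allFrom data.checkLog 1945000 2500 = true := by decide +kernel

theorem log_okAt1947500 : allFrom data.checkLog 1947500 2500 = true := by decide +kernel

theorem log_okAt1950000 : allFrom data.checkLog 1950000 2500 = true := by decide +kernel

theorem log_okAt1952500 : allFrom data.checkLog 1952500 2500 = true := by decide +kernel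

theorem log_okAt1955000 : allFrom data.checkLog 1955000 2500 = true := by decide +kernel

theorem log_okAt1957500 : allFrom data.checkLog 1957500 2500 = true := by decide +kernel

theorem log_okAt1960000 : allFrom data.checkLog 1960000 2500 = true := by decide +kernel

theorem log_okAt1962500 : allFrom data.checkLog 1962500 2500 = true := by decide +kernel

theorem log_okAt1965000 : allFrom data.checkLog 1965000 2500 = true := by decide +kernel

theorem log_okAt1967500 : allFrom data.checkLog 1967500 2500 = true := by decide +kernel

theorem log_okAt1970000 : allFrom data.checkLog 1970000 2500 = true := by decide +kernel

theorem log_okAt1972500 : allFrom data.checkLog 1972500 2500 = true := by decide +kernel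

theorem log_okAt1975000 : allFrom data.checkLog 1975000 2500 = true := by decide +kernel

theorem log_okAt1977500 : allFrom data.checkLog 1977500 2500 = true := by decide +kernel

end Cfsg.Agent.CosetCert.Fi24Index
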