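import Cfsg.Agent.CosetCert.Fi24Index.Defs

/-! Generated: kernel checks. -/

set_option Elab.async false

namespace Cfsg.Agent.CosetCert.Fi24Index

theorem log_okAt1980000 : allFrom data.checkLog 1980000 2500 = true := by decide +kernel

theorem log_okAt1982500 : allFrom data.checkLog 1982500 2500 = true := by decide +kernel

theorem log_okAt1985000 : allFrom data.checkLog 1985000 2500 = true := by decide +kernel

theorem log_okAt1987500 : allFrom data.checkLog 1987500 2500 = true := by decide +kernel

theorem log_okAt1990000 : allFrom data.checkLog 1990000 2500 = true := by decide +kernel

theorem log_okAt1992500 : allFrom data.checkLog 1992500 2500 = true := by decide +kernel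

theorem log_okAt1995000 : allFrom data.checkLog 1995000 2500 = true := by decide +kernel

theorem log_okAt1997500 : allFrom data.checkLog 1997500 2500 = true := by decide +kernel

theorem log_okAt2000000 : allFrom data.checkLog 2000000 2500 = true := by decide +kernel

theorem log_okAt2002500 : allFrom data.checkLog 2002500 2500 = true := by decide +kernel

theorem log_okAt2005000 : allFrom data.checkLog 2005000 2500 = true := by decide +kernel

theorem log_okAt2007500 : allFrom data.checkLog 2007500 2500 = true := by decide +kernel

theorem log_okAt2010000 : allFrom data.checkLog 2010000 2500 = true := by decide +kernel

theorem log_okAt2012500 : allFrom data.checkLog 2012500 2500 = true := by decide +kernel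

theorem log_okAt2015000 : allFrom data.checkLog 2015000 2500 = true := by decide +kernel

theorem log_okAt2017500 : allFrom data.checkLog 2017500 2500 = true := by decide +kernel

theorem log_okAt2020000 : allFrom data.checkLog 2020000 2500 = true := by decide +kernel

theorem log_okAt2022500 : allFrom data.checkLog 2022500 2500 = true := by decide +kernel

theorem log_okAt2025000 : allFrom data.checkLog 2025000 2500 = true := by decide +kernel

theorem log_okAt2027500 : allFrom data.checkLog 2027500 2500 = true := by decide +kernel

theorem log_okAt2030000 : allFrom data.checkLog 2030000 2500 = true := by decide +kernel

theorem log_okAt2032500 : allFrom data.checkLog 2032500 2500 = true := by decide +kernel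

theorem log_okAt2035000 : allFrom data.checkLog 2035000 2500 = true := by decide +kernel

theorem log_okAt2037500 : allFrom data.checkLog 2037500 2500 = true := by decide +kernel

end Cfsg.Agent.CosetCert.Fi24Index
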