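import Cfsg.Agent.CosetCert.Fi24Index.Defs

/-! Generated: kernel checks. -/

set_option Elab.async false

namespace Cfsg.Agent.CosetCert.Fi24Index

theorem log_okAt2040000 : allFrom data.checkLog 2040000 2500 = true := by decide +kernel

theorem log_okAt2042500 : allFrom data.checkLog 2042500 2500 = true := by decide +kernel

theorem log_okAt2045000 : allFrom data.checkLog 2045000 2500 = true := by decide +kernel

theorem log_okAt2047500 : allFrom data.checkLog 2047500 2500 = true := by decide +kernel

theorem log_okAt2050000 : allFrom data.checkLog 2050000 2500 = true := by decide +kernel

theorem log_okAt2052500 : allFrom data.checkLog 2052500 2500 = true := by decide +kernel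

theorem log_okAt2055000 : allFrom data.checkLog 2055000 2500 = true := by decide +kernel

theorem log_okAt2057500 : allFrom data.checkLog 2057500 2500 = true := by decide +kernel

theorem log_okAt2060000 : allFrom data.checkLog 2060000 2500 = true := by decide +kernel

theorem log_okAt2062500 : allFrom data.checkLog 2062500 2500 = true := by decide +kernel

theorem log_okAt2065000 : allFrom data.checkLog 2065000 2500 = true := by decide +kernel

theorem log_okAt2067500 : allFrom data.checkLog 2067500 2500 = true := by decide +kernel

theorem log_okAt2070000 : allFrom data.checkLog 2070000 2500 = true := by decide +kernel

theorem log_okAt2072500 : allFrom data.checkLog 2072500 2500 = true := by decide +kernel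

theorem log_okAt2075000 : allFrom data.checkLog 2075000 2500 = true := by decide +kernel

theorem log_okAt2077500 : allFrom data.checkLog 2077500 2500 = true := by decide +kernel

theorem log_okAt2080000 : allFrom data.checkLog 2080000 2500 = true := by decide +kernel

theorem log_okAt2082500 : allFrom data.checkLog 2082500 2500 = true := by decide +kernel

theorem log_okAt2085000 : allFrom data.checkLog 2085000 2500 = true := by decide +kernel

theorem log_okAt2087500 : allFrom data.checkLog 2087500 2500 = true := by decide +kernel

theorem log_okAt2090000 : allFrom data.checkLog 2090000 2500 = true := by decide +kernel

theorem log_okAt2092500 : allFrom data.checkLog 2092500 2500 = true := by decide +kernel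

theorem log_okAt2095000 : allFrom data.checkLog 2095000 2500 = true := by decide +kernel

theorem log_okAt2097500 : allFrom data.checkLog 2097500 2500 = true := by decide +kernel

end Cfsg.Agent.CosetCert.Fi24Index
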