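import Cfsg.Agent.CosetCert.Fi24Index.Defs

/-! Generated: kernel checks. -/

set_option Elab.async false

namespace Cfsg.Agent.CosetCert.Fi24Index

theorem log_okAt2160000 : allFrom data.checkLog 2160000 2500 = true := by decide +kernel

theorem log_okAt2162500 : allFrom data.checkLog 2162500 2500 = true := by decide +kernel

theorem log_okAt2165000 : allFrom data.checkLog 2165000 2500 = true := by decide +kernel

theorem log_okAt2167500 : allFrom data.checkLog 2167500 2500 = true := by decide +kernel

theorem log_okAt2170000 : allFrom data.checkLog 2170000 2500 = true := by decide +kernel

theorem log_okAt2172500 : allFrom data.checkLog 2172500 2500 = true := by decide +kernel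

theorem log_okAt2175000 : allFrom data.checkLog 2175000 2500 = true := by decide +kernel

theorem log_okAt2177500 : allFrom data.checkLog 2177500 2500 = true := by decide +kernel

theorem log_okAt2180000 : allFrom data.checkLog 2180000 2500 = true := by decide +kernel

theorem log_okAt2182500 : allFrom data.checkLog 2182500 2500 = true := by decide +kernel

theorem log_okAt2185000 : allFrom data.checkLog 2185000 2500 = true := by decide +kernel

theorem log_okAt2187500 : allFrom data.checkLog 2187500 2500 = true := by decide +kernel

theorem log_okAt2190000 : allFrom data.checkLog 2190000 2500 = true := by decide +kernel

theorem log_okAt2192500 : allFrom data.checkLog 2192500 2500 = true := by decide +kernel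

theorem log_okAt2195000 : allFrom data.checkLog 2195000 2500 = true := by decide +kernel

theorem log_okAt2197500 : allFrom data.checkLog 2197500 2500 = true := by decide +kernel

theorem log_okAt2200000 : allFrom data.checkLog 2200000 2500 = true := by decide +kernel

theorem log_okAt2202500 : allFrom data.checkLog 2202500 2500 = true := by decide +kernel

theorem log_okAt2205000 : allFrom data.checkLog 2205000 2500 = true := by decide +kernel

theorem log_okAt2207500 : allFrom data.checkLog 2207500 2500 = true := by decide +kernel

theorem log_okAt2210000 : allFrom data.checkLog 2210000 2500 = true := by decide +kernel

theorem log_okAt2212500 : allFrom data.checkLog 2212500 2500 = true := by decide +kernel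

theorem log_okAt2215000 : allFrom data.checkLog 2215000 2500 = true := by decide +kernel

theorem log_okAt2217500 : allFrom data.checkLog 2217500 2500 = true := by decide +kernel

end Cfsg.Agent.CosetCert.Fi24Index
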