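import Cfsg.Agent.CosetCert.Fi24Index.Defs

/-! Generated: kernel checks. -/

set_option Elab.async false

namespace Cfsg.Agent.CosetCert.Fi24Index

theorem log_okAt2220000 : allFrom data.checkLog 2220000 2500 = true := by decide +kernel

theorem log_okAt2222500 : allFrom data.checkLog 2222500 2500 = true := by decide +kernel

theorem log_okAt2225000 : allFrom data.checkLog 2225000 2500 = true := by decide +kernel

theorem log_okAt2227500 : allFrom data.checkLog 2227500 2500 = true := by decide +kernel

theorem log_okAt2230000 : allFrom data.checkLog 2230000 2500 = true := by decide +kernel

theorem log_okAt2232500 : allFrom data.checkLog 2232500 2500 = true := by decide +kernel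

theorem log_okAt2235000 : allFrom data.checkLog 2235000 2500 = true := by decide +kernel

theorem log_okAt2237500 : allFrom data.checkLog 2237500 2500 = true := by decide +kernel

theorem log_okAt2240000 : allFrom data.checkLog 2240000 2500 = true := by decide +kernel

theorem log_okAt2242500 : allFrom data.checkLog 2242500 2500 = true := by decide +kernel

theorem log_okAt2245000 : allFrom data.checkLog 2245000 2500 = true := by decide +kernel

theorem log_okAt2247500 : allFrom data.checkLog 2247500 2500 = true := by decide +kernel

theorem log_okAt2250000 : allFrom data.checkLog 2250000 2500 = true := by decide +kernel

theorem log_okAt2252500 : allFrom data.checkLog 2252500 2500 = true := by decide +kernel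

theorem log_okAt2255000 : allFrom data.checkLog 2255000 2500 = true := by decide +kernel

theorem log_okAt2257500 : allFrom data.checkLog 2257500 2500 = true := by decide +kernel

theorem log_okAt2260000 : allFrom data.checkLog 2260000 2500 = true := by decide +kernel

theorem log_okAt2262500 : allFrom data.checkLog 2262500 2500 = true := by decide +kernel

theorem log_okAt2265000 : allFrom data.checkLog 2265000 2500 = true := by decide +kernel

theorem log_okAt2267500 : allFrom data.checkLog 2267500 2500 = true := by decide +kernel

theorem log_okAt2270000 : allFrom data.checkLog 2270000 2500 = true := by decide +kernel

theorem log_okAt2272500 : allFrom data.checkLog 2272500 2500 = true := by decide +kernel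

theorem log_okAt2275000 : allFrom data.checkLog 2275000 2500 = true := by decide +kernel

theorem log_okAt2277500 : allFrom data.checkLog 2277500 2500 = true := by decide +kernel

end Cfsg.Agent.CosetCert.Fi24Index
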