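import Cfsg.Agent.CosetCert.Fi24Index.Defs

/-! Generated: kernel checks. -/

set_option Elab.async false

namespace Cfsg.Agent.CosetCert.Fi24Index

theorem log_okAt2280000 : allFrom data.checkLog 2280000 2500 = true := by decide +kernel

theorem log_okAt2282500 : allFrom data.checkLog 2282500 2500 = true := by decide +kernel

theorem log_okAt2285000 : allFrom data.checkLog 2285000 2500 = true := by decide +kernel

theorem log_okAt2287500 : allFrom data.checkLog 2287500 2500 = true := by decide +kernel

theorem log_okAt2290000 : allFrom data.checkLog 2290000 2500 = true := by decide +kernel

theorem log_okAt2292500 : allFrom data.checkLog 2292500 2500 = true := by decide +kernel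

theorem log_okAt2295000 : allFrom data.checkLog 2295000 2500 = true := by decide +kernel

theorem log_okAt2297500 : allFrom data.checkLog 2297500 2500 = true := by decide +kernel

theorem log_okAt2300000 : allFrom data.checkLog 2300000 2500 = true := by decide +kernel

theorem log_okAt2302500 : allFrom data.checkLog 2302500 1683 = true := by decide +kernel

end Cfsg.Agent.CosetCert.Fi24Index
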