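import Cfsg.Agent.CosetCert.Fi24Index.Defs

/-! Generated: kernel checks. -/

set_option Elab.async false

namespace Cfsg.Agent.CosetCert.Fi24Index

theorem log_okAt240000 : allFrom data.checkLog 240000 2500 = true := by decide +kernel

theorem log_okAt242500 : allFrom data.checkLog 242500 2500 = true := by decide +kernel

theorem log_okAt245000 : allFrom data.checkLog 245000 2500 = true := by decide +kernel

theorem log_okAt247500 : allFrom data.checkLog 247500 2500 = true := by decide +kernel

theorem log_okAt250000 : allFrom data.checkLog 250000 2500 = true := by decide +kernel

theorem log_okAt252500 : allFrom data.checkLog 252500 2500 = true := by decide +kernel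

theorem log_okAt255000 : allFrom data.checkLog 255000 2500 = true := by decide +kernel

theorem log_okAt257500 : allFrom data.checkLog 257500 2500 = true := by decide +kernel

theorem log_okAt260000 : allFrom data.checkLog 260000 2500 = true := by decide +kernel

theorem log_okAt262500 : allFrom data.checkLog 262500 2500 = true := by decide +kernel

theorem log_okAt265000 : allFrom data.checkLog 265000 2500 = true := by decide +kernel

theorem log_okAt267500 : allFrom data.checkLog 267500 2500 = true := by decide +kernel

theorem log_okAt270000 : allFrom data.checkLog 270000 2500 = true := by decide +kernel

theorem log_okAt272500 : allFrom data.checkLog 272500 2500 = true := by decide +kernel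

theorem log_okAt275000 : allFrom data.checkLog 275000 2500 = true := by decide +kernel

theorem log_okAt277500 : allFrom data.checkLog 277500 2500 = true := by decide +kernel

theorem log_okAt280000 : allFrom data.checkLog 280000 2500 = true := by decide +kernel

theorem log_okAt282500 : allFrom data.checkLog 282500 2500 = true := by decide +kernel

theorem log_okAt285000 : allFrom data.checkLog 285000 2500 = true := by decide +kernel

theorem log_okAt287500 : allFrom data.checkLog 287500 2500 = true := by decide +kernel

theorem log_okAt290000 : allFrom data.checkLog 290000 2500 = true := by decide +kernel

theorem log_okAt292500 : allFrom data.checkLog 292500 2500 = true := by decide +kernel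

theorem log_okAt295000 : allFrom data.checkLog 295000 2500 = true := by decide +kernel

theorem log_okAt297500 : allFrom data.checkLog 297500 2500 = true := by decide +kernel

end Cfsg.Agent.CosetCert.Fi24Index
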