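import Cfsg.Agent.CosetCert.Fi24Index.Defs

/-! Generated: kernel checks. -/

set_option Elab.async false

namespace Cfsg.Agent.CosetCert.Fi24Index

theorem log_okAt300000 : allFrom data.checkLog 300000 2500 = true := by decide +kernel

theorem log_okAt302500 : allFrom data.checkLog 302500 2500 = true := by decide +kernel

theorem log_okAt305000 : allFrom data.checkLog 305000 2500 = true := by decide +kernel

theorem log_okAt307500 : allFrom data.checkLog 307500 2500 = true := by decide +kernel

theorem log_okAt310000 : allFrom data.checkLog 310000 2500 = true := by decide +kernel

theorem log_okAt312500 : allFrom data.checkLog 312500 2500 = true := by decide +kernel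

theorem log_okAt315000 : allFrom data.checkLog 315000 2500 = true := by decide +kernel

theorem log_okAt317500 : allFrom data.checkLog 317500 2500 = true := by decide +kernel

theorem log_okAt320000 : allFrom data.checkLog 320000 2500 = true := by decide +kernel

theorem log_okAt322500 : allFrom data.checkLog 322500 2500 = true := by decide +kernel

theorem log_okAt325000 : allFrom data.checkLog 325000 2500 = true := by decide +kernel

theorem log_okAt327500 : allFrom data.checkLog 327500 2500 = true := by decide +kernel

theorem log_okAt330000 : allFrom data.checkLog 330000 2500 = true := by decide +kernel

theorem log_okAt332500 : allFrom data.checkLog 332500 2500 = true := by decide +kernel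

theorem log_okAt335000 : allFrom data.checkLog 335000 2500 = true := by decide +kernel

theorem log_okAt337500 : allFrom data.checkLog 337500 2500 = true := by decide +kernel

theorem log_okAt340000 : allFrom data.checkLog 340000 2500 = true := by decide +kernel

theorem log_okAt342500 : allFrom data.checkLog 342500 2500 = true := by decide +kernel

theorem log_okAt345000 : allFrom data.checkLog 345000 2500 = true := by decide +kernel

theorem log_okAt347500 : allFrom data.checkLog 347500 2500 = true := by decide +kernel

theorem log_okAt350000 : allFrom data.checkLog 350000 2500 = true := by decide +kernel

theorem log_okAt352500 : allFrom data.checkLog 352500 2500 = true := by decide +kernel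

theorem log_okAt355000 : allFrom data.checkLog 355000 2500 = true := by decide +kernel

theorem log_okAt357500 : allFrom data.checkLog 357500 2500 = true := by decide +kernel

end Cfsg.Agent.CosetCert.Fi24Index
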