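import Cfsg.Agent.CosetCert.Fi24Index.Defs

/-! Generated: kernel checks. -/

set_option Elab.async false

namespace Cfsg.Agent.CosetCert.Fi24Index

theorem log_okAt360000 : allFrom data.checkLog 360000 2500 = true := by decide +kernel

theorem log_okAt362500 : allFrom data.checkLog 362500 2500 = true := by decide +kernel

theorem log_okAt365000 : allFrom data.checkLog 365000 2500 = true := by decide +kernel

theorem log_okAt367500 : allFrom data.checkLog 367500 2500 = true := by decide +kernel

theorem log_okAt370000 : allFrom data.checkLog 370000 2500 = true := by decide +kernel

theorem log_okAt372500 : allFrom data.checkLog 372500 2500 = true := by decide +kernel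

theorem log_okAt375000 : allFrom data.checkLog 375000 2500 = true := by decide +kernel

theorem log_okAt377500 : allFrom data.checkLog 377500 2500 = true := by decide +kernel

theorem log_okAt380000 : allFrom data.checkLog 380000 2500 = true := by decide +kernel

theorem log_okAt382500 : allFrom data.checkLog 382500 2500 = true := by decide +kernel

theorem log_okAt385000 : allFrom data.checkLog 385000 2500 = true := by decide +kernel

theorem log_okAt387500 : allFrom data.checkLog 387500 2500 = true := by decide +kernel

theorem log_okAt390000 : allFrom data.checkLog 390000 2500 = true := by decide +kernel

theorem log_okAt392500 : allFrom data.checkLog 392500 2500 = true := by decide +kernel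

theorem log_okAt395000 : allFrom data.checkLog 395000 2500 = true := by decide +kernel

theorem log_okAt397500 : allFrom data.checkLog 397500 2500 = true := by decide +kernel

theorem log_okAt400000 : allFrom data.checkLog 400000 2500 = true := by decide +kernel

theorem log_okAt402500 : allFrom data.checkLog 402500 2500 = true := by decide +kernel

theorem log_okAt405000 : allFrom data.checkLog 405000 2500 = true := by decide +kernel

theorem log_okAt407500 : allFrom data.checkLog 407500 2500 = true := by decide +kernel

theorem log_okAt410000 : allFrom data.checkLog 410000 2500 = true := by decide +kernel

theorem log_okAt412500 : allFrom data.checkLog 412500 2500 = true := by decide +kernel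

theorem log_okAt415000 : allFrom data.checkLog 415000 2500 = true := by decide +kernel

theorem log_okAt417500 : allFrom data.checkLog 417500 2500 = true := by decide +kernel

end Cfsg.Agent.CosetCert.Fi24Index
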