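import Cfsg.Agent.CosetCert.Fi24Index.Defs

/-! Generated: kernel checks. -/

set_option Elab.async false

namespace Cfsg.Agent.CosetCert.Fi24Index

theorem log_okAt540000 : allFrom data.checkLog 540000 2500 = true := by decide +kernel

theorem log_okAt542500 : allFrom data.checkLog 542500 2500 = true := by decide +kernel

theorem log_okAt545000 : allFrom data.checkLog 545000 2500 = true := by decide +kernel

theorem log_okAt547500 : allFrom data.checkLog 547500 2500 = true := by decide +kernel

theorem log_okAt550000 : allFrom data.checkLog 550000 2500 = true := by decide +kernel

theorem log_okAt552500 : allFrom data.checkLog 552500 2500 = true := by decide +kernel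

theorem log_okAt555000 : allFrom data.checkLog 555000 2500 = true := by decide +kernel

theorem log_okAt557500 : allFrom data.checkLog 557500 2500 = true := by decide +kernel

theorem log_okAt560000 : allFrom data.checkLog 560000 2500 = true := by decide +kernel

theorem log_okAt562500 : allFrom data.checkLog 562500 2500 = true := by decide +kernel

theorem log_okAt565000 : allFrom data.checkLog 565000 2500 = true := by decide +kernel

theorem log_okAt567500 : allFrom data.checkLog 567500 2500 = true := by decide +kernel

theorem log_okAt570000 : allFrom data.checkLog 570000 2500 = true := by decide +kernel

theorem log_okAt572500 : allFrom data.checkLog 572500 2500 = true := by decide +kernel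

theorem log_okAt575000 : allFrom data.checkLog 575000 2500 = true := by decide +kernel

theorem log_okAt577500 : allFrom data.checkLog 577500 2500 = true := by decide +kernel

theorem log_okAt580000 : allFrom data.checkLog 580000 2500 = true := by decide +kernel

theorem log_okAt582500 : allFrom data.checkLog 582500 2500 = true := by decide +kernel

theorem log_okAt585000 : allFrom data.checkLog 585000 2500 = true := by decide +kernel

theorem log_okAt587500 : allFrom data.checkLog 587500 2500 = true := by decide +kernel

theorem log_okAt590000 : allFrom data.checkLog 590000 2500 = true := by decide +kernel

theorem log_okAt592500 : allFrom data.checkLog 592500 2500 = true := by decide +kernel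

theorem log_okAt595000 : allFrom data.checkLog 595000 2500 = true := by decide +kernel

theorem log_okAt597500 : allFrom data.checkLog 597500 2500 = true := by decide +kernel

end Cfsg.Agent.CosetCert.Fi24Index
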