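import Cfsg.Agent.CosetCert.Fi24Index.CheckLog0
import Cfsg.Agent.CosetCert.Fi24Index.CheckLog1
import Cfsg.Agent.CosetCert.Fi24Index.CheckLog2
import Cfsg.Agent.CosetCert.Fi24Index.CheckLog3
import Cfsg.Agent.CosetCert.Fi24Index.CheckLog4
import Cfsg.Agent.CosetCert.Fi24Index.CheckLog5
import Cfsg.Agent.CosetCert.Fi24Index.CheckLog6
import Cfsg.Agent.CosetCert.Fi24Index.CheckLog7
import Cfsg.Agent.CosetCert.Fi24Index.CheckLog8
import Cfsg.Agent.CosetCert.Fi24Index.CheckLog9
import Cfsg.Agent.CosetCert.Fi24Index.CheckLog10
import Cfsg.Agent.CosetCert.Fi24Index.CheckLog11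
import Cfsg.Agent.CosetCert.Fi24Index.CheckLog12
import Cfsg.Agent.CosetCert.Fi24Index.CheckLog13
import Cfsg.Agent.CosetCert.Fi24Index.CheckLog14
import Cfsg.Agent.CosetCert.Fi24Index.CheckLog15
import Cfsg.Agent.CosetCert.Fi24Index.CheckLog16
import Cfsg.Agent.CosetCert.Fi24Index.CheckLog17
import Cfsg.Agent.CosetCert.Fi24Index.CheckLog18
import Cfsg.Agent.CosetCert.Fi24Index.CheckLog19
import Cfsg.Agent.CosetCert.Fi24Index.CheckLog20
import Cfsg.Agent.CosetCert.Fi24Index.CheckLog21
import Cfsg.Agent.CosetCert.Fi24Index.CheckLog22
import Cfsg.Agent.CosetCert.Fi24Index.CheckLog23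
import Cfsg.Agent.CosetCert.Fi24Index.CheckLog24
import Cfsg.Agent.CosetCert.Fi24Index.CheckLog25
import Cfsg.Agent.CosetCert.Fi24Index.CheckLog26
import Cfsg.Agent.CosetCert.Fi24Index.CheckLog27
import Cfsg.Agent.CosetCert.Fi24Index.CheckLog28
import Cfsg.Agent.CosetCert.Fi24Index.CheckLog29
import Cfsg.Agent.CosetCert.Fi24Index.CheckLog30
import Cfsg.Agent.CosetCert.Fi24Index.CheckLog31
import Cfsg.Agent.CosetCert.Fi24Index.CheckLog32
import Cfsg.Agent.CosetCert.Fi24Index.CheckLog33
import Cfsg.Agent.CosetCert.Fi24Index.CheckLog34
import Cfsg.Agent.CosetCert.Fi24Index.CheckLog35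
import Cfsg.Agent.CosetCert.Fi24Index.CheckLog36
import Cfsg.Agent.CosetCert.Fi24Index.CheckLog37
import Cfsg.Agent.CosetCert.Fi24Index.CheckLog38

/-! Generated: kernel checks combined. -/

set_option maxRecDepth 100000

namespace Cfsg.Agent.CosetCert.Fi24Index

theorem log_ok : ∀ i, i < 2304183 → data.checkLog i = true := by
  have h0 : ∀ i, i < 0 → data.checkLog i = true := forall_lt_zero
  have h1 := forall_lt_step (b := 2500) h0 log_okAt0 rfl
  have h2 := forall_lt_step (b := 5000) h1 log_okAt2500 rfl
  have h3 := forall_lt_step (b := 7500) h2 log_okAt5000 rfl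
  have h4 := forall_lt_step (b := 10000) h3 log_okAt7500 rfl
  have h5 := forall_lt_step (b := 12500) h4 log_okAt10000 rfl
  have h6 := forall_lt_step (b := 15000) h5 log_okAt12500 rfl
  have h7 := forall_lt_step (b := 17500) h6 log_okAt15000 rfl
  have h8 := forall_lt_step (b := 20000) h7 log_okAt17500 rfl
  have h9 := forall_lt_step (b := 22500) h8 log_okAt20000 rfl
  have h10 := forall_lt_step (b := 25000) h9 log_okAt22500 rfl
  have h11 := forall_lt_step (b := 27500) h10 log_okAt25000 rfl
  have h12 := forall_lt_step (b := 30000) h11 log_okAt27500 rfl
  have h13 := forall_lt_step (b := 32500) h12 log_okAt30000 rfl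
  have h14 := forall_lt_step (b := 35000) h13 log_okAt32500 rfl
  have h15 := forall_lt_step (b := 37500) h14 log_okAt35000 rfl
  have h16 := forall_lt_step (b := 40000) h15 log_okAt37500 rfl
  have h17 := forall_lt_step (b := 42500) h16 log_okAt40000 rfl
  have h18 := forall_lt_step (b := 45000) h17 log_okAt42500 rfl
  have h19 := forall_lt_step (b := 47500) h18 log_okAt45000 rfl
  have h20 := forall_lt_step (b := 50000) h19 log_okAt47500 rfl
  have h21 := forall_lt_step (b := 52500) h20 log_okAt50000 rfl
  have h22 := forall_lt_step (b := 55000) h21 log_okAt52500 rfl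
  have h23 := forall_lt_step (b := 57500) h22 log_okAt55000 rfl
  have h24 := forall_lt_step (b := 60000) h23 log_okAt57500 rfl
  have h25 := forall_lt_step (b := 62500) h24 log_okAt60000 rfl
  have h26 := forall_lt_step (b := 65000) h25 log_okAt62500 rfl
  have h27 := forall_lt_step (b := 67500) h26 log_okAt65000 rfl
  have h28 := forall_lt_step (b := 70000) h27 log_okAt67500 rfl
  have h29 := forall_lt_step (b := 72500) h28 log_okAt70000 rfl
  have h30 := forall_lt_step (b := 75000) h29 log_okAt72500 rfl
  have h31 := forall_lt_step (b := 77500) h30 log_okAt75000 rfl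
  have h32 := forall_lt_step (b := 80000) h31 log_okAt77500 rfl
  have h33 := forall_lt_step (b := 82500) h32 log_okAt80000 rfl
  have h34 := forall_lt_step (b := 85000) h33 log_okAt82500 rfl
  have h35 := forall_lt_step (b := 87500) h34 log_okAt85000 rfl
  have h36 := forall_lt_step (b := 90000) h35 log_okAt87500 rfl
  have h37 := forall_lt_step (b := 92500) h36 log_okAt90000 rfl
  have h38 := forall_lt_step (b := 95000) h37 log_okAt92500 rfl
  have h39 := forall_lt_step (b := 97500) h38 log_okAt95000 rfl
  have h40 := forall_lt_step (b := 100000) h39 log_okAt97500 rfl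
  have h41 := forall_lt_step (b := 102500) h40 log_okAt100000 rfl
  have h42 := forall_lt_step (b := 105000) h41 log_okAt102500 rfl
  have h43 := forall_lt_step (b := 107500) h42 log_okAt105000 rfl
  have h44 := forall_lt_step (b := 110000) h43 log_okAt107500 rfl
  have h45 := forall_lt_step (b := 112500) h44 log_okAt110000 rfl
  have h46 := forall_lt_step (b := 115000) h45 log_okAt112500 rfl
  have h47 := forall_lt_step (b := 117500) h46 log_okAt115000 rfl
  have h48 := forall_lt_step (b := 120000) h47 log_okAt117500 rfl
  have h49 := forall_lt_step (b := 122500) h48 log_okAt120000 rfl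
  have h50 := forall_lt_step (b := 125000) h49 log_okAt122500 rfl
  have h51 := forall_lt_step (b := 127500) h50 log_okAt125000 rfl
  have h52 := forall_lt_step (b := 130000) h51 log_okAt127500 rfl
  have h53 := forall_lt_step (b := 132500) h52 log_okAt130000 rfl
  have h54 := forall_lt_step (b := 135000) h53 log_okAt132500 rfl
  have h55 := forall_lt_step (b := 137500) h54 log_okAt135000 rfl
  have h56 := forall_lt_step (b := 140000) h55 log_okAt137500 rfl
  have h57 := forall_lt_step (b := 142500) h56 log_okAt140000 rfl
  have h58 := forall_lt_step (b := 145000) h57 log_okAt142500 rfl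
  have h59 := forall_lt_step (b := 147500) h58 log_okAt145000 rfl
  have h60 := forall_lt_step (b := 150000) h59 log_okAt147500 rfl
  have h61 := forall_lt_step (b := 152500) h60 log_okAt150000 rfl
  have h62 := forall_lt_step (b := 155000) h61 log_okAt152500 rfl
  have h63 := forall_lt_step (b := 157500) h62 log_okAt155000 rfl
  have h64 := forall_lt_step (b := 160000) h63 log_okAt157500 rfl
  have h65 := forall_lt_step (b := 162500) h64 log_okAt160000 rfl
  have h66 := forall_lt_step (b := 165000) h65 log_okAt162500 rfl
  have h67 := forall_lt_step (b := 167500) h66 log_okAt165000 rfl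
  have h68 := forall_lt_step (b := 170000) h67 log_okAt167500 rfl
  have h69 := forall_lt_step (b := 172500) h68 log_okAt170000 rfl
  have h70 := forall_lt_step (b := 175000) h69 log_okAt172500 rfl
  have h71 := forall_lt_step (b := 177500) h70 log_okAt175000 rfl
  have h72 := forall_lt_step (b := 180000) h71 log_okAt177500 rfl
  have h73 := forall_lt_step (b := 182500) h72 log_okAt180000 rfl
  have h74 := forall_lt_step (b := 185000) h73 log_okAt182500 rfl
  have h75 := forall_lt_step (b := 187500) h74 log_okAt185000 rfl
  have h76 := forall_lt_step (b := 190000) h75 log_okAt187500 rfl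
  have h77 := forall_lt_step (b := 192500) h76 log_okAt190000 rfl
  have h78 := forall_lt_step (b := 195000) h77 log_okAt192500 rfl
  have h79 := forall_lt_step (b := 197500) h78 log_okAt195000 rfl
  have h80 := forall_lt_step (b := 200000) h79 log_okAt197500 rfl
  have h81 := forall_lt_step (b := 202500) h80 log_okAt200000 rfl
  have h82 := forall_lt_step (b := 205000) h81 log_okAt202500 rfl
  have h83 := forall_lt_step (b := 207500) h82 log_okAt205000 rfl
  have h84 := forall_lt_step (b := 210000) h83 log_okAt207500 rfl
  have h85 := forall_lt_step (b := 212500) h84 log_okAt210000 rfl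
  have h86 := forall_lt_step (b := 215000) h85 log_okAt212500 rfl
  have h87 := forall_lt_step (b := 217500) h86 log_okAt215000 rfl
  have h88 := forall_lt_step (b := 220000) h87 log_okAt217500 rfl
  have h89 := forall_lt_step (b := 222500) h88 log_okAt220000 rfl
  have h90 := forall_lt_step (b := 225000) h89 log_okAt222500 rfl
  have h91 := forall_lt_step (b := 227500) h90 log_okAt225000 rfl
  have h92 := forall_lt_step (b := 230000) h91 log_okAt227500 rfl
  have h93 := forall_lt_step (b := 232500) h92 log_okAt230000 rfl
  have h94 := forall_lt_step (b := 235000) h93 log_okAt232500 rfl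
  have h95 := forall_lt_step (b := 237500) h94 log_okAt235000 rfl
  have h96 := forall_lt_step (b := 240000) h95 log_okAt237500 rfl
  have h97 := forall_lt_step (b := 242500) h96 log_okAt240000 rfl
  have h98 := forall_lt_step (b := 245000) h97 log_okAt242500 rfl
  have h99 := forall_lt_step (b := 247500) h98 log_okAt245000 rfl
  have h100 := forall_lt_step (b := 250000) h99 log_okAt247500 rfl
  have h101 := forall_lt_step (b := 252500) h100 log_okAt250000 rfl
  have h102 := forall_lt_step (b := 255000) h101 log_okAt252500 rfl
  have h103 := forall_lt_step (b := 257500) h102 log_okAt255000 rfl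
  have h104 := forall_lt_step (b := 260000) h103 log_okAt257500 rfl
  have h105 := forall_lt_step (b := 262500) h104 log_okAt260000 rfl
  have h106 := forall_lt_step (b := 265000) h105 log_okAt262500 rfl
  have h107 := forall_lt_step (b := 267500) h106 log_okAt265000 rfl
  have h108 := forall_lt_step (b := 270000) h107 log_okAt267500 rfl
  have h109 := forall_lt_step (b := 272500) h108 log_okAt270000 rfl
  have h110 := forall_lt_step (b := 275000) h109 log_okAt272500 rfl
  have h111 := forall_lt_step (b := 277500) h110 log_okAt275000 rfl
  have h112 := forall_lt_step (b := 280000) h111 log_okAt277500 rfl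
  have h113 := forall_lt_step (b := 282500) h112 log_okAt280000 rfl
  have h114 := forall_lt_step (b := 285000) h113 log_okAt282500 rfl
  have h115 := forall_lt_step (b := 287500) h114 log_okAt285000 rfl
  have h116 := forall_lt_step (b := 290000) h115 log_okAt287500 rfl
  have h117 := forall_lt_step (b := 292500) h116 log_okAt290000 rfl
  have h118 := forall_lt_step (b := 295000) h117 log_okAt292500 rfl
  have h119 := forall_lt_step (b := 297500) h118 log_okAt295000 rfl
  have h120 := forall_lt_step (b := 300000) h119 log_okAt297500 rfl
  have h121 := forall_lt_step (b := 302500) h120 log_okAt300000 rfl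
  have h122 := forall_lt_step (b := 305000) h121 log_okAt302500 rfl
  have h123 := forall_lt_step (b := 307500) h122 log_okAt305000 rfl
  have h124 := forall_lt_step (b := 310000) h123 log_okAt307500 rfl
  have h125 := forall_lt_step (b := 312500) h124 log_okAt310000 rfl
  have h126 := forall_lt_step (b := 315000) h125 log_okAt312500 rfl
  have h127 := forall_lt_step (b := 317500) h126 log_okAt315000 rfl
  have h128 := forall_lt_step (b := 320000) h127 log_okAt317500 rfl
  have h129 := forall_lt_step (b := 322500) h128 log_okAt320000 rfl
  have h130 := forall_lt_step (b := 325000) h129 log_okAt322500 rfl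
  have h131 := forall_lt_step (b := 327500) h130 log_okAt325000 rfl
  have h132 := forall_lt_step (b := 330000) h131 log_okAt327500 rfl
  have h133 := forall_lt_step (b := 332500) h132 log_okAt330000 rfl
  have h134 := forall_lt_step (b := 335000) h133 log_okAt332500 rfl
  have h135 := forall_lt_step (b := 337500) h134 log_okAt335000 rfl
  have h136 := forall_lt_step (b := 340000) h135 log_okAt337500 rfl
  have h137 := forall_lt_step (b := 342500) h136 log_okAt340000 rfl
  have h138 := forall_lt_step (b := 345000) h137 log_okAt342500 rfl
  have h139 := forall_lt_step (b := 347500) h138 log_okAt345000 rfl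
  have h140 := forall_lt_step (b := 350000) h139 log_okAt347500 rfl
  have h141 := forall_lt_step (b := 352500) h140 log_okAt350000 rfl
  have h142 := forall_lt_step (b := 355000) h141 log_okAt352500 rfl
  have h143 := forall_lt_step (b := 357500) h142 log_okAt355000 rfl
  have h144 := forall_lt_step (b := 360000) h143 log_okAt357500 rfl
  have h145 := forall_lt_step (b := 362500) h144 log_okAt360000 rfl
  have h146 := forall_lt_step (b := 365000) h145 log_okAt362500 rfl
  have h147 := forall_lt_step (b := 367500) h146 log_okAt365000 rfl
  have h148 := forall_lt_step (b := 370000) h147 log_okAt367500 rfl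
  have h149 := forall_lt_step (b := 372500) h148 log_okAt370000 rfl
  have h150 := forall_lt_step (b := 375000) h149 log_okAt372500 rfl
  have h151 := forall_lt_step (b := 377500) h150 log_okAt375000 rfl
  have h152 := forall_lt_step (b := 380000) h151 log_okAt377500 rfl
  have h153 := forall_lt_step (b := 382500) h152 log_okAt380000 rfl
  have h154 := forall_lt_step (b := 385000) h153 log_okAt382500 rfl
  have h155 := forall_lt_step (b := 387500) h154 log_okAt385000 rfl
  have h156 := forall_lt_step (b := 390000) h155 log_okAt387500 rfl
  have h157 := forall_lt_step (b := 392500) h156 log_okAt390000 rfl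
  have h158 := forall_lt_step (b := 395000) h157 log_okAt392500 rfl
  have h159 := forall_lt_step (b := 397500) h158 log_okAt395000 rfl
  have h160 := forall_lt_step (b := 400000) h159 log_okAt397500 rfl
  have h161 := forall_lt_step (b := 402500) h160 log_okAt400000 rfl
  have h162 := forall_lt_step (b := 405000) h161 log_okAt402500 rfl
  have h163 := forall_lt_step (b := 407500) h162 log_okAt405000 rfl
  have h164 := forall_lt_step (b := 410000) h163 log_okAt407500 rfl
  have h165 := forall_lt_step (b := 412500) h164 log_okAt410000 rfl
  have h166 := forall_lt_step (b := 415000) h165 log_okAt412500 rfl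
  have h167 := forall_lt_step (b := 417500) h166 log_okAt415000 rfl
  have h168 := forall_lt_step (b := 420000) h167 log_okAt417500 rfl
  have h169 := forall_lt_step (b := 422500) h168 log_okAt420000 rfl
  have h170 := forall_lt_step (b := 425000) h169 log_okAt422500 rfl
  have h171 := forall_lt_step (b := 427500) h170 log_okAt425000 rfl
  have h172 := forall_lt_step (b := 430000) h171 log_okAt427500 rfl
  have h173 := forall_lt_step (b := 432500) h172 log_okAt430000 rfl
  have h174 := forall_lt_step (b := 435000) h173 log_okAt432500 rfl
  have h175 := forall_lt_step (b := 437500) h174 log_okAt435000 rfl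
  have h176 := forall_lt_step (b := 440000) h175 log_okAt437500 rfl
  have h177 := forall_lt_step (b := 442500) h176 log_okAt440000 rfl
  have h178 := forall_lt_step (b := 445000) h177 log_okAt442500 rfl
  have h179 := forall_lt_step (b := 447500) h178 log_okAt445000 rfl
  have h180 := forall_lt_step (b := 450000) h179 log_okAt447500 rfl
  have h181 := forall_lt_step (b := 452500) h180 log_okAt450000 rfl
  have h182 := forall_lt_step (b := 455000) h181 log_okAt452500 rfl
  have h183 := forall_lt_step (b := 457500) h182 log_okAt455000 rfl
  have h184 := forall_lt_step (b := 460000) h183 log_okAt457500 rfl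
  have h185 := forall_lt_step (b := 462500) h184 log_okAt460000 rfl
  have h186 := forall_lt_step (b := 465000) h185 log_okAt462500 rfl
  have h187 := forall_lt_step (b := 467500) h186 log_okAt465000 rfl
  have h188 := forall_lt_step (b := 470000) h187 log_okAt467500 rfl
  have h189 := forall_lt_step (b := 472500) h188 log_okAt470000 rfl
  have h190 := forall_lt_step (b := 475000) h189 log_okAt472500 rfl
  have h191 := forall_lt_step (b := 477500) h190 log_okAt475000 rfl
  have h192 := forall_lt_step (b := 480000) h191 log_okAt477500 rfl
  have h193 := forall_lt_step (b := 482500) h192 log_okAt480000 rfl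
  have h194 := forall_lt_step (b := 485000) h193 log_okAt482500 rfl
  have h195 := forall_lt_step (b := 487500) h194 log_okAt485000 rfl
  have h196 := forall_lt_step (b := 490000) h195 log_okAt487500 rfl
  have h197 := forall_lt_step (b := 492500) h196 log_okAt490000 rfl
  have h198 := forall_lt_step (b := 495000) h197 log_okAt492500 rfl
  have h199 := forall_lt_step (b := 497500) h198 log_okAt495000 rfl
  have h200 := forall_lt_step (b := 500000) h199 log_okAt497500 rfl
  have h201 := forall_lt_step (b := 502500) h200 log_okAt500000 rfl
  have h202 := forall_lt_step (b := 505000) h201 log_okAt502500 rfl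
  have h203 := forall_lt_step (b := 507500) h202 log_okAt505000 rfl
  have h204 := forall_lt_step (b := 510000) h203 log_okAt507500 rfl
  have h205 := forall_lt_step (b := 512500) h204 log_okAt510000 rfl
  have h206 := forall_lt_step (b := 515000) h205 log_okAt512500 rfl
  have h207 := forall_lt_step (b := 517500) h206 log_okAt515000 rfl
  have h208 := forall_lt_step (b := 520000) h207 log_okAt517500 rfl
  have h209 := forall_lt_step (b := 522500) h208 log_okAt520000 rfl
  have h210 := forall_lt_step (b := 525000) h209 log_okAt522500 rfl
  have h211 := forall_lt_step (b := 527500) h210 log_okAt525000 rfl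
  have h212 := forall_lt_step (b := 530000) h211 log_okAt527500 rfl
  have h213 := forall_lt_step (b := 532500) h212 log_okAt530000 rfl
  have h214 := forall_lt_step (b := 535000) h213 log_okAt532500 rfl
  have h215 := forall_lt_step (b := 537500) h214 log_okAt535000 rfl
  have h216 := forall_lt_step (b := 540000) h215 log_okAt537500 rfl
  have h217 := forall_lt_step (b := 542500) h216 log_okAt540000 rfl
  have h218 := forall_lt_step (b := 545000) h217 log_okAt542500 rfl
  have h219 := forall_lt_step (b := 547500) h218 log_okAt545000 rfl
  have h220 := forall_lt_step (b := 550000) h219 log_okAt547500 rfl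
  have h221 := forall_lt_step (b := 552500) h220 log_okAt550000 rfl
  have h222 := forall_lt_step (b := 555000) h221 log_okAt552500 rfl
  have h223 := forall_lt_step (b := 557500) h222 log_okAt555000 rfl
  have h224 := forall_lt_step (b := 560000) h223 log_okAt557500 rfl
  have h225 := forall_lt_step (b := 562500) h224 log_okAt560000 rfl
  have h226 := forall_lt_step (b := 565000) h225 log_okAt562500 rfl
  have h227 := forall_lt_step (b := 567500) h226 log_okAt565000 rfl
  have h228 := forall_lt_step (b := 570000) h227 log_okAt567500 rfl
  have h229 := forall_lt_step (b := 572500) h228 log_okAt570000 rfl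
  have h230 := forall_lt_step (b := 575000) h229 log_okAt572500 rfl
  have h231 := forall_lt_step (b := 577500) h230 log_okAt575000 rfl
  have h232 := forall_lt_step (b := 580000) h231 log_okAt577500 rfl
  have h233 := forall_lt_step (b := 582500) h232 log_okAt580000 rfl
  have h234 := forall_lt_step (b := 585000) h233 log_okAt582500 rfl
  have h235 := forall_lt_step (b := 587500) h234 log_okAt585000 rfl
  have h236 := forall_lt_step (b := 590000) h235 log_okAt587500 rfl
  have h237 := forall_lt_step (b := 592500) h236 log_okAt590000 rfl
  have h238 := forall_lt_step (b := 595000) h237 log_okAt592500 rfl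
  have h239 := forall_lt_step (b := 597500) h238 log_okAt595000 rfl
  have h240 := forall_lt_step (b := 600000) h239 log_okAt597500 rfl
  have h241 := forall_lt_step (b := 602500) h240 log_okAt600000 rfl
  have h242 := forall_lt_step (b := 605000) h241 log_okAt602500 rfl
  have h243 := forall_lt_step (b := 607500) h242 log_okAt605000 rfl
  have h244 := forall_lt_step (b := 610000) h243 log_okAt607500 rfl
  have h245 := forall_lt_step (b := 612500) h244 log_okAt610000 rfl
  have h246 := forall_lt_step (b := 615000) h245 log_okAt612500 rfl
  have h247 := forall_lt_step (b := 617500) h246 log_okAt615000 rfl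
  have h248 := forall_lt_step (b := 620000) h247 log_okAt617500 rfl
  have h249 := forall_lt_step (b := 622500) h248 log_okAt620000 rfl
  have h250 := forall_lt_step (b := 625000) h249 log_okAt622500 rfl
  have h251 := forall_lt_step (b := 627500) h250 log_okAt625000 rfl
  have h252 := forall_lt_step (b := 630000) h251 log_okAt627500 rfl
  have h253 := forall_lt_step (b := 632500) h252 log_okAt630000 rfl
  have h254 := forall_lt_step (b := 635000) h253 log_okAt632500 rfl
  have h255 := forall_lt_step (b := 637500) h254 log_okAt635000 rfl
  have h256 := forall_lt_step (b := 640000) h255 log_okAt637500 rfl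
  have h257 := forall_lt_step (b := 642500) h256 log_okAt640000 rfl
  have h258 := forall_lt_step (b := 645000) h257 log_okAt642500 rfl
  have h259 := forall_lt_step (b := 647500) h258 log_okAt645000 rfl
  have h260 := forall_lt_step (b := 650000) h259 log_okAt647500 rfl
  have h261 := forall_lt_step (b := 652500) h260 log_okAt650000 rfl
  have h262 := forall_lt_step (b := 655000) h261 log_okAt652500 rfl
  have h263 := forall_lt_step (b := 657500) h262 log_okAt655000 rfl
  have h264 := forall_lt_step (b := 660000) h263 log_okAt657500 rfl
  have h265 := forall_lt_step (b := 662500) h264 log_okAt660000 rfl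
  have h266 := forall_lt_step (b := 665000) h265 log_okAt662500 rfl
  have h267 := forall_lt_step (b := 667500) h266 log_okAt665000 rfl
  have h268 := forall_lt_step (b := 670000) h267 log_okAt667500 rfl
  have h269 := forall_lt_step (b := 672500) h268 log_okAt670000 rfl
  have h270 := forall_lt_step (b := 675000) h269 log_okAt672500 rfl
  have h271 := forall_lt_step (b := 677500) h270 log_okAt675000 rfl
  have h272 := forall_lt_step (b := 680000) h271 log_okAt677500 rfl
  have h273 := forall_lt_step (b := 682500) h272 log_okAt680000 rfl
  have h274 := forall_lt_step (b := 685000) h273 log_okAt682500 rfl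
  have h275 := forall_lt_step (b := 687500) h274 log_okAt685000 rfl
  have h276 := forall_lt_step (b := 690000) h275 log_okAt687500 rfl
  have h277 := forall_lt_step (b := 692500) h276 log_okAt690000 rfl
  have h278 := forall_lt_step (b := 695000) h277 log_okAt692500 rfl
  have h279 := forall_lt_step (b := 697500) h278 log_okAt695000 rfl
  have h280 := forall_lt_step (b := 700000) h279 log_okAt697500 rfl
  have h281 := forall_lt_step (b := 702500) h280 log_okAt700000 rfl
  have h282 := forall_lt_step (b := 705000) h281 log_okAt702500 rfl
  have h283 := forall_lt_step (b := 707500) h282 log_okAt705000 rfl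
  have h284 := forall_lt_step (b := 710000) h283 log_okAt707500 rfl
  have h285 := forall_lt_step (b := 712500) h284 log_okAt710000 rfl
  have h286 := forall_lt_step (b := 715000) h285 log_okAt712500 rfl
  have h287 := forall_lt_step (b := 717500) h286 log_okAt715000 rfl
  have h288 := forall_lt_step (b := 720000) h287 log_okAt717500 rfl
  have h289 := forall_lt_step (b := 722500) h288 log_okAt720000 rfl
  have h290 := forall_lt_step (b := 725000) h289 log_okAt722500 rfl
  have h291 := forall_lt_step (b := 727500) h290 log_okAt725000 rfl
  have h292 := forall_lt_step (b := 730000) h291 log_okAt727500 rfl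
  have h293 := forall_lt_step (b := 732500) h292 log_okAt730000 rfl
  have h294 := forall_lt_step (b := 735000) h293 log_okAt732500 rfl
  have h295 := forall_lt_step (b := 737500) h294 log_okAt735000 rfl
  have h296 := forall_lt_step (b := 740000) h295 log_okAt737500 rfl
  have h297 := forall_lt_step (b := 742500) h296 log_okAt740000 rfl
  have h298 := forall_lt_step (b := 745000) h297 log_okAt742500 rfl
  have h299 := forall_lt_step (b := 747500) h298 log_okAt745000 rfl
  have h300 := forall_lt_step (b := 750000) h299 log_okAt747500 rfl
  have h301 := forall_lt_step (b := 752500) h300 log_okAt750000 rfl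
  have h302 := forall_lt_step (b := 755000) h301 log_okAt752500 rfl
  have h303 := forall_lt_step (b := 757500) h302 log_okAt755000 rfl
  have h304 := forall_lt_step (b := 760000) h303 log_okAt757500 rfl
  have h305 := forall_lt_step (b := 762500) h304 log_okAt760000 rfl
  have h306 := forall_lt_step (b := 765000) h305 log_okAt762500 rfl
  have h307 := forall_lt_step (b := 767500) h306 log_okAt765000 rfl
  have h308 := forall_lt_step (b := 770000) h307 log_okAt767500 rfl
  have h309 := forall_lt_step (b := 772500) h308 log_okAt770000 rfl
  have h310 := forall_lt_step (b := 775000) h309 log_okAt772500 rfl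
  have h311 := forall_lt_step (b := 777500) h310 log_okAt775000 rfl
  have h312 := forall_lt_step (b := 780000) h311 log_okAt777500 rfl
  have h313 := forall_lt_step (b := 782500) h312 log_okAt780000 rfl
  have h314 := forall_lt_step (b := 785000) h313 log_okAt782500 rfl
  have h315 := forall_lt_step (b := 787500) h314 log_okAt785000 rfl
  have h316 := forall_lt_step (b := 790000) h315 log_okAt787500 rfl
  have h317 := forall_lt_step (b := 792500) h316 log_okAt790000 rfl
  have h318 := forall_lt_step (b := 795000) h317 log_okAt792500 rfl
  have h319 := forall_lt_step (b := 797500) h318 log_okAt795000 rfl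
  have h320 := forall_lt_step (b := 800000) h319 log_okAt797500 rfl
  have h321 := forall_lt_step (b := 802500) h320 log_okAt800000 rfl
  have h322 := forall_lt_step (b := 805000) h321 log_okAt802500 rfl
  have h323 := forall_lt_step (b := 807500) h322 log_okAt805000 rfl
  have h324 := forall_lt_step (b := 810000) h323 log_okAt807500 rfl
  have h325 := forall_lt_step (b := 812500) h324 log_okAt810000 rfl
  have h326 := forall_lt_step (b := 815000) h325 log_okAt812500 rfl
  have h327 := forall_lt_step (b := 817500) h326 log_okAt815000 rfl
  have h328 := forall_lt_step (b := 820000) h327 log_okAt817500 rfl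
  have h329 := forall_lt_step (b := 822500) h328 log_okAt820000 rfl
  have h330 := forall_lt_step (b := 825000) h329 log_okAt822500 rfl
  have h331 := forall_lt_step (b := 827500) h330 log_okAt825000 rfl
  have h332 := forall_lt_step (b := 830000) h331 log_okAt827500 rfl
  have h333 := forall_lt_step (b := 832500) h332 log_okAt830000 rfl
  have h334 := forall_lt_step (b := 835000) h333 log_okAt832500 rfl
  have h335 := forall_lt_step (b := 837500) h334 log_okAt835000 rfl
  have h336 := forall_lt_step (b := 840000) h335 log_okAt837500 rfl
  have h337 := forall_lt_step (b := 842500) h336 log_okAt840000 rfl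
  have h338 := forall_lt_step (b := 845000) h337 log_okAt842500 rfl
  have h339 := forall_lt_step (b := 847500) h338 log_okAt845000 rfl
  have h340 := forall_lt_step (b := 850000) h339 log_okAt847500 rfl
  have h341 := forall_lt_step (b := 852500) h340 log_okAt850000 rfl
  have h342 := forall_lt_step (b := 855000) h341 log_okAt852500 rfl
  have h343 := forall_lt_step (b := 857500) h342 log_okAt855000 rfl
  have h344 := forall_lt_step (b := 860000) h343 log_okAt857500 rfl
  have h345 := forall_lt_step (b := 862500) h344 log_okAt860000 rfl
  have h346 := forall_lt_step (b := 865000) h345 log_okAt862500 rfl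
  have h347 := forall_lt_step (b := 867500) h346 log_okAt865000 rfl
  have h348 := forall_lt_step (b := 870000) h347 log_okAt867500 rfl
  have h349 := forall_lt_step (b := 872500) h348 log_okAt870000 rfl
  have h350 := forall_lt_step (b := 875000) h349 log_okAt872500 rfl
  have h351 := forall_lt_step (b := 877500) h350 log_okAt875000 rfl
  have h352 := forall_lt_step (b := 880000) h351 log_okAt877500 rfl
  have h353 := forall_lt_step (b := 882500) h352 log_okAt880000 rfl
  have h354 := forall_lt_step (b := 885000) h353 log_okAt882500 rfl
  have h355 := forall_lt_step (b := 887500) h354 log_okAt885000 rfl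
  have h356 := forall_lt_step (b := 890000) h355 log_okAt887500 rfl
  have h357 := forall_lt_step (b := 892500) h356 log_okAt890000 rfl
  have h358 := forall_lt_step (b := 895000) h357 log_okAt892500 rfl
  have h359 := forall_lt_step (b := 897500) h358 log_okAt895000 rfl
  have h360 := forall_lt_step (b := 900000) h359 log_okAt897500 rfl
  have h361 := forall_lt_step (b := 902500) h360 log_okAt900000 rfl
  have h362 := forall_lt_step (b := 905000) h361 log_okAt902500 rfl
  have h363 := forall_lt_step (b := 907500) h362 log_okAt905000 rfl
  have h364 := forall_lt_step (b := 910000) h363 log_okAt907500 rfl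
  have h365 := forall_lt_step (b := 912500) h364 log_okAt910000 rfl
  have h366 := forall_lt_step (b := 915000) h365 log_okAt912500 rfl
  have h367 := forall_lt_step (b := 917500) h366 log_okAt915000 rfl
  have h368 := forall_lt_step (b := 920000) h367 log_okAt917500 rfl
  have h369 := forall_lt_step (b := 922500) h368 log_okAt920000 rfl
  have h370 := forall_lt_step (b := 925000) h369 log_okAt922500 rfl
  have h371 := forall_lt_step (b := 927500) h370 log_okAt925000 rfl
  have h372 := forall_lt_step (b := 930000) h371 log_okAt927500 rfl
  have h373 := forall_lt_step (b := 932500) h372 log_okAt930000 rfl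
  have h374 := forall_lt_step (b := 935000) h373 log_okAt932500 rfl
  have h375 := forall_lt_step (b := 937500) h374 log_okAt935000 rfl
  have h376 := forall_lt_step (b := 940000) h375 log_okAt937500 rfl
  have h377 := forall_lt_step (b := 942500) h376 log_okAt940000 rfl
  have h378 := forall_lt_step (b := 945000) h377 log_okAt942500 rfl
  have h379 := forall_lt_step (b := 947500) h378 log_okAt945000 rfl
  have h380 := forall_lt_step (b := 950000) h379 log_okAt947500 rfl
  have h381 := forall_lt_step (b := 952500) h380 log_okAt950000 rfl
  have h382 := forall_lt_step (b := 955000) h381 log_okAt952500 rfl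
  have h383 := forall_lt_step (b := 957500) h382 log_okAt955000 rfl
  have h384 := forall_lt_step (b := 960000) h383 log_okAt957500 rfl
  have h385 := forall_lt_step (b := 962500) h384 log_okAt960000 rfl
  have h386 := forall_lt_step (b := 965000) h385 log_okAt962500 rfl
  have h387 := forall_lt_step (b := 967500) h386 log_okAt965000 rfl
  have h388 := forall_lt_step (b := 970000) h387 log_okAt967500 rfl
  have h389 := forall_lt_step (b := 972500) h388 log_okAt970000 rfl
  have h390 := forall_lt_step (b := 975000) h389 log_okAt972500 rfl
  have h391 := forall_lt_step (b := 977500) h390 log_okAt975000 rfl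
  have h392 := forall_lt_step (b := 980000) h391 log_okAt977500 rfl
  have h393 := forall_lt_step (b := 982500) h392 log_okAt980000 rfl
  have h394 := forall_lt_step (b := 985000) h393 log_okAt982500 rfl
  have h395 := forall_lt_step (b := 987500) h394 log_okAt985000 rfl
  have h396 := forall_lt_step (b := 990000) h395 log_okAt987500 rfl
  have h397 := forall_lt_step (b := 992500) h396 log_okAt990000 rfl
  have h398 := forall_lt_step (b := 995000) h397 log_okAt992500 rfl
  have h399 := forall_lt_step (b := 997500) h398 log_okAt995000 rfl
  have h400 := forall_lt_step (b := 1000000) h399 log_okAt997500 rfl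
  have h401 := forall_lt_step (b := 1002500) h400 log_okAt1000000 rfl
  have h402 := forall_lt_step (b := 1005000) h401 log_okAt1002500 rfl
  have h403 := forall_lt_step (b := 1007500) h402 log_okAt1005000 rfl
  have h404 := forall_lt_step (b := 1010000) h403 log_okAt1007500 rfl
  have h405 := forall_lt_step (b := 1012500) h404 log_okAt1010000 rfl
  have h406 := forall_lt_step (b := 1015000) h405 log_okAt1012500 rfl
  have h407 := forall_lt_step (b := 1017500) h406 log_okAt1015000 rfl
  have h408 := forall_lt_step (b := 1020000) h407 log_okAt1017500 rfl
  have h409 := forall_lt_step (b := 1022500) h408 log_okAt1020000 rfl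
  have h410 := forall_lt_step (b := 1025000) h409 log_okAt1022500 rfl
  have h411 := forall_lt_step (b := 1027500) h410 log_okAt1025000 rfl
  have h412 := forall_lt_step (b := 1030000) h411 log_okAt1027500 rfl
  have h413 := forall_lt_step (b := 1032500) h412 log_okAt1030000 rfl
  have h414 := forall_lt_step (b := 1035000) h413 log_okAt1032500 rfl
  have h415 := forall_lt_step (b := 1037500) h414 log_okAt1035000 rfl
  have h416 := forall_lt_step (b := 1040000) h415 log_okAt1037500 rfl
  have h417 := forall_lt_step (b := 1042500) h416 log_okAt1040000 rfl
  have h418 := forall_lt_step (b := 1045000) h417 log_okAt1042500 rfl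
  have h419 := forall_lt_step (b := 1047500) h418 log_okAt1045000 rfl
  have h420 := forall_lt_step (b := 1050000) h419 log_okAt1047500 rfl
  have h421 := forall_lt_step (b := 1052500) h420 log_okAt1050000 rfl
  have h422 := forall_lt_step (b := 1055000) h421 log_okAt1052500 rfl
  have h423 := forall_lt_step (b := 1057500) h422 log_okAt1055000 rfl
  have h424 := forall_lt_step (b := 1060000) h423 log_okAt1057500 rfl
  have h425 := forall_lt_step (b := 1062500) h424 log_okAt1060000 rfl
  have h426 := forall_lt_step (b := 1065000) h425 log_okAt1062500 rfl
  have h427 := forall_lt_step (b := 1067500) h426 log_okAt1065000 rfl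
  have h428 := forall_lt_step (b := 1070000) h427 log_okAt1067500 rfl
  have h429 := forall_lt_step (b := 1072500) h428 log_okAt1070000 rfl
  have h430 := forall_lt_step (b := 1075000) h429 log_okAt1072500 rfl
  have h431 := forall_lt_step (b := 1077500) h430 log_okAt1075000 rfl
  have h432 := forall_lt_step (b := 1080000) h431 log_okAt1077500 rfl
  have h433 := forall_lt_step (b := 1082500) h432 log_okAt1080000 rfl
  have h434 := forall_lt_step (b := 1085000) h433 log_okAt1082500 rfl
  have h435 := forall_lt_step (b := 1087500) h434 log_okAt1085000 rfl
  have h436 := forall_lt_step (b := 1090000) h435 log_okAt1087500 rfl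
  have h437 := forall_lt_step (b := 1092500) h436 log_okAt1090000 rfl
  have h438 := forall_lt_step (b := 1095000) h437 log_okAt1092500 rfl
  have h439 := forall_lt_step (b := 1097500) h438 log_okAt1095000 rfl
  have h440 := forall_lt_step (b := 1100000) h439 log_okAt1097500 rfl
  have h441 := forall_lt_step (b := 1102500) h440 log_okAt1100000 rfl
  have h442 := forall_lt_step (b := 1105000) h441 log_okAt1102500 rfl
  have h443 := forall_lt_step (b := 1107500) h442 log_okAt1105000 rfl
  have h444 := forall_lt_step (b := 1110000) h443 log_okAt1107500 rfl
  have h445 := forall_lt_step (b := 1112500) h444 log_okAt1110000 rfl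
  have h446 := forall_lt_step (b := 1115000) h445 log_okAt1112500 rfl
  have h447 := forall_lt_step (b := 1117500) h446 log_okAt1115000 rfl
  have h448 := forall_lt_step (b := 1120000) h447 log_okAt1117500 rfl
  have h449 := forall_lt_step (b := 1122500) h448 log_okAt1120000 rfl
  have h450 := forall_lt_step (b := 1125000) h449 log_okAt1122500 rfl
  have h451 := forall_lt_step (b := 1127500) h450 log_okAt1125000 rfl
  have h452 := forall_lt_step (b := 1130000) h451 log_okAt1127500 rfl
  have h453 := forall_lt_step (b := 1132500) h452 log_okAt1130000 rfl
  have h454 := forall_lt_step (b := 1135000) h453 log_okAt1132500 rfl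
  have h455 := forall_lt_step (b := 1137500) h454 log_okAt1135000 rfl
  have h456 := forall_lt_step (b := 1140000) h455 log_okAt1137500 rfl
  have h457 := forall_lt_step (b := 1142500) h456 log_okAt1140000 rfl
  have h458 := forall_lt_step (b := 1145000) h457 log_okAt1142500 rfl
  have h459 := forall_lt_step (b := 1147500) h458 log_okAt1145000 rfl
  have h460 := forall_lt_step (b := 1150000) h459 log_okAt1147500 rfl
  have h461 := forall_lt_step (b := 1152500) h460 log_okAt1150000 rfl
  have h462 := forall_lt_step (b := 1155000) h461 log_okAt1152500 rfl
  have h463 := forall_lt_step (b := 1157500) h462 log_okAt1155000 rfl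
  have h464 := forall_lt_step (b := 1160000) h463 log_okAt1157500 rfl
  have h465 := forall_lt_step (b := 1162500) h464 log_okAt1160000 rfl
  have h466 := forall_lt_step (b := 1165000) h465 log_okAt1162500 rfl
  have h467 := forall_lt_step (b := 1167500) h466 log_okAt1165000 rfl
  have h468 := forall_lt_step (b := 1170000) h467 log_okAt1167500 rfl
  have h469 := forall_lt_step (b := 1172500) h468 log_okAt1170000 rfl
  have h470 := forall_lt_step (b := 1175000) h469 log_okAt1172500 rfl
  have h471 := forall_lt_step (b := 1177500) h470 log_okAt1175000 rfl
  have h472 := forall_lt_step (b := 1180000) h471 log_okAt1177500 rfl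
  have h473 := forall_lt_step (b := 1182500) h472 log_okAt1180000 rfl
  have h474 := forall_lt_step (b := 1185000) h473 log_okAt1182500 rfl
  have h475 := forall_lt_step (b := 1187500) h474 log_okAt1185000 rfl
  have h476 := forall_lt_step (b := 1190000) h475 log_okAt1187500 rfl
  have h477 := forall_lt_step (b := 1192500) h476 log_okAt1190000 rfl
  have h478 := forall_lt_step (b := 1195000) h477 log_okAt1192500 rfl
  have h479 := forall_lt_step (b := 1197500) h478 log_okAt1195000 rfl
  have h480 := forall_lt_step (b := 1200000) h479 log_okAt1197500 rfl
  have h481 := forall_lt_step (b := 1202500) h480 log_okAt1200000 rfl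
  have h482 := forall_lt_step (b := 1205000) h481 log_okAt1202500 rfl
  have h483 := forall_lt_step (b := 1207500) h482 log_okAt1205000 rfl
  have h484 := forall_lt_step (b := 1210000) h483 log_okAt1207500 rfl
  have h485 := forall_lt_step (b := 1212500) h484 log_okAt1210000 rfl
  have h486 := forall_lt_step (b := 1215000) h485 log_okAt1212500 rfl
  have h487 := forall_lt_step (b := 1217500) h486 log_okAt1215000 rfl
  have h488 := forall_lt_step (b := 1220000) h487 log_okAt1217500 rfl
  have h489 := forall_lt_step (b := 1222500) h488 log_okAt1220000 rfl
  have h490 := forall_lt_step (b := 1225000) h489 log_okAt1222500 rfl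
  have h491 := forall_lt_step (b := 1227500) h490 log_okAt1225000 rfl
  have h492 := forall_lt_step (b := 1230000) h491 log_okAt1227500 rfl
  have h493 := forall_lt_step (b := 1232500) h492 log_okAt1230000 rfl
  have h494 := forall_lt_step (b := 1235000) h493 log_okAt1232500 rfl
  have h495 := forall_lt_step (b := 1237500) h494 log_okAt1235000 rfl
  have h496 := forall_lt_step (b := 1240000) h495 log_okAt1237500 rfl
  have h497 := forall_lt_step (b := 1242500) h496 log_okAt1240000 rfl
  have h498 := forall_lt_step (b := 1245000) h497 log_okAt1242500 rfl
  have h499 := forall_lt_step (b := 1247500) h498 log_okAt1245000 rfl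
  have h500 := forall_lt_step (b := 1250000) h499 log_okAt1247500 rfl
  have h501 := forall_lt_step (b := 1252500) h500 log_okAt1250000 rfl
  have h502 := forall_lt_step (b := 1255000) h501 log_okAt1252500 rfl
  have h503 := forall_lt_step (b := 1257500) h502 log_okAt1255000 rfl
  have h504 := forall_lt_step (b := 1260000) h503 log_okAt1257500 rfl
  have h505 := forall_lt_step (b := 1262500) h504 log_okAt1260000 rfl
  have h506 := forall_lt_step (b := 1265000) h505 log_okAt1262500 rfl
  have h507 := forall_lt_step (b := 1267500) h506 log_okAt1265000 rfl
  have h508 := forall_lt_step (b := 1270000) h507 log_okAt1267500 rfl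
  have h509 := forall_lt_step (b := 1272500) h508 log_okAt1270000 rfl
  have h510 := forall_lt_step (b := 1275000) h509 log_okAt1272500 rfl
  have h511 := forall_lt_step (b := 1277500) h510 log_okAt1275000 rfl
  have h512 := forall_lt_step (b := 1280000) h511 log_okAt1277500 rfl
  have h513 := forall_lt_step (b := 1282500) h512 log_okAt1280000 rfl
  have h514 := forall_lt_step (b := 1285000) h513 log_okAt1282500 rfl
  have h515 := forall_lt_step (b := 1287500) h514 log_okAt1285000 rfl
  have h516 := forall_lt_step (b := 1290000) h515 log_okAt1287500 rfl
  have h517 := forall_lt_step (b := 1292500) h516 log_okAt1290000 rfl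
  have h518 := forall_lt_step (b := 1295000) h517 log_okAt1292500 rfl
  have h519 := forall_lt_step (b := 1297500) h518 log_okAt1295000 rfl
  have h520 := forall_lt_step (b := 1300000) h519 log_okAt1297500 rfl
  have h521 := forall_lt_step (b := 1302500) h520 log_okAt1300000 rfl
  have h522 := forall_lt_step (b := 1305000) h521 log_okAt1302500 rfl
  have h523 := forall_lt_step (b := 1307500) h522 log_okAt1305000 rfl
  have h524 := forall_lt_step (b := 1310000) h523 log_okAt1307500 rfl
  have h525 := forall_lt_step (b := 1312500) h524 log_okAt1310000 rfl
  have h526 := forall_lt_step (b := 1315000) h525 log_okAt1312500 rfl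
  have h527 := forall_lt_step (b := 1317500) h526 log_okAt1315000 rfl
  have h528 := forall_lt_step (b := 1320000) h527 log_okAt1317500 rfl
  have h529 := forall_lt_step (b := 1322500) h528 log_okAt1320000 rfl
  have h530 := forall_lt_step (b := 1325000) h529 log_okAt1322500 rfl
  have h531 := forall_lt_step (b := 1327500) h530 log_okAt1325000 rfl
  have h532 := forall_lt_step (b := 1330000) h531 log_okAt1327500 rfl
  have h533 := forall_lt_step (b := 1332500) h532 log_okAt1330000 rfl
  have h534 := forall_lt_step (b := 1335000) h533 log_okAt1332500 rfl
  have h535 := forall_lt_step (b := 1337500) h534 log_okAt1335000 rfl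
  have h536 := forall_lt_step (b := 1340000) h535 log_okAt1337500 rfl
  have h537 := forall_lt_step (b := 1342500) h536 log_okAt1340000 rfl
  have h538 := forall_lt_step (b := 1345000) h537 log_okAt1342500 rfl
  have h539 := forall_lt_step (b := 1347500) h538 log_okAt1345000 rfl
  have h540 := forall_lt_step (b := 1350000) h539 log_okAt1347500 rfl
  have h541 := forall_lt_step (b := 1352500) h540 log_okAt1350000 rfl
  have h542 := forall_lt_step (b := 1355000) h541 log_okAt1352500 rfl
  have h543 := forall_lt_step (b := 1357500) h542 log_okAt1355000 rfl
  have h544 := forall_lt_step (b := 1360000) h543 log_okAt1357500 rfl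
  have h545 := forall_lt_step (b := 1362500) h544 log_okAt1360000 rfl
  have h546 := forall_lt_step (b := 1365000) h545 log_okAt1362500 rfl
  have h547 := forall_lt_step (b := 1367500) h546 log_okAt1365000 rfl
  have h548 := forall_lt_step (b := 1370000) h547 log_okAt1367500 rfl
  have h549 := forall_lt_step (b := 1372500) h548 log_okAt1370000 rfl
  have h550 := forall_lt_step (b := 1375000) h549 log_okAt1372500 rfl
  have h551 := forall_lt_step (b := 1377500) h550 log_okAt1375000 rfl
  have h552 := forall_lt_step (b := 1380000) h551 log_okAt1377500 rfl
  have h553 := forall_lt_step (b := 1382500) h552 log_okAt1380000 rfl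
  have h554 := forall_lt_step (b := 1385000) h553 log_okAt1382500 rfl
  have h555 := forall_lt_step (b := 1387500) h554 log_okAt1385000 rfl
  have h556 := forall_lt_step (b := 1390000) h555 log_okAt1387500 rfl
  have h557 := forall_lt_step (b := 1392500) h556 log_okAt1390000 rfl
  have h558 := forall_lt_step (b := 1395000) h557 log_okAt1392500 rfl
  have h559 := forall_lt_step (b := 1397500) h558 log_okAt1395000 rfl
  have h560 := forall_lt_step (b := 1400000) h559 log_okAt1397500 rfl
  have h561 := forall_lt_step (b := 1402500) h560 log_okAt1400000 rfl
  have h562 := forall_lt_step (b := 1405000) h561 log_okAt1402500 rfl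
  have h563 := forall_lt_step (b := 1407500) h562 log_okAt1405000 rfl
  have h564 := forall_lt_step (b := 1410000) h563 log_okAt1407500 rfl
  have h565 := forall_lt_step (b := 1412500) h564 log_okAt1410000 rfl
  have h566 := forall_lt_step (b := 1415000) h565 log_okAt1412500 rfl
  have h567 := forall_lt_step (b := 1417500) h566 log_okAt1415000 rfl
  have h568 := forall_lt_step (b := 1420000) h567 log_okAt1417500 rfl
  have h569 := forall_lt_step (b := 1422500) h568 log_okAt1420000 rfl
  have h570 := forall_lt_step (b := 1425000) h569 log_okAt1422500 rfl
  have h571 := forall_lt_step (b := 1427500) h570 log_okAt1425000 rfl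
  have h572 := forall_lt_step (b := 1430000) h571 log_okAt1427500 rfl
  have h573 := forall_lt_step (b := 1432500) h572 log_okAt1430000 rfl
  have h574 := forall_lt_step (b := 1435000) h573 log_okAt1432500 rfl
  have h575 := forall_lt_step (b := 1437500) h574 log_okAt1435000 rfl
  have h576 := forall_lt_step (b := 1440000) h575 log_okAt1437500 rfl
  have h577 := forall_lt_step (b := 1442500) h576 log_okAt1440000 rfl
  have h578 := forall_lt_step (b := 1445000) h577 log_okAt1442500 rfl
  have h579 := forall_lt_step (b := 1447500) h578 log_okAt1445000 rfl
  have h580 := forall_lt_step (b := 1450000) h579 log_okAt1447500 rfl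
  have h581 := forall_lt_step (b := 1452500) h580 log_okAt1450000 rfl
  have h582 := forall_lt_step (b := 1455000) h581 log_okAt1452500 rfl
  have h583 := forall_lt_step (b := 1457500) h582 log_okAt1455000 rfl
  have h584 := forall_lt_step (b := 1460000) h583 log_okAt1457500 rfl
  have h585 := forall_lt_step (b := 1462500) h584 log_okAt1460000 rfl
  have h586 := forall_lt_step (b := 1465000) h585 log_okAt1462500 rfl
  have h587 := forall_lt_step (b := 1467500) h586 log_okAt1465000 rfl
  have h588 := forall_lt_step (b := 1470000) h587 log_okAt1467500 rfl
  have h589 := forall_lt_step (b := 1472500) h588 log_okAt1470000 rfl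
  have h590 := forall_lt_step (b := 1475000) h589 log_okAt1472500 rfl
  have h591 := forall_lt_step (b := 1477500) h590 log_okAt1475000 rfl
  have h592 := forall_lt_step (b := 1480000) h591 log_okAt1477500 rfl
  have h593 := forall_lt_step (b := 1482500) h592 log_okAt1480000 rfl
  have h594 := forall_lt_step (b := 1485000) h593 log_okAt1482500 rfl
  have h595 := forall_lt_step (b := 1487500) h594 log_okAt1485000 rfl
  have h596 := forall_lt_step (b := 1490000) h595 log_okAt1487500 rfl
  have h597 := forall_lt_step (b := 1492500) h596 log_okAt1490000 rfl
  have h598 := forall_lt_step (b := 1495000) h597 log_okAt1492500 rfl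
  have h599 := forall_lt_step (b := 1497500) h598 log_okAt1495000 rfl
  have h600 := forall_lt_step (b := 1500000) h599 log_okAt1497500 rfl
  have h601 := forall_lt_step (b := 1502500) h600 log_okAt1500000 rfl
  have h602 := forall_lt_step (b := 1505000) h601 log_okAt1502500 rfl
  have h603 := forall_lt_step (b := 1507500) h602 log_okAt1505000 rfl
  have h604 := forall_lt_step (b := 1510000) h603 log_okAt1507500 rfl
  have h605 := forall_lt_step (b := 1512500) h604 log_okAt1510000 rfl
  have h606 := forall_lt_step (b := 1515000) h605 log_okAt1512500 rfl
  have h607 := forall_lt_step (b := 1517500) h606 log_okAt1515000 rfl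
  have h608 := forall_lt_step (b := 1520000) h607 log_okAt1517500 rfl
  have h609 := forall_lt_step (b := 1522500) h608 log_okAt1520000 rfl
  have h610 := forall_lt_step (b := 1525000) h609 log_okAt1522500 rfl
  have h611 := forall_lt_step (b := 1527500) h610 log_okAt1525000 rfl
  have h612 := forall_lt_step (b := 1530000) h611 log_okAt1527500 rfl
  have h613 := forall_lt_step (b := 1532500) h612 log_okAt1530000 rfl
  have h614 := forall_lt_step (b := 1535000) h613 log_okAt1532500 rfl
  have h615 := forall_lt_step (b := 1537500) h614 log_okAt1535000 rfl
  have h616 := forall_lt_step (b := 1540000) h615 log_okAt1537500 rfl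
  have h617 := forall_lt_step (b := 1542500) h616 log_okAt1540000 rfl
  have h618 := forall_lt_step (b := 1545000) h617 log_okAt1542500 rfl
  have h619 := forall_lt_step (b := 1547500) h618 log_okAt1545000 rfl
  have h620 := forall_lt_step (b := 1550000) h619 log_okAt1547500 rfl
  have h621 := forall_lt_step (b := 1552500) h620 log_okAt1550000 rfl
  have h622 := forall_lt_step (b := 1555000) h621 log_okAt1552500 rfl
  have h623 := forall_lt_step (b := 1557500) h622 log_okAt1555000 rfl
  have h624 := forall_lt_step (b := 1560000) h623 log_okAt1557500 rfl
  have h625 := forall_lt_step (b := 1562500) h624 log_okAt1560000 rfl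
  have h626 := forall_lt_step (b := 1565000) h625 log_okAt1562500 rfl
  have h627 := forall_lt_step (b := 1567500) h626 log_okAt1565000 rfl
  have h628 := forall_lt_step (b := 1570000) h627 log_okAt1567500 rfl
  have h629 := forall_lt_step (b := 1572500) h628 log_okAt1570000 rfl
  have h630 := forall_lt_step (b := 1575000) h629 log_okAt1572500 rfl
  have h631 := forall_lt_step (b := 1577500) h630 log_okAt1575000 rfl
  have h632 := forall_lt_step (b := 1580000) h631 log_okAt1577500 rfl
  have h633 := forall_lt_step (b := 1582500) h632 log_okAt1580000 rfl
  have h634 := forall_lt_step (b := 1585000) h633 log_okAt1582500 rfl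
  have h635 := forall_lt_step (b := 1587500) h634 log_okAt1585000 rfl
  have h636 := forall_lt_step (b := 1590000) h635 log_okAt1587500 rfl
  have h637 := forall_lt_step (b := 1592500) h636 log_okAt1590000 rfl
  have h638 := forall_lt_step (b := 1595000) h637 log_okAt1592500 rfl
  have h639 := forall_lt_step (b := 1597500) h638 log_okAt1595000 rfl
  have h640 := forall_lt_step (b := 1600000) h639 log_okAt1597500 rfl
  have h641 := forall_lt_step (b := 1602500) h640 log_okAt1600000 rfl
  have h642 := forall_lt_step (b := 1605000) h641 log_okAt1602500 rfl
  have h643 := forall_lt_step (b := 1607500) h642 log_okAt1605000 rfl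
  have h644 := forall_lt_step (b := 1610000) h643 log_okAt1607500 rfl
  have h645 := forall_lt_step (b := 1612500) h644 log_okAt1610000 rfl
  have h646 := forall_lt_step (b := 1615000) h645 log_okAt1612500 rfl
  have h647 := forall_lt_step (b := 1617500) h646 log_okAt1615000 rfl
  have h648 := forall_lt_step (b := 1620000) h647 log_okAt1617500 rfl
  have h649 := forall_lt_step (b := 1622500) h648 log_okAt1620000 rfl
  have h650 := forall_lt_step (b := 1625000) h649 log_okAt1622500 rfl
  have h651 := forall_lt_step (b := 1627500) h650 log_okAt1625000 rfl
  have h652 := forall_lt_step (b := 1630000) h651 log_okAt1627500 rfl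
  have h653 := forall_lt_step (b := 1632500) h652 log_okAt1630000 rfl
  have h654 := forall_lt_step (b := 1635000) h653 log_okAt1632500 rfl
  have h655 := forall_lt_step (b := 1637500) h654 log_okAt1635000 rfl
  have h656 := forall_lt_step (b := 1640000) h655 log_okAt1637500 rfl
  have h657 := forall_lt_step (b := 1642500) h656 log_okAt1640000 rfl
  have h658 := forall_lt_step (b := 1645000) h657 log_okAt1642500 rfl
  have h659 := forall_lt_step (b := 1647500) h658 log_okAt1645000 rfl
  have h660 := forall_lt_step (b := 1650000) h659 log_okAt1647500 rfl
  have h661 := forall_lt_step (b := 1652500) h660 log_okAt1650000 rfl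
  have h662 := forall_lt_step (b := 1655000) h661 log_okAt1652500 rfl
  have h663 := forall_lt_step (b := 1657500) h662 log_okAt1655000 rfl
  have h664 := forall_lt_step (b := 1660000) h663 log_okAt1657500 rfl
  have h665 := forall_lt_step (b := 1662500) h664 log_okAt1660000 rfl
  have h666 := forall_lt_step (b := 1665000) h665 log_okAt1662500 rfl
  have h667 := forall_lt_step (b := 1667500) h666 log_okAt1665000 rfl
  have h668 := forall_lt_step (b := 1670000) h667 log_okAt1667500 rfl
  have h669 := forall_lt_step (b := 1672500) h668 log_okAt1670000 rfl
  have h670 := forall_lt_step (b := 1675000) h669 log_okAt1672500 rfl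
  have h671 := forall_lt_step (b := 1677500) h670 log_okAt1675000 rfl
  have h672 := forall_lt_step (b := 1680000) h671 log_okAt1677500 rfl
  have h673 := forall_lt_step (b := 1682500) h672 log_okAt1680000 rfl
  have h674 := forall_lt_step (b := 1685000) h673 log_okAt1682500 rfl
  have h675 := forall_lt_step (b := 1687500) h674 log_okAt1685000 rfl
  have h676 := forall_lt_step (b := 1690000) h675 log_okAt1687500 rfl
  have h677 := forall_lt_step (b := 1692500) h676 log_okAt1690000 rfl
  have h678 := forall_lt_step (b := 1695000) h677 log_okAt1692500 rfl
  have h679 := forall_lt_step (b := 1697500) h678 log_okAt1695000 rfl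
  have h680 := forall_lt_step (b := 1700000) h679 log_okAt1697500 rfl
  have h681 := forall_lt_step (b := 1702500) h680 log_okAt1700000 rfl
  have h682 := forall_lt_step (b := 1705000) h681 log_okAt1702500 rfl
  have h683 := forall_lt_step (b := 1707500) h682 log_okAt1705000 rfl
  have h684 := forall_lt_step (b := 1710000) h683 log_okAt1707500 rfl
  have h685 := forall_lt_step (b := 1712500) h684 log_okAt1710000 rfl
  have h686 := forall_lt_step (b := 1715000) h685 log_okAt1712500 rfl
  have h687 := forall_lt_step (b := 1717500) h686 log_okAt1715000 rfl
  have h688 := forall_lt_step (b := 1720000) h687 log_okAt1717500 rfl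
  have h689 := forall_lt_step (b := 1722500) h688 log_okAt1720000 rfl
  have h690 := forall_lt_step (b := 1725000) h689 log_okAt1722500 rfl
  have h691 := forall_lt_step (b := 1727500) h690 log_okAt1725000 rfl
  have h692 := forall_lt_step (b := 1730000) h691 log_okAt1727500 rfl
  have h693 := forall_lt_step (b := 1732500) h692 log_okAt1730000 rfl
  have h694 := forall_lt_step (b := 1735000) h693 log_okAt1732500 rfl
  have h695 := forall_lt_step (b := 1737500) h694 log_okAt1735000 rfl
  have h696 := forall_lt_step (b := 1740000) h695 log_okAt1737500 rfl
  have h697 := forall_lt_step (b := 1742500) h696 log_okAt1740000 rfl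
  have h698 := forall_lt_step (b := 1745000) h697 log_okAt1742500 rfl
  have h699 := forall_lt_step (b := 1747500) h698 log_okAt1745000 rfl
  have h700 := forall_lt_step (b := 1750000) h699 log_okAt1747500 rfl
  have h701 := forall_lt_step (b := 1752500) h700 log_okAt1750000 rfl
  have h702 := forall_lt_step (b := 1755000) h701 log_okAt1752500 rfl
  have h703 := forall_lt_step (b := 1757500) h702 log_okAt1755000 rfl
  have h704 := forall_lt_step (b := 1760000) h703 log_okAt1757500 rfl
  have h705 := forall_lt_step (b := 1762500) h704 log_okAt1760000 rfl
  have h706 := forall_lt_step (b := 1765000) h705 log_okAt1762500 rfl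
  have h707 := forall_lt_step (b := 1767500) h706 log_okAt1765000 rfl
  have h708 := forall_lt_step (b := 1770000) h707 log_okAt1767500 rfl
  have h709 := forall_lt_step (b := 1772500) h708 log_okAt1770000 rfl
  have h710 := forall_lt_step (b := 1775000) h709 log_okAt1772500 rfl
  have h711 := forall_lt_step (b := 1777500) h710 log_okAt1775000 rfl
  have h712 := forall_lt_step (b := 1780000) h711 log_okAt1777500 rfl
  have h713 := forall_lt_step (b := 1782500) h712 log_okAt1780000 rfl
  have h714 := forall_lt_step (b := 1785000) h713 log_okAt1782500 rfl
  have h715 := forall_lt_step (b := 1787500) h714 log_okAt1785000 rfl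
  have h716 := forall_lt_step (b := 1790000) h715 log_okAt1787500 rfl
  have h717 := forall_lt_step (b := 1792500) h716 log_okAt1790000 rfl
  have h718 := forall_lt_step (b := 1795000) h717 log_okAt1792500 rfl
  have h719 := forall_lt_step (b := 1797500) h718 log_okAt1795000 rfl
  have h720 := forall_lt_step (b := 1800000) h719 log_okAt1797500 rfl
  have h721 := forall_lt_step (b := 1802500) h720 log_okAt1800000 rfl
  have h722 := forall_lt_step (b := 1805000) h721 log_okAt1802500 rfl
  have h723 := forall_lt_step (b := 1807500) h722 log_okAt1805000 rfl
  have h724 := forall_lt_step (b := 1810000) h723 log_okAt1807500 rfl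
  have h725 := forall_lt_step (b := 1812500) h724 log_okAt1810000 rfl
  have h726 := forall_lt_step (b := 1815000) h725 log_okAt1812500 rfl
  have h727 := forall_lt_step (b := 1817500) h726 log_okAt1815000 rfl
  have h728 := forall_lt_step (b := 1820000) h727 log_okAt1817500 rfl
  have h729 := forall_lt_step (b := 1822500) h728 log_okAt1820000 rfl
  have h730 := forall_lt_step (b := 1825000) h729 log_okAt1822500 rfl
  have h731 := forall_lt_step (b := 1827500) h730 log_okAt1825000 rfl
  have h732 := forall_lt_step (b := 1830000) h731 log_okAt1827500 rfl
  have h733 := forall_lt_step (b := 1832500) h732 log_okAt1830000 rfl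
  have h734 := forall_lt_step (b := 1835000) h733 log_okAt1832500 rfl
  have h735 := forall_lt_step (b := 1837500) h734 log_okAt1835000 rfl
  have h736 := forall_lt_step (b := 1840000) h735 log_okAt1837500 rfl
  have h737 := forall_lt_step (b := 1842500) h736 log_okAt1840000 rfl
  have h738 := forall_lt_step (b := 1845000) h737 log_okAt1842500 rfl
  have h739 := forall_lt_step (b := 1847500) h738 log_okAt1845000 rfl
  have h740 := forall_lt_step (b := 1850000) h739 log_okAt1847500 rfl
  have h741 := forall_lt_step (b := 1852500) h740 log_okAt1850000 rfl
  have h742 := forall_lt_step (b := 1855000) h741 log_okAt1852500 rfl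
  have h743 := forall_lt_step (b := 1857500) h742 log_okAt1855000 rfl
  have h744 := forall_lt_step (b := 1860000) h743 log_okAt1857500 rfl
  have h745 := forall_lt_step (b := 1862500) h744 log_okAt1860000 rfl
  have h746 := forall_lt_step (b := 1865000) h745 log_okAt1862500 rfl
  have h747 := forall_lt_step (b := 1867500) h746 log_okAt1865000 rfl
  have h748 := forall_lt_step (b := 1870000) h747 log_okAt1867500 rfl
  have h749 := forall_lt_step (b := 1872500) h748 log_okAt1870000 rfl
  have h750 := forall_lt_step (b := 1875000) h749 log_okAt1872500 rfl
  have h751 := forall_lt_step (b := 1877500) h750 log_okAt1875000 rfl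
  have h752 := forall_lt_step (b := 1880000) h751 log_okAt1877500 rfl
  have h753 := forall_lt_step (b := 1882500) h752 log_okAt1880000 rfl
  have h754 := forall_lt_step (b := 1885000) h753 log_okAt1882500 rfl
  have h755 := forall_lt_step (b := 1887500) h754 log_okAt1885000 rfl
  have h756 := forall_lt_step (b := 1890000) h755 log_okAt1887500 rfl
  have h757 := forall_lt_step (b := 1892500) h756 log_okAt1890000 rfl
  have h758 := forall_lt_step (b := 1895000) h757 log_okAt1892500 rfl
  have h759 := forall_lt_step (b := 1897500) h758 log_okAt1895000 rfl
  have h760 := forall_lt_step (b := 1900000) h759 log_okAt1897500 rfl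
  have h761 := forall_lt_step (b := 1902500) h760 log_okAt1900000 rfl
  have h762 := forall_lt_step (b := 1905000) h761 log_okAt1902500 rfl
  have h763 := forall_lt_step (b := 1907500) h762 log_okAt1905000 rfl
  have h764 := forall_lt_step (b := 1910000) h763 log_okAt1907500 rfl
  have h765 := forall_lt_step (b := 1912500) h764 log_okAt1910000 rfl
  have h766 := forall_lt_step (b := 1915000) h765 log_okAt1912500 rfl
  have h767 := forall_lt_step (b := 1917500) h766 log_okAt1915000 rfl
  have h768 := forall_lt_step (b := 1920000) h767 log_okAt1917500 rfl
  have h769 := forall_lt_step (b := 1922500) h768 log_okAt1920000 rfl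
  have h770 := forall_lt_step (b := 1925000) h769 log_okAt1922500 rfl
  have h771 := forall_lt_step (b := 1927500) h770 log_okAt1925000 rfl
  have h772 := forall_lt_step (b := 1930000) h771 log_okAt1927500 rfl
  have h773 := forall_lt_step (b := 1932500) h772 log_okAt1930000 rfl
  have h774 := forall_lt_step (b := 1935000) h773 log_okAt1932500 rfl
  have h775 := forall_lt_step (b := 1937500) h774 log_okAt1935000 rfl
  have h776 := forall_lt_step (b := 1940000) h775 log_okAt1937500 rfl
  have h777 := forall_lt_step (b := 1942500) h776 log_okAt1940000 rfl
  have h778 := forall_lt_step (b := 1945000) h777 log_okAt1942500 rfl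
  have h779 := forall_lt_step (b := 1947500) h778 log_okAt1945000 rfl
  have h780 := forall_lt_step (b := 1950000) h779 log_okAt1947500 rfl
  have h781 := forall_lt_step (b := 1952500) h780 log_okAt1950000 rfl
  have h782 := forall_lt_step (b := 1955000) h781 log_okAt1952500 rfl
  have h783 := forall_lt_step (b := 1957500) h782 log_okAt1955000 rfl
  have h784 := forall_lt_step (b := 1960000) h783 log_okAt1957500 rfl
  have h785 := forall_lt_step (b := 1962500) h784 log_okAt1960000 rfl
  have h786 := forall_lt_step (b := 1965000) h785 log_okAt1962500 rfl
  have h787 := forall_lt_step (b := 1967500) h786 log_okAt1965000 rfl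
  have h788 := forall_lt_step (b := 1970000) h787 log_okAt1967500 rfl
  have h789 := forall_lt_step (b := 1972500) h788 log_okAt1970000 rfl
  have h790 := forall_lt_step (b := 1975000) h789 log_okAt1972500 rfl
  have h791 := forall_lt_step (b := 1977500) h790 log_okAt1975000 rfl
  have h792 := forall_lt_step (b := 1980000) h791 log_okAt1977500 rfl
  have h793 := forall_lt_step (b := 1982500) h792 log_okAt1980000 rfl
  have h794 := forall_lt_step (b := 1985000) h793 log_okAt1982500 rfl
  have h795 := forall_lt_step (b := 1987500) h794 log_okAt1985000 rfl
  have h796 := forall_lt_step (b := 1990000) h795 log_okAt1987500 rfl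
  have h797 := forall_lt_step (b := 1992500) h796 log_okAt1990000 rfl
  have h798 := forall_lt_step (b := 1995000) h797 log_okAt1992500 rfl
  have h799 := forall_lt_step (b := 1997500) h798 log_okAt1995000 rfl
  have h800 := forall_lt_step (b := 2000000) h799 log_okAt1997500 rfl
  have h801 := forall_lt_step (b := 2002500) h800 log_okAt2000000 rfl
  have h802 := forall_lt_step (b := 2005000) h801 log_okAt2002500 rfl
  have h803 := forall_lt_step (b := 2007500) h802 log_okAt2005000 rfl
  have h804 := forall_lt_step (b := 2010000) h803 log_okAt2007500 rfl
  have h805 := forall_lt_step (b := 2012500) h804 log_okAt2010000 rfl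
  have h806 := forall_lt_step (b := 2015000) h805 log_okAt2012500 rfl
  have h807 := forall_lt_step (b := 2017500) h806 log_okAt2015000 rfl
  have h808 := forall_lt_step (b := 2020000) h807 log_okAt2017500 rfl
  have h809 := forall_lt_step (b := 2022500) h808 log_okAt2020000 rfl
  have h810 := forall_lt_step (b := 2025000) h809 log_okAt2022500 rfl
  have h811 := forall_lt_step (b := 2027500) h810 log_okAt2025000 rfl
  have h812 := forall_lt_step (b := 2030000) h811 log_okAt2027500 rfl
  have h813 := forall_lt_step (b := 2032500) h812 log_okAt2030000 rfl
  have h814 := forall_lt_step (b := 2035000) h813 log_okAt2032500 rfl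
  have h815 := forall_lt_step (b := 2037500) h814 log_okAt2035000 rfl
  have h816 := forall_lt_step (b := 2040000) h815 log_okAt2037500 rfl
  have h817 := forall_lt_step (b := 2042500) h816 log_okAt2040000 rfl
  have h818 := forall_lt_step (b := 2045000) h817 log_okAt2042500 rfl
  have h819 := forall_lt_step (b := 2047500) h818 log_okAt2045000 rfl
  have h820 := forall_lt_step (b := 2050000) h819 log_okAt2047500 rfl
  have h821 := forall_lt_step (b := 2052500) h820 log_okAt2050000 rfl
  have h822 := forall_lt_step (b := 2055000) h821 log_okAt2052500 rfl
  have h823 := forall_lt_step (b := 2057500) h822 log_okAt2055000 rfl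
  have h824 := forall_lt_step (b := 2060000) h823 log_okAt2057500 rfl
  have h825 := forall_lt_step (b := 2062500) h824 log_okAt2060000 rfl
  have h826 := forall_lt_step (b := 2065000) h825 log_okAt2062500 rfl
  have h827 := forall_lt_step (b := 2067500) h826 log_okAt2065000 rfl
  have h828 := forall_lt_step (b := 2070000) h827 log_okAt2067500 rfl
  have h829 := forall_lt_step (b := 2072500) h828 log_okAt2070000 rfl
  have h830 := forall_lt_step (b := 2075000) h829 log_okAt2072500 rfl
  have h831 := forall_lt_step (b := 2077500) h830 log_okAt2075000 rfl
  have h832 := forall_lt_step (b := 2080000) h831 log_okAt2077500 rfl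
  have h833 := forall_lt_step (b := 2082500) h832 log_okAt2080000 rfl
  have h834 := forall_lt_step (b := 2085000) h833 log_okAt2082500 rfl
  have h835 := forall_lt_step (b := 2087500) h834 log_okAt2085000 rfl
  have h836 := forall_lt_step (b := 2090000) h835 log_okAt2087500 rfl
  have h837 := forall_lt_step (b := 2092500) h836 log_okAt2090000 rfl
  have h838 := forall_lt_step (b := 2095000) h837 log_okAt2092500 rfl
  have h839 := forall_lt_step (b := 2097500) h838 log_okAt2095000 rfl
  have h840 := forall_lt_step (b := 2100000) h839 log_okAt2097500 rfl
  have h841 := forall_lt_step (b := 2102500) h840 log_okAt2100000 rfl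
  have h842 := forall_lt_step (b := 2105000) h841 log_okAt2102500 rfl
  have h843 := forall_lt_step (b := 2107500) h842 log_okAt2105000 rfl
  have h844 := forall_lt_step (b := 2110000) h843 log_okAt2107500 rfl
  have h845 := forall_lt_step (b := 2112500) h844 log_okAt2110000 rfl
  have h846 := forall_lt_step (b := 2115000) h845 log_okAt2112500 rfl
  have h847 := forall_lt_step (b := 2117500) h846 log_okAt2115000 rfl
  have h848 := forall_lt_step (b := 2120000) h847 log_okAt2117500 rfl
  have h849 := forall_lt_step (b := 2122500) h848 log_okAt2120000 rfl
  have h850 := forall_lt_step (b := 2125000) h849 log_okAt2122500 rfl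
  have h851 := forall_lt_step (b := 2127500) h850 log_okAt2125000 rfl
  have h852 := forall_lt_step (b := 2130000) h851 log_okAt2127500 rfl
  have h853 := forall_lt_step (b := 2132500) h852 log_okAt2130000 rfl
  have h854 := forall_lt_step (b := 2135000) h853 log_okAt2132500 rfl
  have h855 := forall_lt_step (b := 2137500) h854 log_okAt2135000 rfl
  have h856 := forall_lt_step (b := 2140000) h855 log_okAt2137500 rfl
  have h857 := forall_lt_step (b := 2142500) h856 log_okAt2140000 rfl
  have h858 := forall_lt_step (b := 2145000) h857 log_okAt2142500 rfl
  have h859 := forall_lt_step (b := 2147500) h858 log_okAt2145000 rfl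
  have h860 := forall_lt_step (b := 2150000) h859 log_okAt2147500 rfl
  have h861 := forall_lt_step (b := 2152500) h860 log_okAt2150000 rfl
  have h862 := forall_lt_step (b := 2155000) h861 log_okAt2152500 rfl
  have h863 := forall_lt_step (b := 2157500) h862 log_okAt2155000 rfl
  have h864 := forall_lt_step (b := 2160000) h863 log_okAt2157500 rfl
  have h865 := forall_lt_step (b := 2162500) h864 log_okAt2160000 rfl
  have h866 := forall_lt_step (b := 2165000) h865 log_okAt2162500 rfl
  have h867 := forall_lt_step (b := 2167500) h866 log_okAt2165000 rfl
  have h868 := forall_lt_step (b := 2170000) h867 log_okAt2167500 rfl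
  have h869 := forall_lt_step (b := 2172500) h868 log_okAt2170000 rfl
  have h870 := forall_lt_step (b := 2175000) h869 log_okAt2172500 rfl
  have h871 := forall_lt_step (b := 2177500) h870 log_okAt2175000 rfl
  have h872 := forall_lt_step (b := 2180000) h871 log_okAt2177500 rfl
  have h873 := forall_lt_step (b := 2182500) h872 log_okAt2180000 rfl
  have h874 := forall_lt_step (b := 2185000) h873 log_okAt2182500 rfl
  have h875 := forall_lt_step (b := 2187500) h874 log_okAt2185000 rfl
  have h876 := forall_lt_step (b := 2190000) h875 log_okAt2187500 rfl
  have h877 := forall_lt_step (b := 2192500) h876 log_okAt2190000 rfl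
  have h878 := forall_lt_step (b := 2195000) h877 log_okAt2192500 rfl
  have h879 := forall_lt_step (b := 2197500) h878 log_okAt2195000 rfl
  have h880 := forall_lt_step (b := 2200000) h879 log_okAt2197500 rfl
  have h881 := forall_lt_step (b := 2202500) h880 log_okAt2200000 rfl
  have h882 := forall_lt_step (b := 2205000) h881 log_okAt2202500 rfl
  have h883 := forall_lt_step (b := 2207500) h882 log_okAt2205000 rfl
  have h884 := forall_lt_step (b := 2210000) h883 log_okAt2207500 rfl
  have h885 := forall_lt_step (b := 2212500) h884 log_okAt2210000 rfl
  have h886 := forall_lt_step (b := 2215000) h885 log_okAt2212500 rfl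
  have h887 := forall_lt_step (b := 2217500) h886 log_okAt2215000 rfl
  have h888 := forall_lt_step (b := 2220000) h887 log_okAt2217500 rfl
  have h889 := forall_lt_step (b := 2222500) h888 log_okAt2220000 rfl
  have h890 := forall_lt_step (b := 2225000) h889 log_okAt2222500 rfl
  have h891 := forall_lt_step (b := 2227500) h890 log_okAt2225000 rfl
  have h892 := forall_lt_step (b := 2230000) h891 log_okAt2227500 rfl
  have h893 := forall_lt_step (b := 2232500) h892 log_okAt2230000 rfl
  have h894 := forall_lt_step (b := 2235000) h893 log_okAt2232500 rfl
  have h895 := forall_lt_step (b := 2237500) h894 log_okAt2235000 rfl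
  have h896 := forall_lt_step (b := 2240000) h895 log_okAt2237500 rfl
  have h897 := forall_lt_step (b := 2242500) h896 log_okAt2240000 rfl
  have h898 := forall_lt_step (b := 2245000) h897 log_okAt2242500 rfl
  have h899 := forall_lt_step (b := 2247500) h898 log_okAt2245000 rfl
  have h900 := forall_lt_step (b := 2250000) h899 log_okAt2247500 rfl
  have h901 := forall_lt_step (b := 2252500) h900 log_okAt2250000 rfl
  have h902 := forall_lt_step (b := 2255000) h901 log_okAt2252500 rfl
  have h903 := forall_lt_step (b := 2257500) h902 log_okAt2255000 rfl
  have h904 := forall_lt_step (b := 2260000) h903 log_okAt2257500 rfl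
  have h905 := forall_lt_step (b := 2262500) h904 log_okAt2260000 rfl
  have h906 := forall_lt_step (b := 2265000) h905 log_okAt2262500 rfl
  have h907 := forall_lt_step (b := 2267500) h906 log_okAt2265000 rfl
  have h908 := forall_lt_step (b := 2270000) h907 log_okAt2267500 rfl
  have h909 := forall_lt_step (b := 2272500) h908 log_okAt2270000 rfl
  have h910 := forall_lt_step (b := 2275000) h909 log_okAt2272500 rfl
  have h911 := forall_lt_step (b := 2277500) h910 log_okAt2275000 rfl
  have h912 := forall_lt_step (b := 2280000) h911 log_okAt2277500 rfl
  have h913 := forall_lt_step (b := 2282500) h912 log_okAt2280000 rfl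
  have h914 := forall_lt_step (b := 2285000) h913 log_okAt2282500 rfl
  have h915 := forall_lt_step (b := 2287500) h914 log_okAt2285000 rfl
  have h916 := forall_lt_step (b := 2290000) h915 log_okAt2287500 rfl
  have h917 := forall_lt_step (b := 2292500) h916 log_okAt2290000 rfl
  have h918 := forall_lt_step (b := 2295000) h917 log_okAt2292500 rfl
  have h919 := forall_lt_step (b := 2297500) h918 log_okAt2295000 rfl
  have h920 := forall_lt_step (b := 2300000) h919 log_okAt2297500 rfl
  have h921 := forall_lt_step (b := 2302500) h920 log_okAt2300000 rfl
  have h922 := forall_lt_step (b := 2304183) h921 log_okAt2302500 rfl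
  exact h922

end Cfsg.Agent.CosetCert.Fi24Index
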