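import Cfsg.Agent.CosetCert.Fi24Index.Defs

/-! Generated: kernel checks. -/

set_option Elab.async false

namespace Cfsg.Agent.CosetCert.Fi24Index

theorem log_okAt1380000 : allFrom data.checkLog 1380000 2500 = true := by decide +kernel

theorem log_okAt1382500 : allFrom data.checkLog 1382500 2500 = true := by decide +kernel

theorem log_okAt1385000 : allFrom data.checkLog 1385000 2500 = true := by decide +kernel

theorem log_okAt1387500 : allFrom data.checkLog 1387500 2500 = true := by decide +kernel

theorem log_okAt1390000 : allFrom data.checkLog 1390000 2500 = true := by decide +kernel

theorem log_okAt1392500 : allFrom data.checkLog 1392500 2500 = true := by decide +kernel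

theorem log_okAt1395000 : allFrom data.checkLog 1395000 2500 = true := by decide +kernel

theorem log_okAt1397500 : allFrom data.checkLog 1397500 2500 = true := by decide +kernel

theorem log_okAt1400000 : allFrom data.checkLog 1400000 2500 = true := by decide +kernel

theorem log_okAt1402500 : allFrom data.checkLog 1402500 2500 = true := by decide +kernel

theorem log_okAt1405000 : allFrom data.checkLog 1405000 2500 = true := by decide +kernel

theorem log_okAt1407500 : allFrom data.checkLog 1407500 2500 = true := by decide +kernel

theorem log_okAt1410000 : allFrom data.checkLog 1410000 2500 = true := by decide +kernel

theorem log_okAt1412500 : allFrom data.checkLog 1412500 2500 = true := by decide +kernel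

theorem log_okAt1415000 : allFrom data.checkLog 1415000 2500 = true := by decide +kernel

theorem log_okAt1417500 : allFrom data.checkLog 1417500 2500 = true := by decide +kernel

theorem log_okAt1420000 : allFrom data.checkLog 1420000 2500 = true := by decide +kernel

theorem log_okAt1422500 : allFrom data.checkLog 1422500 2500 = true := by decide +kernel

theorem log_okAt1425000 : allFrom data.checkLog 1425000 2500 = true := by decide +kernel

theorem log_okAt1427500 : allFrom data.checkLog 1427500 2500 = true := by decide +kernel

theorem log_okAt1430000 : allFrom data.checkLog 1430000 2500 = true := by decide +kernel

theorem log_okAt1432500 : allFrom data.checkLog 1432500 2500 = true := by decide +kernel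

theorem log_okAt1435000 : allFrom data.checkLog 1435000 2500 = true := by decide +kernel

theorem log_okAt1437500 : allFrom data.checkLog 1437500 2500 = true := by decide +kernel

end Cfsg.Agent.CosetCert.Fi24Index
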