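import Cfsg.Agent.CosetCert.Fi24Index.Defs

/-! Generated: kernel checks. -/

set_option Elab.async false

namespace Cfsg.Agent.CosetCert.Fi24Index

theorem log_okAt2100000 : allFrom data.checkLog 2100000 2500 = true := by decide +kernel

theorem log_okAt2102500 : allFrom data.checkLog 2102500 2500 = true := by decide +kernel

theorem log_okAt2105000 : allFrom data.checkLog 2105000 2500 = true := by decide +kernel

theorem log_okAt2107500 : allFrom data.checkLog 2107500 2500 = true := by decide +kernel

theorem log_okAt2110000 : allFrom data.checkLog 2110000 2500 = true := by decide +kernel

theorem log_okAt2112500 : allFrom data.checkLog 2112500 2500 = true := by decide +kernel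

theorem log_okAt2115000 : allFrom data.checkLog 2115000 2500 = true := by decide +kernel

theorem log_okAt2117500 : allFrom data.checkLog 2117500 2500 = true := by decide +kernel

theorem log_okAt2120000 : allFrom data.checkLog 2120000 2500 = true := by decide +kernel

theorem log_okAt2122500 : allFrom data.checkLog 2122500 2500 = true := by decide +kernel

theorem log_okAt2125000 : allFrom data.checkLog 2125000 2500 = true := by decide +kernel

theorem log_okAt2127500 : allFrom data.checkLog 2127500 2500 = true := by decide +kernel

theorem log_okAt2130000 : allFrom data.checkLog 2130000 2500 = true := by decide +kernel

theorem log_okAt2132500 : allFrom data.checkLog 2132500 2500 = true := by decide +kernel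

theorem log_okAt2135000 : allFrom data.checkLog 2135000 2500 = true := by decide +kernel

theorem log_okAt2137500 : allFrom data.checkLog 2137500 2500 = true := by decide +kernel

theorem log_okAt2140000 : allFrom data.checkLog 2140000 2500 = true := by decide +kernel

theorem log_okAt2142500 : allFrom data.checkLog 2142500 2500 = true := by decide +kernel

theorem log_okAt2145000 : allFrom data.checkLog 2145000 2500 = true := by decide +kernel

theorem log_okAt2147500 : allFrom data.checkLog 2147500 2500 = true := by decide +kernel

theorem log_okAt2150000 : allFrom data.checkLog 2150000 2500 = true := by decide +kernel

theorem log_okAt2152500 : allFrom data.checkLog 2152500 2500 = true := by decide +kernel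

theorem log_okAt2155000 : allFrom data.checkLog 2155000 2500 = true := by decide +kernel

theorem log_okAt2157500 : allFrom data.checkLog 2157500 2500 = true := by decide +kernel

end Cfsg.Agent.CosetCert.Fi24Index
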