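import Cfsg.Agent.CosetCert.Fi24Index.Defs

/-! Generated: kernel checks. -/

set_option Elab.async false

namespace Cfsg.Agent.CosetCert.Fi24Index

theorem pairs_okAt0 : allFrom (data.checkPairs row braids (List.range 12)) 0 500 = true := by decide +kernel

theorem pairs_okAt500 : allFrom (data.checkPairs row braids (List.range 12)) 500 500 = true := by decide +kernel

theorem pairs_okAt1000 : allFrom (data.checkPairs row braids (List.range 12)) 1000 500 = true := by decide +kernel

theorem pairs_okAt1500 : allFrom (data.checkPairs row braids (List.range 12)) 1500 500 = true := by decide +kernel

theorem pairs_okAt2000 : allFrom (data.checkPairs row braids (List.range 12)) 2000 500 = true := by decide +kernel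

theorem pairs_okAt2500 : allFrom (data.checkPairs row braids (List.range 12)) 2500 500 = true := by decide +kernel

theorem pairs_okAt3000 : allFrom (data.checkPairs row braids (List.range 12)) 3000 500 = true := by decide +kernel

theorem pairs_okAt3500 : allFrom (data.checkPairs row braids (List.range 12)) 3500 500 = true := by decide +kernel

theorem pairs_okAt4000 : allFrom (data.checkPairs row braids (List.range 12)) 4000 500 = true := by decide +kernel

theorem pairs_okAt4500 : allFrom (data.checkPairs row braids (List.range 12)) 4500 500 = true := by decide +kernel

theorem pairs_okAt5000 : allFrom (data.checkPairs row braids (List.range 12)) 5000 500 = true := by decide +kernel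

theorem pairs_okAt5500 : allFrom (data.checkPairs row braids (List.range 12)) 5500 500 = true := by decide +kernel

theorem pairs_okAt6000 : allFrom (data.checkPairs row braids (List.range 12)) 6000 500 = true := by decide +kernel

theorem pairs_okAt6500 : allFrom (data.checkPairs row braids (List.range 12)) 6500 500 = true := by decide +kernel

theorem pairs_okAt7000 : allFrom (data.checkPairs row braids (List.range 12)) 7000 500 = true := by decide +kernel

theorem pairs_okAt7500 : allFrom (data.checkPairs row braids (List.range 12)) 7500 500 = true := by decide +kernel

theorem pairs_okAt8000 : allFrom (data.checkPairs row braids (List.range 12)) 8000 500 = true := by decide +kernel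

theorem pairs_okAt8500 : allFrom (data.checkPairs row braids (List.range 12)) 8500 500 = true := by decide +kernel

theorem pairs_okAt9000 : allFrom (data.checkPairs row braids (List.range 12)) 9000 500 = true := by decide +kernel

theorem pairs_okAt9500 : allFrom (data.checkPairs row braids (List.range 12)) 9500 500 = true := by decide +kernel

theorem pairs_okAt10000 : allFrom (data.checkPairs row braids (List.range 12)) 10000 500 = true := by decide +kernel

theorem pairs_okAt10500 : allFrom (data.checkPairs row braids (List.range 12)) 10500 500 = true := by decide +kernel

theorem pairs_okAt11000 : allFrom (data.checkPairs row braids (List.range 12)) 11000 500 = true := by decide +kernel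

theorem pairs_okAt11500 : allFrom (data.checkPairs row braids (List.range 12)) 11500 500 = true := by decide +kernel

theorem pairs_okAt12000 : allFrom (data.checkPairs row braids (List.range 12)) 12000 500 = true := by decide +kernel

theorem pairs_okAt12500 : allFrom (data.checkPairs row braids (List.range 12)) 12500 500 = true := by decide +kernel

theorem pairs_okAt13000 : allFrom (data.checkPairs row braids (List.range 12)) 13000 500 = true := by decide +kernel

theorem pairs_okAt13500 : allFrom (data.checkPairs row braids (List.range 12)) 13500 500 = true := by decide +kernel

theorem pairs_okAt14000 : allFrom (data.checkPairs row braids (List.range 12)) 14000 500 = true := by decide +kernel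

theorem pairs_okAt14500 : allFrom (data.checkPairs row braids (List.range 12)) 14500 500 = true := by decide +kernel

theorem pairs_okAt15000 : allFrom (data.checkPairs row braids (List.range 12)) 15000 500 = true := by decide +kernel

theorem pairs_okAt15500 : allFrom (data.checkPairs row braids (List.range 12)) 15500 500 = true := by decide +kernel

theorem pairs_okAt16000 : allFrom (data.checkPairs row braids (List.range 12)) 16000 500 = true := by decide +kernel

theorem pairs_okAt16500 : allFrom (data.checkPairs row braids (List.range 12)) 16500 500 = true := by decide +kernel

theorem pairs_okAt17000 : allFrom (data.checkPairs row braids (List.range 12)) 17000 500 = true := by decide +kernel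

theorem pairs_okAt17500 : allFrom (data.checkPairs row braids (List.range 12)) 17500 500 = true := by decide +kernel

theorem pairs_okAt18000 : allFrom (data.checkPairs row braids (List.range 12)) 18000 500 = true := by decide +kernel

theorem pairs_okAt18500 : allFrom (data.checkPairs row braids (List.range 12)) 18500 500 = true := by decide +kernel

theorem pairs_okAt19000 : allFrom (data.checkPairs row braids (List.range 12)) 19000 500 = true := by decide +kernel

theorem pairs_okAt19500 : allFrom (data.checkPairs row braids (List.range 12)) 19500 500 = true := by decide +kernel

end Cfsg.Agent.CosetCert.Fi24Index
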