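import Cfsg.Agent.CosetCert.Fi24Index.Defs

/-! Generated: kernel checks. -/

set_option Elab.async false

namespace Cfsg.Agent.CosetCert.Fi24Index

theorem pairs_okAt220000 : allFrom (data.checkPairs row braids (List.range 12)) 220000 500 = true := by decide +kernel

theorem pairs_okAt220500 : allFrom (data.checkPairs row braids (List.range 12)) 220500 500 = true := by decide +kernel

theorem pairs_okAt221000 : allFrom (data.checkPairs row braids (List.range 12)) 221000 500 = true := by decide +kernel

theorem pairs_okAt221500 : allFrom (data.checkPairs row braids (List.range 12)) 221500 500 = true := by decide +kernel

theorem pairs_okAt222000 : allFrom (data.checkPairs row braids (List.range 12)) 222000 500 = true := by decide +kernel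

theorem pairs_okAt222500 : allFrom (data.checkPairs row braids (List.range 12)) 222500 500 = true := by decide +kernel

theorem pairs_okAt223000 : allFrom (data.checkPairs row braids (List.range 12)) 223000 500 = true := by decide +kernel

theorem pairs_okAt223500 : allFrom (data.checkPairs row braids (List.range 12)) 223500 500 = true := by decide +kernel

theorem pairs_okAt224000 : allFrom (data.checkPairs row braids (List.range 12)) 224000 500 = true := by decide +kernel

theorem pairs_okAt224500 : allFrom (data.checkPairs row braids (List.range 12)) 224500 500 = true := by decide +kernel

theorem pairs_okAt225000 : allFrom (data.checkPairs row braids (List.range 12)) 225000 500 = true := by decide +kernel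

theorem pairs_okAt225500 : allFrom (data.checkPairs row braids (List.range 12)) 225500 500 = true := by decide +kernel

theorem pairs_okAt226000 : allFrom (data.checkPairs row braids (List.range 12)) 226000 500 = true := by decide +kernel

theorem pairs_okAt226500 : allFrom (data.checkPairs row braids (List.range 12)) 226500 500 = true := by decide +kernel

theorem pairs_okAt227000 : allFrom (data.checkPairs row braids (List.range 12)) 227000 500 = true := by decide +kernel

theorem pairs_okAt227500 : allFrom (data.checkPairs row braids (List.range 12)) 227500 500 = true := by decide +kernel

theorem pairs_okAt228000 : allFrom (data.checkPairs row braids (List.range 12)) 228000 500 = true := by decide +kernel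

theorem pairs_okAt228500 : allFrom (data.checkPairs row braids (List.range 12)) 228500 500 = true := by decide +kernel

theorem pairs_okAt229000 : allFrom (data.checkPairs row braids (List.range 12)) 229000 500 = true := by decide +kernel

theorem pairs_okAt229500 : allFrom (data.checkPairs row braids (List.range 12)) 229500 500 = true := by decide +kernel

theorem pairs_okAt230000 : allFrom (data.checkPairs row braids (List.range 12)) 230000 500 = true := by decide +kernel

theorem pairs_okAt230500 : allFrom (data.checkPairs row braids (List.range 12)) 230500 500 = true := by decide +kernel

theorem pairs_okAt231000 : allFrom (data.checkPairs row braids (List.range 12)) 231000 500 = true := by decide +kernel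

theorem pairs_okAt231500 : allFrom (data.checkPairs row braids (List.range 12)) 231500 500 = true := by decide +kernel

theorem pairs_okAt232000 : allFrom (data.checkPairs row braids (List.range 12)) 232000 500 = true := by decide +kernel

theorem pairs_okAt232500 : allFrom (data.checkPairs row braids (List.range 12)) 232500 500 = true := by decide +kernel

theorem pairs_okAt233000 : allFrom (data.checkPairs row braids (List.range 12)) 233000 500 = true := by decide +kernel

theorem pairs_okAt233500 : allFrom (data.checkPairs row braids (List.range 12)) 233500 500 = true := by decide +kernel

theorem pairs_okAt234000 : allFrom (data.checkPairs row braids (List.range 12)) 234000 500 = true := by decide +kernel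

theorem pairs_okAt234500 : allFrom (data.checkPairs row braids (List.range 12)) 234500 500 = true := by decide +kernel

theorem pairs_okAt235000 : allFrom (data.checkPairs row braids (List.range 12)) 235000 500 = true := by decide +kernel

theorem pairs_okAt235500 : allFrom (data.checkPairs row braids (List.range 12)) 235500 500 = true := by decide +kernel

theorem pairs_okAt236000 : allFrom (data.checkPairs row braids (List.range 12)) 236000 500 = true := by decide +kernel

theorem pairs_okAt236500 : allFrom (data.checkPairs row braids (List.range 12)) 236500 500 = true := by decide +kernel

theorem pairs_okAt237000 : allFrom (data.checkPairs row braids (List.range 12)) 237000 500 = true := by decide +kernel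

theorem pairs_okAt237500 : allFrom (data.checkPairs row braids (List.range 12)) 237500 500 = true := by decide +kernel

theorem pairs_okAt238000 : allFrom (data.checkPairs row braids (List.range 12)) 238000 500 = true := by decide +kernel

theorem pairs_okAt238500 : allFrom (data.checkPairs row braids (List.range 12)) 238500 500 = true := by decide +kernel

theorem pairs_okAt239000 : allFrom (data.checkPairs row braids (List.range 12)) 239000 500 = true := by decide +kernel

theorem pairs_okAt239500 : allFrom (data.checkPairs row braids (List.range 12)) 239500 500 = true := by decide +kernel

end Cfsg.Agent.CosetCert.Fi24Index
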