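import Cfsg.Agent.CosetCert.Fi24Index.Defs

/-! Generated: kernel checks. -/

set_option Elab.async false

namespace Cfsg.Agent.CosetCert.Fi24Index

theorem spider_okAt0 : allFrom (checkPower data spider (get48 spiderStore) 17) 0 1000 = true := by decide +kernel

theorem spider_okAt1000 : allFrom (checkPower data spider (get48 spiderStore) 17) 1000 1000 = true := by decide +kernel

theorem spider_okAt2000 : allFrom (checkPower data spider (get48 spiderStore) 17) 2000 1000 = true := by decide +kernel

theorem spider_okAt3000 : allFrom (checkPower data spider (get48 spiderStore) 17) 3000 1000 = true := by decide +kernel

theorem spider_okAt4000 : allFrom (checkPower data spider (get48 spiderStore) 17) 4000 1000 = true := by decide +kernel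

theorem spider_okAt5000 : allFrom (checkPower data spider (get48 spiderStore) 17) 5000 1000 = true := by decide +kernel

theorem spider_okAt6000 : allFrom (checkPower data spider (get48 spiderStore) 17) 6000 1000 = true := by decide +kernel

theorem spider_okAt7000 : allFrom (checkPower data spider (get48 spiderStore) 17) 7000 1000 = true := by decide +kernel

theorem spider_okAt8000 : allFrom (checkPower data spider (get48 spiderStore) 17) 8000 1000 = true := by decide +kernel

theorem spider_okAt9000 : allFrom (checkPower data spider (get48 spiderStore) 17) 9000 1000 = true := by decide +kernel

theorem spider_okAt10000 : allFrom (checkPower data spider (get48 spiderStore) 17) 10000 1000 = true := by decide +kernel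

theorem spider_okAt11000 : allFrom (checkPower data spider (get48 spiderStore) 17) 11000 1000 = true := by decide +kernel

theorem spider_okAt12000 : allFrom (checkPower data spider (get48 spiderStore) 17) 12000 1000 = true := by decide +kernel

theorem spider_okAt13000 : allFrom (checkPower data spider (get48 spiderStore) 17) 13000 1000 = true := by decide +kernel

theorem spider_okAt14000 : allFrom (checkPower data spider (get48 spiderStore) 17) 14000 1000 = true := by decide +kernel

theorem spider_okAt15000 : allFrom (checkPower data spider (get48 spiderStore) 17) 15000 1000 = true := by decide +kernel

theorem spider_okAt16000 : allFrom (checkPower data spider (get48 spiderStore) 17) 16000 1000 = true := by decide +kernel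

theorem spider_okAt17000 : allFrom (checkPower data spider (get48 spiderStore) 17) 17000 1000 = true := by decide +kernel

theorem spider_okAt18000 : allFrom (checkPower data spider (get48 spiderStore) 17) 18000 1000 = true := by decide +kernel

theorem spider_okAt19000 : allFrom (checkPower data spider (get48 spiderStore) 17) 19000 1000 = true := by decide +kernel

theorem spider_okAt20000 : allFrom (checkPower data spider (get48 spiderStore) 17) 20000 1000 = true := by decide +kernel

theorem spider_okAt21000 : allFrom (checkPower data spider (get48 spiderStore) 17) 21000 1000 = true := by decide +kernel

theorem spider_okAt22000 : allFrom (checkPower data spider (get48 spiderStore) 17) 22000 1000 = true := by decide +kernel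

theorem spider_okAt23000 : allFrom (checkPower data spider (get48 spiderStore) 17) 23000 1000 = true := by decide +kernel

theorem spider_okAt24000 : allFrom (checkPower data spider (get48 spiderStore) 17) 24000 1000 = true := by decide +kernel

theorem spider_okAt25000 : allFrom (checkPower data spider (get48 spiderStore) 17) 25000 1000 = true := by decide +kernel

theorem spider_okAt26000 : allFrom (checkPower data spider (get48 spiderStore) 17) 26000 1000 = true := by decide +kernel

theorem spider_okAt27000 : allFrom (checkPower data spider (get48 spiderStore) 17) 27000 1000 = true := by decide +kernel

theorem spider_okAt28000 : allFrom (checkPower data spider (get48 spiderStore) 17) 28000 1000 = true := by decide +kernel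

theorem spider_okAt29000 : allFrom (checkPower data spider (get48 spiderStore) 17) 29000 1000 = true := by decide +kernel

theorem spider_okAt30000 : allFrom (checkPower data spider (get48 spiderStore) 17) 30000 1000 = true := by decide +kernel

theorem spider_okAt31000 : allFrom (checkPower data spider (get48 spiderStore) 17) 31000 1000 = true := by decide +kernel

end Cfsg.Agent.CosetCert.Fi24Index
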