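import Cfsg.Agent.CosetCert.Fi24Index.Defs

/-! Generated: kernel checks. -/

set_option Elab.async false

namespace Cfsg.Agent.CosetCert.Fi24Index

theorem coset_okAt0 : allFrom data.checkCoset 0 500 = true := by decide +kernel

theorem coset_okAt500 : allFrom data.checkCoset 500 500 = true := by decide +kernel

theorem coset_okAt1000 : allFrom data.checkCoset 1000 500 = true := by decide +kernel

theorem coset_okAt1500 : allFrom data.checkCoset 1500 500 = true := by decide +kernel

theorem coset_okAt2000 : allFrom data.checkCoset 2000 500 = true := by decide +kernel

theorem coset_okAt2500 : allFrom data.checkCoset 2500 500 = true := by decide +kernel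

theorem coset_okAt3000 : allFrom data.checkCoset 3000 500 = true := by decide +kernel

theorem coset_okAt3500 : allFrom data.checkCoset 3500 500 = true := by decide +kernel

theorem coset_okAt4000 : allFrom data.checkCoset 4000 500 = true := by decide +kernel

theorem coset_okAt4500 : allFrom data.checkCoset 4500 500 = true := by decide +kernel

theorem coset_okAt5000 : allFrom data.checkCoset 5000 500 = true := by decide +kernel

theorem coset_okAt5500 : allFrom data.checkCoset 5500 500 = true := by decide +kernel

theorem coset_okAt6000 : allFrom data.checkCoset 6000 500 = true := by decide +kernel

theorem coset_okAt6500 : allFrom data.checkCoset 6500 500 = true := by decide +kernel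

theorem coset_okAt7000 : allFrom data.checkCoset 7000 500 = true := by decide +kernel

theorem coset_okAt7500 : allFrom data.checkCoset 7500 500 = true := by decide +kernel

theorem coset_okAt8000 : allFrom data.checkCoset 8000 500 = true := by decide +kernel

theorem coset_okAt8500 : allFrom data.checkCoset 8500 500 = true := by decide +kernel

theorem coset_okAt9000 : allFrom data.checkCoset 9000 500 = true := by decide +kernel

theorem coset_okAt9500 : allFrom data.checkCoset 9500 500 = true := by decide +kernel

theorem coset_okAt10000 : allFrom data.checkCoset 10000 500 = true := by decide +kernel

theorem coset_okAt10500 : allFrom data.checkCoset 10500 500 = true := by decide +kernel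

theorem coset_okAt11000 : allFrom data.checkCoset 11000 500 = true := by decide +kernel

theorem coset_okAt11500 : allFrom data.checkCoset 11500 500 = true := by decide +kernel

theorem coset_okAt12000 : allFrom data.checkCoset 12000 500 = true := by decide +kernel

theorem coset_okAt12500 : allFrom data.checkCoset 12500 500 = true := by decide +kernel

theorem coset_okAt13000 : allFrom data.checkCoset 13000 500 = true := by decide +kernel

theorem coset_okAt13500 : allFrom data.checkCoset 13500 500 = true := by decide +kernel

theorem coset_okAt14000 : allFrom data.checkCoset 14000 500 = true := by decide +kernel

theorem coset_okAt14500 : allFrom data.checkCoset 14500 500 = true := by decide +kernel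

theorem coset_okAt15000 : allFrom data.checkCoset 15000 500 = true := by decide +kernel

theorem coset_okAt15500 : allFrom data.checkCoset 15500 500 = true := by decide +kernel

theorem coset_okAt16000 : allFrom data.checkCoset 16000 500 = true := by decide +kernel

theorem coset_okAt16500 : allFrom data.checkCoset 16500 500 = true := by decide +kernel

theorem coset_okAt17000 : allFrom data.checkCoset 17000 500 = true := by decide +kernel

theorem coset_okAt17500 : allFrom data.checkCoset 17500 500 = true := by decide +kernel

theorem coset_okAt18000 : allFrom data.checkCoset 18000 500 = true := by decide +kernel

theorem coset_okAt18500 : allFrom data.checkCoset 18500 500 = true := by decide +kernel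

theorem coset_okAt19000 : allFrom data.checkCoset 19000 500 = true := by decide +kernel

theorem coset_okAt19500 : allFrom data.checkCoset 19500 500 = true := by decide +kernel

end Cfsg.Agent.CosetCert.Fi24Index
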