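import Cfsg.Agent.CosetCert.Fi24Index.Defs

/-! Generated: kernel checks. -/

set_option Elab.async false

namespace Cfsg.Agent.CosetCert.Fi24Index

theorem coset_okAt220000 : allFrom data.checkCoset 220000 500 = true := by decide +kernel

theorem coset_okAt220500 : allFrom data.checkCoset 220500 500 = true := by decide +kernel

theorem coset_okAt221000 : allFrom data.checkCoset 221000 500 = true := by decide +kernel

theorem coset_okAt221500 : allFrom data.checkCoset 221500 500 = true := by decide +kernel

theorem coset_okAt222000 : allFrom data.checkCoset 222000 500 = true := by decide +kernel

theorem coset_okAt222500 : allFrom data.checkCoset 222500 500 = true := by decide +kernel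

theorem coset_okAt223000 : allFrom data.checkCoset 223000 500 = true := by decide +kernel

theorem coset_okAt223500 : allFrom data.checkCoset 223500 500 = true := by decide +kernel

theorem coset_okAt224000 : allFrom data.checkCoset 224000 500 = true := by decide +kernel

theorem coset_okAt224500 : allFrom data.checkCoset 224500 500 = true := by decide +kernel

theorem coset_okAt225000 : allFrom data.checkCoset 225000 500 = true := by decide +kernel

theorem coset_okAt225500 : allFrom data.checkCoset 225500 500 = true := by decide +kernel

theorem coset_okAt226000 : allFrom data.checkCoset 226000 500 = true := by decide +kernel

theorem coset_okAt226500 : allFrom data.checkCoset 226500 500 = true := by decide +kernel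

theorem coset_okAt227000 : allFrom data.checkCoset 227000 500 = true := by decide +kernel

theorem coset_okAt227500 : allFrom data.checkCoset 227500 500 = true := by decide +kernel

theorem coset_okAt228000 : allFrom data.checkCoset 228000 500 = true := by decide +kernel

theorem coset_okAt228500 : allFrom data.checkCoset 228500 500 = true := by decide +kernel

theorem coset_okAt229000 : allFrom data.checkCoset 229000 500 = true := by decide +kernel

theorem coset_okAt229500 : allFrom data.checkCoset 229500 500 = true := by decide +kernel

theorem coset_okAt230000 : allFrom data.checkCoset 230000 500 = true := by decide +kernel

theorem coset_okAt230500 : allFrom data.checkCoset 230500 500 = true := by decide +kernel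

theorem coset_okAt231000 : allFrom data.checkCoset 231000 500 = true := by decide +kernel

theorem coset_okAt231500 : allFrom data.checkCoset 231500 500 = true := by decide +kernel

theorem coset_okAt232000 : allFrom data.checkCoset 232000 500 = true := by decide +kernel

theorem coset_okAt232500 : allFrom data.checkCoset 232500 500 = true := by decide +kernel

theorem coset_okAt233000 : allFrom data.checkCoset 233000 500 = true := by decide +kernel

theorem coset_okAt233500 : allFrom data.checkCoset 233500 500 = true := by decide +kernel

theorem coset_okAt234000 : allFrom data.checkCoset 234000 500 = true := by decide +kernel

theorem coset_okAt234500 : allFrom data.checkCoset 234500 500 = true := by decide +kernel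

theorem coset_okAt235000 : allFrom data.checkCoset 235000 500 = true := by decide +kernel

theorem coset_okAt235500 : allFrom data.checkCoset 235500 500 = true := by decide +kernel

theorem coset_okAt236000 : allFrom data.checkCoset 236000 500 = true := by decide +kernel

theorem coset_okAt236500 : allFrom data.checkCoset 236500 500 = true := by decide +kernel

theorem coset_okAt237000 : allFrom data.checkCoset 237000 500 = true := by decide +kernel

theorem coset_okAt237500 : allFrom data.checkCoset 237500 500 = true := by decide +kernel

theorem coset_okAt238000 : allFrom data.checkCoset 238000 500 = true := by decide +kernel

theorem coset_okAt238500 : allFrom data.checkCoset 238500 500 = true := by decide +kernel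

theorem coset_okAt239000 : allFrom data.checkCoset 239000 500 = true := by decide +kernel

theorem coset_okAt239500 : allFrom data.checkCoset 239500 500 = true := by decide +kernel

end Cfsg.Agent.CosetCert.Fi24Index
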