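import Cfsg.Agent.CosetCert.Fi24Index.Defs

/-! Generated: kernel checks. -/

set_option Elab.async false

namespace Cfsg.Agent.CosetCert.Fi24Index

theorem tail_okAt0 : allFrom (data.checkTail coxeter (get48 coxeterStore) 9 11) 0 1000 = true := by decide +kernel

theorem tail_okAt1000 : allFrom (data.checkTail coxeter (get48 coxeterStore) 9 11) 1000 1000 = true := by decide +kernel

theorem tail_okAt2000 : allFrom (data.checkTail coxeter (get48 coxeterStore) 9 11) 2000 1000 = true := by decide +kernel

theorem tail_okAt3000 : allFrom (data.checkTail coxeter (get48 coxeterStore) 9 11) 3000 1000 = true := by decide +kernel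

theorem tail_okAt4000 : allFrom (data.checkTail coxeter (get48 coxeterStore) 9 11) 4000 1000 = true := by decide +kernel

theorem tail_okAt5000 : allFrom (data.checkTail coxeter (get48 coxeterStore) 9 11) 5000 1000 = true := by decide +kernel

theorem tail_okAt6000 : allFrom (data.checkTail coxeter (get48 coxeterStore) 9 11) 6000 1000 = true := by decide +kernel

theorem tail_okAt7000 : allFrom (data.checkTail coxeter (get48 coxeterStore) 9 11) 7000 1000 = true := by decide +kernel

theorem tail_okAt8000 : allFrom (data.checkTail coxeter (get48 coxeterStore) 9 11) 8000 1000 = true := by decide +kernel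

theorem tail_okAt9000 : allFrom (data.checkTail coxeter (get48 coxeterStore) 9 11) 9000 1000 = true := by decide +kernel

theorem tail_okAt10000 : allFrom (data.checkTail coxeter (get48 coxeterStore) 9 11) 10000 1000 = true := by decide +kernel

theorem tail_okAt11000 : allFrom (data.checkTail coxeter (get48 coxeterStore) 9 11) 11000 1000 = true := by decide +kernel

theorem tail_okAt12000 : allFrom (data.checkTail coxeter (get48 coxeterStore) 9 11) 12000 1000 = true := by decide +kernel

theorem tail_okAt13000 : allFrom (data.checkTail coxeter (get48 coxeterStore) 9 11) 13000 1000 = true := by decide +kernel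

theorem tail_okAt14000 : allFrom (data.checkTail coxeter (get48 coxeterStore) 9 11) 14000 1000 = true := by decide +kernel

theorem tail_okAt15000 : allFrom (data.checkTail coxeter (get48 coxeterStore) 9 11) 15000 1000 = true := by decide +kernel

theorem tail_okAt16000 : allFrom (data.checkTail coxeter (get48 coxeterStore) 9 11) 16000 1000 = true := by decide +kernel

theorem tail_okAt17000 : allFrom (data.checkTail coxeter (get48 coxeterStore) 9 11) 17000 1000 = true := by decide +kernel

theorem tail_okAt18000 : allFrom (data.checkTail coxeter (get48 coxeterStore) 9 11) 18000 1000 = true := by decide +kernel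

theorem tail_okAt19000 : allFrom (data.checkTail coxeter (get48 coxeterStore) 9 11) 19000 1000 = true := by decide +kernel

theorem tail_okAt20000 : allFrom (data.checkTail coxeter (get48 coxeterStore) 9 11) 20000 1000 = true := by decide +kernel

theorem tail_okAt21000 : allFrom (data.checkTail coxeter (get48 coxeterStore) 9 11) 21000 1000 = true := by decide +kernel

theorem tail_okAt22000 : allFrom (data.checkTail coxeter (get48 coxeterStore) 9 11) 22000 1000 = true := by decide +kernel

theorem tail_okAt23000 : allFrom (data.checkTail coxeter (get48 coxeterStore) 9 11) 23000 1000 = true := by decide +kernel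

theorem tail_okAt24000 : allFrom (data.checkTail coxeter (get48 coxeterStore) 9 11) 24000 1000 = true := by decide +kernel

theorem tail_okAt25000 : allFrom (data.checkTail coxeter (get48 coxeterStore) 9 11) 25000 1000 = true := by decide +kernel

theorem tail_okAt26000 : allFrom (data.checkTail coxeter (get48 coxeterStore) 9 11) 26000 1000 = true := by decide +kernel

theorem tail_okAt27000 : allFrom (data.checkTail coxeter (get48 coxeterStore) 9 11) 27000 1000 = true := by decide +kernel

theorem tail_okAt28000 : allFrom (data.checkTail coxeter (get48 coxeterStore) 9 11) 28000 1000 = true := by decide +kernel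

theorem tail_okAt29000 : allFrom (data.checkTail coxeter (get48 coxeterStore) 9 11) 29000 1000 = true := by decide +kernel

theorem tail_okAt30000 : allFrom (data.checkTail coxeter (get48 coxeterStore) 9 11) 30000 1000 = true := by decide +kernel

theorem tail_okAt31000 : allFrom (data.checkTail coxeter (get48 coxeterStore) 9 11) 31000 1000 = true := by decide +kernel

end Cfsg.Agent.CosetCert.Fi24Index
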