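import Cfsg.Agent.CosetCert.Fi24Index.Cert

/-! Generated: the index. -/

set_option maxRecDepth 100000

namespace Cfsg.Agent.CosetCert.Fi24Index

theorem spells : Data.Spells data (Cfsg.Spor.coxRelators Cfsg.Spor.Fi24.edges ∪ {r | r ∈ Cfsg.Spor.Fi24.extra})
    subGens enc dec (coxWords genList Cfsg.Spor.Fi24.edges Cfsg.Spor.Fi24.extra) := by
  apply spells_cox data genList
  · intro z; cases z <;> decide
  · intro z; cases z <;> exact ⟨by decide +kernel, by decide +kernel, rfl⟩
  · show ∀ x, x < 12 → _
    intro x hx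
    interval_cases x <;> exact ⟨by decide +kernel, by decide +kernel, rfl⟩
  · intro z; cases z <;> decide
  · decide +kernel
  · decide +kernel

theorem index_val : (Data.sub (Cfsg.Spor.coxRelators Cfsg.Spor.Fi24.edges ∪ {r | r ∈ Cfsg.Spor.Fi24.extra})
    subGens).index = 306936 :=
  Data.index_eq valid spells

end Cfsg.Agent.CosetCert.Fi24Index
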